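import Groth.Prelude.Def_ClSub2
import Mathlib.AlgebraicGeometry.Morphisms.Proper
import Mathlib.AlgebraicGeometry.Morphisms.ClosedImmersion
import Mathlib.AlgebraicGeometry.Morphisms.FiniteType
import Mathlib.AlgebraicGeometry.Morphisms.Immersion

set_option autoImplicit false
universe u

open CategoryTheory CategoryTheory.Limits AlgebraicGeometry Opposite

namespace Groth.Agent.H4

variable {T' T S : Scheme.{u}}

/-- separatedness descends along a surjective closed immersion of the source -/
theorem isSeparated_of_comp_surj_closedImm (j : T' ⟶ T) (g : T ⟶ S)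
    [IsClosedImmersion j] [Surjective j] [IsSeparated (j ≫ g)] : IsSeparated g := by
  let h : pullback (j ≫ g) (j ≫ g) ⟶ pullback g g :=
    pullback.map (j ≫ g) (j ≫ g) g g j j (𝟙 S) ((Category.comp_id _).trans rfl)
      ((Category.comp_id _).trans rfl)
  haveI : MorphismProperty.IsStableUnderComposition @IsClosedImmersion.{u} :=
    (inferInstance : MorphismProperty.IsMultiplicative @IsClosedImmersion.{u}).toIsStableUnderComposition
  have hh : IsClosedImmersion h :=
    MorphismProperty.pullbackMap (P := @IsClosedImmersion.{u}) (f := j ≫ g) (g := j ≫ g)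
      (f' := g) (g' := g) (i₁ := j) (i₂ := j) inferInstance inferInstance rfl rfl
  have hcomm : pullback.diagonal (j ≫ g) ≫ h = j ≫ pullback.diagonal g := by
    apply pullback.hom_ext
    · simp only [h, Category.assoc, pullback.lift_fst, pullback.diagonal_fst,
        pullback.diagonal_fst_assoc, Category.comp_id]
    · simp only [h, Category.assoc, pullback.lift_snd, pullback.diagonal_snd,
        pullback.diagonal_snd_assoc, Category.comp_id]
  have hrange : Set.range (pullback.diagonal g) =
      h '' (Set.range (pullback.diagonal (j ≫ g))) := by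
    have h1 : Set.range (j ≫ pullback.diagonal g) = Set.range (pullback.diagonal g) := by
      rw [Scheme.Hom.comp_base, TopCat.coe_comp, Set.range_comp]
      have : Set.range j = Set.univ := Set.range_eq_univ.2 j.surjective
      rw [this, Set.image_univ]
    rw [← h1, ← hcomm, Scheme.Hom.comp_base, TopCat.coe_comp, Set.range_comp]
  have hclosed : IsClosed (Set.range (pullback.diagonal g)) := by
    rw [hrange]
    exact h.isClosedEmbedding.isClosedMap _
      (pullback.diagonal (j ≫ g)).isClosedEmbedding.isClosed_range
  exact ⟨IsClosedImmersion.of_isPreimmersion _ hclosed⟩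

/-- quasi-compactness descends along a surjective morphism of the source -/
theorem quasiCompact_of_comp_surj (j : T' ⟶ T) (g : T ⟶ S)
    [Surjective j] [QuasiCompact (j ≫ g)] : QuasiCompact g := by
  refine ⟨fun U hU hUc => ?_⟩
  have h1 : IsCompact ((j ≫ g) ⁻¹' U) := QuasiCompact.isCompact_preimage U hU hUc
  have h2 : g ⁻¹' U = j '' ((j ≫ g) ⁻¹' U) := by
    ext x
    constructor
    · intro hx
      obtain ⟨y, rfl⟩ := j.surjective x
      exact ⟨y, by simpa using hx, rfl⟩
    · rintro ⟨y, hy, rfl⟩
      simpa using hy
  rw [h2]
  exact h1.image j.continuous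

/-- properness descends along a surjective closed immersion of the source -/
theorem isProper_of_comp_surj_closedImm (j : T' ⟶ T) (g : T ⟶ S)
    [IsClosedImmersion j] [Surjective j] [LocallyOfFiniteType g] [IsProper (j ≫ g)] :
    IsProper g := by
  haveI : IsSeparated g := isSeparated_of_comp_surj_closedImm j g
  haveI : UniversallyClosed g := UniversallyClosed.of_comp_surjective j g
  haveI : QuasiCompact g := quasiCompact_of_comp_surj j g
  exact {}

variable {X : Scheme.{u}}

/-- properness of a closed subscheme over the base only depends on the underlying closed set -/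
theorem isProper_of_range_eq (f : X ⟶ S) [LocallyOfFiniteType f]
    (i : T ⟶ X) (i' : T' ⟶ X) [IsClosedImmersion i] [IsClosedImmersion i']
    (hr : Set.range i = Set.range i') [IsProper (i ≫ f)] : IsProper (i' ≫ f) := by
  haveI : Surjective (pullback.snd i i') := by
    refine ⟨?_⟩
    rw [← Set.range_eq_univ, Scheme.Pullback.range_snd, hr]
    ext x
    simp
  haveI : IsProper (pullback.snd i i' ≫ (i' ≫ f)) := by
    rw [← Category.assoc, ← pullback.condition, Category.assoc]
    infer_instance
  exact isProper_of_comp_surj_closedImm (pullback.snd i i') (i' ≫ f)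

theorem range_vanishingIdeal_subschemeι (Z : Set X) (hZ : IsClosed Z) :
    Set.range (Scheme.IdealSheafData.vanishingIdeal ⟨Z, hZ⟩).subschemeι = Z := by
  rw [Scheme.IdealSheafData.range_subschemeι, Scheme.IdealSheafData.coe_support_vanishingIdeal]
  rfl

/-- `IsProperOver` can be tested on any closed subscheme structure. -/
theorem isProperOver_of_closedImmersion (f : X ⟶ S) [LocallyOfFiniteType f]
    (i : T ⟶ X) [IsClosedImmersion i] [IsProper (i ≫ f)] :
    ClSub.IsProperOver f (Set.range i) := by
  have hcl : IsClosed (Set.range i) := i.isClosedEmbedding.isClosed_range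
  refine ⟨hcl, ?_⟩
  exact isProper_of_range_eq f i _ (range_vanishingIdeal_subschemeι _ hcl).symm

theorem isProper_of_isProperOver (f : X ⟶ S) [LocallyOfFiniteType f]
    (i : T ⟶ X) [IsClosedImmersion i] (h : ClSub.IsProperOver f (Set.range i)) :
    IsProper (i ≫ f) := by
  obtain ⟨hcl, hp⟩ := h
  haveI := hp
  exact isProper_of_range_eq f _ i (range_vanishingIdeal_subschemeι _ hcl)

end Groth.Agent.H4
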