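import Mathlib

/-!
Enough geometric points on the small etale site, in "local" form and for coefficient
categories in any universe: stalkwise injective (surjective) morphisms of presheaves are locally
injective (surjective).
-/

set_option autoImplicit false
open CategoryTheory CategoryTheory.Limits AlgebraicGeometry Opposite
universe u w' v' u'

namespace Groth.Agent.H4

theorem mem_smallEtaleTopology_of_forall {X : Scheme.{u}} (U : X.Etale) (R : Sieve U)
    (h : ∀ x : U.left, ∃ (V : X.Etale) (g : V ⟶ U) (v : V.left), R g ∧ g.left.base v = x) :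
    R ∈ X.smallEtaleTopology U := by
  have eX : X.smallEtaleTopology =
      (X.smallPretopology (P := @Etale) (Q := @Etale)).toGrothendieck :=
    Scheme.smallGrothendieckTopology_eq_toGrothendieck_smallPretopology X le_rfl
  rw [eX]
  refine (Scheme.mem_toGrothendieck_smallPretopology U R).2 (fun x => ?_)
  obtain ⟨V, g, v, hg, hv⟩ := h x
  exact ⟨V, g, v, hg, inferInstance, hv⟩

theorem exists_geometric_point {X : Scheme.{u}} (U : X.Etale) (x : U.left) :
    ∃ (Ω : Type u) (_ : Field Ω) (_ : IsSepClosed Ω) (ξ : Spec (CommRingCat.of Ω) ⟶ X)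
      (t : (Scheme.pointSmallEtale ξ).fiber.obj U),
      t.left.base (default : Spec (CommRingCat.of Ω)) = x := by
  obtain ⟨Ω, hΩ, hΩ', ū, hū⟩ : ∃ (Ω : Type u) (_ : Field Ω) (_ : IsSepClosed Ω)
      (ū : Spec (CommRingCat.of Ω) ⟶ U.left), ū.base default = x := by
    refine ⟨AlgebraicClosure (U.left.residueField x), inferInstance, inferInstance,
      Spec.map (CommRingCat.ofHom (algebraMap (U.left.residueField x)
        (AlgebraicClosure (U.left.residueField x)))) ≫ U.left.fromSpecResidueField x, ?_⟩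
    rw [Scheme.Hom.comp_apply]
    exact Scheme.fromSpecResidueField_apply _ _
  exact ⟨Ω, hΩ, hΩ', ū ≫ U.hom, Over.homMk ū rfl, hū⟩

theorem exists_fiber_lift {X : Scheme.{u}} {Ω : Type u} [Field Ω] [IsSepClosed Ω]
    (ξ : Spec (CommRingCat.of Ω) ⟶ X) {U V : X.Etale} (g : V ⟶ U)
    (τ : (Scheme.pointSmallEtale ξ).fiber.obj U) (v : V.left)
    (hv : g.left.base v = τ.left.base (default : Spec (CommRingCat.of Ω))) :
    ∃ τ' : (Scheme.pointSmallEtale ξ).fiber.obj V,
      (Scheme.pointSmallEtale ξ).fiber.map g τ' = τ ∧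
      τ'.left.base (default : Spec (CommRingCat.of Ω)) = v := by
  obtain ⟨l, hl1, hl2⟩ := Scheme.exists_fac_of_etale_of_isSepClosed g.left τ.left v hv
  have hw : l ≫ V.hom = ξ := by
    have h1 : g.left ≫ U.hom = V.hom := Over.w g.hom
    have h2 : τ.left ≫ U.hom = ξ := Over.w τ
    calc l ≫ V.hom = l ≫ (g.left ≫ U.hom) := congrArg (fun q => l ≫ q) h1.symm
      _ = (l ≫ g.left) ≫ U.hom := (Category.assoc _ _ _).symm
      _ = τ.left ≫ U.hom := congrArg (fun q => q ≫ U.hom) hl1
      _ = ξ := h2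
  let τ' : (Over.mk ξ : Over X) ⟶ (Scheme.Etale.forget X).obj V := Over.homMk l hw
  refine ⟨τ', ?_, hl2⟩
  apply Over.OverMorphism.ext
  exact hl1

section

variable {A : Type u'} [Category.{v'} A] [HasColimitsOfSize.{u, u} A]
  {FC : A → A → Type*} {CC : A → Type w'} [∀ X Y, FunLike (FC X Y) (CC X) (CC Y)]
  [ConcreteCategory.{w'} A FC] [PreservesFilteredColimitsOfSize.{u, u} (forget A)]

theorem isLocallyInjective_of_stalks {X : Scheme.{u}} {P Q : X.Etaleᵒᵖ ⥤ A} (f : P ⟶ Q)
    (h : ∀ (Ω : Type u) [Field Ω] [IsSepClosed Ω] (ξ : Spec (CommRingCat.of Ω) ⟶ X),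
      Function.Injective ((Scheme.pointSmallEtale ξ).presheafFiber.map f)) :
    Presheaf.IsLocallyInjective X.smallEtaleTopology f := by
  constructor
  intro U x y hxy
  apply mem_smallEtaleTopology_of_forall
  intro u
  obtain ⟨Ω, _, _, ξ, t, ht⟩ := exists_geometric_point U.unop u
  have h1 : (Scheme.pointSmallEtale ξ).toPresheafFiber U.unop t P x =
      (Scheme.pointSmallEtale ξ).toPresheafFiber U.unop t P y := by
    apply h Ω ξ
    rw [GrothendieckTopology.Point.toPresheafFiber_naturality_apply,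
      GrothendieckTopology.Point.toPresheafFiber_naturality_apply]
    exact congrArg _ hxy
  obtain ⟨V, g, v, hv, hg⟩ :=
    ((Scheme.pointSmallEtale ξ).toPresheafFiber_eq_iff' U.unop t x y).1 h1
  refine ⟨V, g, v.left.base (default : Spec (CommRingCat.of Ω)), hg, ?_⟩
  rw [← ht, ← hv]
  rfl

theorem isLocallySurjective_of_stalks {X : Scheme.{u}} {P Q : X.Etaleᵒᵖ ⥤ A} (f : P ⟶ Q)
    (h : ∀ (Ω : Type u) [Field Ω] [IsSepClosed Ω] (ξ : Spec (CommRingCat.of Ω) ⟶ X),
      Function.Surjective ((Scheme.pointSmallEtale ξ).presheafFiber.map f)) :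
    Presheaf.IsLocallySurjective X.smallEtaleTopology f := by
  constructor
  intro U s
  apply mem_smallEtaleTopology_of_forall
  intro u
  obtain ⟨Ω, _, _, ξ, t, ht⟩ := exists_geometric_point U u
  obtain ⟨p, hp⟩ := h Ω ξ ((Scheme.pointSmallEtale ξ).toPresheafFiber U t Q s)
  obtain ⟨V, v, z, rfl⟩ := (Scheme.pointSmallEtale ξ).toPresheafFiber_jointly_surjective p
  rw [GrothendieckTopology.Point.toPresheafFiber_naturality_apply] at hp
  let e1 : (Scheme.pointSmallEtale ξ).fiber.Elements := ⟨V, v⟩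
  let e2 : (Scheme.pointSmallEtale ξ).fiber.Elements := ⟨U, t⟩
  let m := IsCofiltered.min e1 e2
  let a : m ⟶ e1 := IsCofiltered.minToLeft e1 e2
  let b : m ⟶ e2 := IsCofiltered.minToRight e1 e2
  have ha : (Scheme.pointSmallEtale ξ).fiber.map a.1 m.2 = v := a.2
  have hb : (Scheme.pointSmallEtale ξ).fiber.map b.1 m.2 = t := b.2
  have h1 : (Scheme.pointSmallEtale ξ).toPresheafFiber m.1 m.2 Q (Q.map a.1.op (f.app _ z)) =
      (Scheme.pointSmallEtale ξ).toPresheafFiber m.1 m.2 Q (Q.map b.1.op s) := by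
    rw [GrothendieckTopology.Point.toPresheafFiber_w_apply,
      GrothendieckTopology.Point.toPresheafFiber_w_apply, ha, hb]
    exact hp
  obtain ⟨W', c, w', hw', hc⟩ :=
    ((Scheme.pointSmallEtale ξ).toPresheafFiber_eq_iff' m.1 m.2 _ _).1 h1
  refine ⟨W', c ≫ b.1, w'.left.base (default : Spec (CommRingCat.of Ω)), ⟨P.map (c ≫ a.1).op z, ?_⟩, ?_⟩
  · rw [NatTrans.naturality_apply, op_comp, Q.map_comp, op_comp, Q.map_comp,
      ConcreteCategory.comp_apply, ConcreteCategory.comp_apply]
    exact hc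
  · have e : t = (Scheme.pointSmallEtale ξ).fiber.map b.1
        ((Scheme.pointSmallEtale ξ).fiber.map c w') := by rw [hw', hb]
    have h2 := congrArg (fun q : (Scheme.pointSmallEtale ξ).fiber.obj U =>
      q.left.base (default : Spec (CommRingCat.of Ω))) e
    exact h2.symm.trans ht

end

instance preservesFilteredColimits_forget_addCommGrpCat_succ :
    PreservesFilteredColimitsOfSize.{u, u} (forget AddCommGrpCat.{u + 1}) :=
  preservesFilteredColimitsOfSize_shrink.{u, u + 1, u, u + 1} _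

instance ab5OfSize_addCommGrpCat_succ : AB5OfSize.{u, u} AddCommGrpCat.{u + 1} :=
  AB5OfSize_of_univLE.{u, u, u + 1, u + 1} AddCommGrpCat.{u + 1}

end Groth.Agent.H4
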