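import Mathlib
import Groth.Prelude.Def_SGA4b
import Groth.Agent.H4.GeomPoints

/-!
Basic facts on the small etale site: points of covering sieves, separatedness of sheaves of sets.
-/

set_option autoImplicit false
open CategoryTheory CategoryTheory.Limits AlgebraicGeometry Opposite
universe u

namespace Groth.Agent.H4

/-- A covering sieve of the small etale site hits every point. -/
theorem exists_of_mem_smallEtaleTopology {Z : Scheme.{u}} (B : Z.Etale) (S : Sieve B)
    (hS : S ∈ Z.smallEtaleTopology B) (b : B.left) :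
    ∃ (Y : Z.Etale) (g : Y ⟶ B) (y : Y.left), S g ∧ g.left.base y = b := by
  have eZ : Z.smallEtaleTopology =
      (Z.smallPretopology (P := @Etale) (Q := @Etale)).toGrothendieck :=
    Scheme.smallGrothendieckTopology_eq_toGrothendieck_smallPretopology Z le_rfl
  rw [eZ] at hS
  obtain ⟨Y, g, y, hg, -, hy⟩ := (Scheme.mem_toGrothendieck_smallPretopology _ _).1 hS b
  exact ⟨Y, g, y, hg, hy⟩

/-- The empty sieve covers an empty etale scheme. -/
theorem bot_mem_of_isEmpty {Z : Scheme.{u}} (W : Z.Etale) [IsEmpty W.left] :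
    (⊥ : Sieve W) ∈ Z.smallEtaleTopology W :=
  mem_smallEtaleTopology_of_forall W ⊥ (fun x => isEmptyElim x)

/-- Sections of a sheaf of sets that agree etale-locally around every point agree. -/
theorem eq_of_locally_eq_type {Z : Scheme.{u}} (G : EtDesc.Sh Z) (B : Z.Etale)
    (x y : G.obj.obj (op B))
    (h : ∀ b : B.left, ∃ (Y : Z.Etale) (f : Y ⟶ B) (v : Y.left), f.left.base v = b ∧
      G.obj.map f.op x = G.obj.map f.op y) : x = y := by
  have hsep : Presieve.IsSeparated Z.smallEtaleTopology G.obj :=
    ((isSheaf_iff_isSheaf_of_type _ _).1 G.2).isSeparated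
  have hcov : Presheaf.equalizerSieve (F := G.obj) (X := op B) x y ∈
      Z.smallEtaleTopology B := by
    apply mem_smallEtaleTopology_of_forall
    intro b
    obtain ⟨Y, f, v, hv, hf⟩ := h b
    exact ⟨Y, f, v, hf, hv⟩
  exact (hsep _ hcov).ext (fun _ _ hf => hf)

end Groth.Agent.H4
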