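import Mathlib
import Groth.Prelude.Def_EtBase
import Groth.Agent.H4.GeomPoints

/-!
Restriction of an etale `X`-scheme to an open subscheme, lifting of geometric points to it,
and vanishing of sheaves on empty etale schemes.
-/

set_option autoImplicit false
open CategoryTheory CategoryTheory.Limits AlgebraicGeometry Opposite
universe u

namespace Groth.Agent.H4

/-- Restriction of an etale `X`-scheme to an open subscheme. -/
noncomputable def res {X : Scheme.{u}} (U : X.Etale) (O : U.left.Opens) : X.Etale :=
  Scheme.Etale.mk (O.ι ≫ U.hom)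

/-- The inclusion of the restriction. -/
noncomputable def resMap {X : Scheme.{u}} (U : X.Etale) (O : U.left.Opens) : res U O ⟶ U :=
  MorphismProperty.Over.homMk O.ι rfl trivial

theorem resMap_left {X : Scheme.{u}} (U : X.Etale) (O : U.left.Opens) :
    (resMap U O).left = O.ι := rfl

theorem exists_res_lift {X : Scheme.{u}} {Ω : Type u} [Field Ω] [IsSepClosed Ω]
    (ξ : Spec (CommRingCat.of Ω) ⟶ X) (U : X.Etale) (O : U.left.Opens)
    (τ : (Scheme.pointSmallEtale ξ).fiber.obj U)
    (h : τ.left.base (default : Spec (CommRingCat.of Ω)) ∈ O) :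
    ∃ τ' : (Scheme.pointSmallEtale ξ).fiber.obj (res U O),
      (Scheme.pointSmallEtale ξ).fiber.map (resMap U O) τ' = τ := by
  obtain ⟨τ', h1, -⟩ := exists_fiber_lift ξ (resMap U O) τ
    (⟨τ.left.base (default : Spec (CommRingCat.of Ω)), h⟩ : ↥O) rfl
  exact ⟨τ', h1⟩

theorem subsingleton_sections_of_isEmpty {Z : Scheme.{u}} (G : EtCoh.Ab Z) (W : Z.Etale)
    [IsEmpty W.left] : Subsingleton (G.obj.obj (op W)) := by
  have hsep : Presieve.IsSeparated Z.smallEtaleTopology
      (G.obj ⋙ forget AddCommGrpCat.{u + 1}) := by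
    apply Presieve.IsSheaf.isSeparated
    rw [← isSheaf_iff_isSheaf_of_type]
    exact ((sheafCompose Z.smallEtaleTopology (forget AddCommGrpCat.{u + 1})).obj G).2
  constructor
  intro x y
  have hcov : (⊥ : Sieve W) ∈ Z.smallEtaleTopology W :=
    mem_smallEtaleTopology_of_forall W ⊥ (fun x => isEmptyElim x)
  exact (hsep _ hcov).ext (fun _ _ hf => hf.elim)

end Groth.Agent.H4

namespace Groth.Agent.H4

open CategoryTheory CategoryTheory.Limits AlgebraicGeometry Opposite

/-- Sections of an abelian etale sheaf that agree etale-locally around every point agree. -/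
theorem eq_of_locally_eq {Z : Scheme.{u}} (G : EtCoh.Ab Z) (B : Z.Etale)
    (x y : G.obj.obj (op B))
    (h : ∀ b : B.left, ∃ (Y : Z.Etale) (f : Y ⟶ B) (v : Y.left), f.left.base v = b ∧
      G.obj.map f.op x = G.obj.map f.op y) : x = y := by
  have hsep : Presieve.IsSeparated Z.smallEtaleTopology
      (G.obj ⋙ forget AddCommGrpCat.{u + 1}) := by
    apply Presieve.IsSheaf.isSeparated
    rw [← isSheaf_iff_isSheaf_of_type]
    exact ((sheafCompose Z.smallEtaleTopology (forget AddCommGrpCat.{u + 1})).obj G).2
  have hcov : Presheaf.equalizerSieve (F := G.obj) (X := op B) x y ∈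
      Z.smallEtaleTopology B := by
    apply mem_smallEtaleTopology_of_forall
    intro b
    obtain ⟨Y, f, v, hv, hf⟩ := h b
    exact ⟨Y, f, v, hf, hv⟩
  exact (hsep _ hcov).ext (fun _ _ hf => hf)

end Groth.Agent.H4
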