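import Groth.Agent.H4.ProperOver

set_option autoImplicit false
universe u

open CategoryTheory CategoryTheory.Limits AlgebraicGeometry Opposite

namespace Groth.Agent.H4

variable {T S : Scheme.{u}}

/-- separatedness descends along a finite jointly surjective family of universally closed maps -/
theorem isSeparated_of_family {ι : Type*} [Finite ι] {T' : ι → Scheme.{u}} (j : ∀ i, T' i ⟶ T)
    (g : T ⟶ S) [∀ i, UniversallyClosed (j i)] (hsurj : ∀ t : T, ∃ i, t ∈ Set.range (j i))
    [∀ i, IsSeparated (j i ≫ g)] : IsSeparated g := by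
  let h : ∀ i, pullback (j i ≫ g) (j i ≫ g) ⟶ pullback g g := fun i =>
    pullback.map (j i ≫ g) (j i ≫ g) g g (j i) (j i) (𝟙 S) ((Category.comp_id _).trans rfl)
      ((Category.comp_id _).trans rfl)
  have hh : ∀ i, UniversallyClosed (h i) := fun i =>
    MorphismProperty.pullbackMap (P := @UniversallyClosed.{u}) (f := j i ≫ g) (g := j i ≫ g)
      (f' := g) (g' := g) (i₁ := j i) (i₂ := j i) inferInstance inferInstance rfl rfl
  have hcomm : ∀ i, pullback.diagonal (j i ≫ g) ≫ h i = j i ≫ pullback.diagonal g := by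
    intro i
    apply pullback.hom_ext
    · simp only [h, Category.assoc, pullback.lift_fst, pullback.diagonal_fst,
        pullback.diagonal_fst_assoc, Category.comp_id]
    · simp only [h, Category.assoc, pullback.lift_snd, pullback.diagonal_snd,
        pullback.diagonal_snd_assoc, Category.comp_id]
  have hrange : Set.range (pullback.diagonal g) =
      ⋃ i, (h i) '' (Set.range (pullback.diagonal (j i ≫ g))) := by
    ext x
    simp only [Set.mem_range, Set.mem_iUnion, Set.mem_image]
    constructor
    · rintro ⟨t, rfl⟩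
      obtain ⟨i, t', rfl⟩ := hsurj t
      refine ⟨i, (pullback.diagonal (j i ≫ g)) t', ⟨t', rfl⟩, ?_⟩
      rw [← Scheme.Hom.comp_apply, hcomm i, Scheme.Hom.comp_apply]
    · rintro ⟨i, _, ⟨t', rfl⟩, rfl⟩
      refine ⟨j i t', ?_⟩
      rw [← Scheme.Hom.comp_apply, ← hcomm i, Scheme.Hom.comp_apply]
  have hclosed : IsClosed (Set.range (pullback.diagonal g)) := by
    rw [hrange]
    refine isClosed_iUnion_of_finite fun i => ?_
    haveI := hh i
    exact (h i).isClosedMap _ (pullback.diagonal (j i ≫ g)).isClosedEmbedding.isClosed_range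
  exact ⟨IsClosedImmersion.of_isPreimmersion _ hclosed⟩

/-- universal closedness descends along a finite jointly surjective family -/
theorem universallyClosed_of_family {ι : Type*} [Finite ι] {T' : ι → Scheme.{u}}
    (j : ∀ i, T' i ⟶ T) (g : T ⟶ S) (hsurj : ∀ t : T, ∃ i, t ∈ Set.range (j i))
    [∀ i, UniversallyClosed (j i ≫ g)] : UniversallyClosed g := by
  constructor
  intro X' Y' i₁ i₂ f' H
  -- H : IsPullback f' i₁ i₂ g
  show IsClosedMap f'
  intro C hC
  have hcl : ∀ i, IsClosedMap (pullback.fst i₁ (j i) ≫ f') := by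
    intro i
    have hp : IsPullback (pullback.fst i₁ (j i) ≫ f') (pullback.snd i₁ (j i)) i₂ (j i ≫ g) :=
      (IsPullback.of_hasPullback i₁ (j i)).paste_horiz H
    exact UniversallyClosed.universally_isClosedMap _ _ _ hp
  have himage : f' '' C = ⋃ i, (pullback.fst i₁ (j i) ≫ f') '' ((pullback.fst i₁ (j i)) ⁻¹' C) := by
    ext y
    simp only [Set.mem_image, Set.mem_iUnion, Set.mem_preimage]
    constructor
    · rintro ⟨x, hx, rfl⟩
      obtain ⟨i, t', ht'⟩ := hsurj (i₁ x)
      obtain ⟨z, hz1, -⟩ := Scheme.Pullback.exists_preimage_pullback (f := i₁) (g := j i) x t' ht'.symm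
      refine ⟨i, z, by rw [hz1]; exact hx, ?_⟩
      rw [Scheme.Hom.comp_apply, hz1]
    · rintro ⟨i, z, hz, rfl⟩
      exact ⟨_, hz, by rw [Scheme.Hom.comp_apply]⟩
  rw [himage]
  exact isClosed_iUnion_of_finite fun i => hcl i _ (hC.preimage (pullback.fst i₁ (j i)).continuous)

end Groth.Agent.H4
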