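import Mathlib
import Groth.Agent.H4.GeomPoints

/-!
Stalks of constant sheaves, and stalks of the restriction of a sheaf to an over site.
-/

set_option autoImplicit false
open CategoryTheory CategoryTheory.Limits Opposite GrothendieckTopology
universe w v u

namespace Groth.Agent.H4

section const

variable {D : Type*} [Category D] {K : GrothendieckTopology D} (Ψ : Point.{w} K)
  {A : Type*} [Category.{v} A] [HasProducts.{w} A] [HasColimitsOfSize.{w, w} A]
  [HasWeakSheafify K A]

attribute [local instance] IsFiltered.isConnected in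
/-- The stalk of a constant sheaf is its value. -/
noncomputable def stalkConstIso (M : A) :
    Ψ.sheafFiber.obj ((constantSheaf K A).obj M) ≅ M :=
  (Ψ.presheafToSheafCompSheafFiberIso A).app ((Functor.const Dᵒᵖ).obj M) ≪≫
    IsColimit.coconePointUniqueUpToIso
      (Ψ.isColimitPresheafFiberCocone ((Functor.const Dᵒᵖ).obj M))
      (isColimitConstCocone _ M)

end const

section overSite

variable {C : Type*} [Category C] {J : GrothendieckTopology C} [LocallySmall.{u} C]
  (Φ : Point.{u} J) {X : C} (x : Φ.fiber.obj X) (P : Cᵒᵖ ⥤ AddCommGrpCat.{u + 1})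

/-- The comparison map from the stalk of the restriction to the over site. -/
noncomputable def overStalkMap :
    (Φ.over x).presheafFiber.obj ((Over.forget X).op ⋙ P) ⟶ Φ.presheafFiber.obj P :=
  (Φ.over x).presheafFiberDesc (fun Y y => Φ.toPresheafFiber Y.left y.1 P) (by
    intro Y' Y g y'
    exact Φ.toPresheafFiber_w g.left y'.1 P)

theorem overStalkMap_germ (Y : Over X) (y : (Φ.over x).fiber.obj Y)
    (z : ((Over.forget X).op ⋙ P).obj (op Y)) :
    overStalkMap Φ x P ((Φ.over x).toPresheafFiber Y y ((Over.forget X).op ⋙ P) z) =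
      Φ.toPresheafFiber Y.left y.1 P z :=
  ConcreteCategory.congr_hom
    (Point.toPresheafFiber_presheafFiberDesc (Φ.over x) _ _ Y y) z

theorem overStalkMap_bijective : Function.Bijective (overStalkMap Φ x P) := by
  constructor
  · intro q1 q2 h
    obtain ⟨Y, y, z1, z2, rfl, rfl⟩ := (Φ.over x).toPresheafFiber_jointly_surjective₂ q1 q2
    rw [overStalkMap_germ, overStalkMap_germ] at h
    obtain ⟨W, g, w, hw, hg⟩ := (Φ.toPresheafFiber_eq_iff' Y.left y.1 z1 z2).1 h
    have hmem : Φ.fiber.map (g ≫ Y.hom) w = x := by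
      rw [Functor.map_comp]
      have : Φ.fiber.map Y.hom (Φ.fiber.map g w) = x := by
        rw [hw]
        exact y.2
      exact this
    refine ((Φ.over x).toPresheafFiber_eq_iff' Y y z1 z2).2
      ⟨Over.mk (g ≫ Y.hom), Over.homMk g rfl, ⟨w, hmem⟩, Subtype.ext hw, hg⟩
  · intro p
    obtain ⟨Y, y, z, rfl⟩ := Φ.toPresheafFiber_jointly_surjective p
    let E1 : Φ.fiber.Elements := ⟨Y, y⟩
    let E2 : Φ.fiber.Elements := ⟨X, x⟩
    let W := (IsCofiltered.min E1 E2).1
    let w : Φ.fiber.obj W := (IsCofiltered.min E1 E2).2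
    let a : W ⟶ Y := (IsCofiltered.minToLeft E1 E2).1
    let b : W ⟶ X := (IsCofiltered.minToRight E1 E2).1
    have ha : Φ.fiber.map a w = y := (IsCofiltered.minToLeft E1 E2).2
    have hb : Φ.fiber.map b w = x := (IsCofiltered.minToRight E1 E2).2
    refine ⟨(Φ.over x).toPresheafFiber (Over.mk b) ⟨w, hb⟩ ((Over.forget X).op ⋙ P)
      (P.map a.op z), ?_⟩
    rw [overStalkMap_germ]
    have h1 := Φ.toPresheafFiber_w_apply a w P z
    rw [ha] at h1
    exact h1

theorem isIso_overStalkMap : IsIso (overStalkMap Φ x P) :=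
  (ConcreteCategory.isIso_iff_bijective _).2 (overStalkMap_bijective Φ x P)

/-- The stalk of `F` restricted to the over site is the stalk of `F`. -/
noncomputable def overStalkIso (F : Sheaf J AddCommGrpCat.{u + 1}) :
    (Φ.over x).sheafFiber.obj (F.over X) ≅ Φ.sheafFiber.obj F :=
  @asIso _ _ _ _ (overStalkMap Φ x F.obj) (isIso_overStalkMap Φ x F.obj)

end overSite

end Groth.Agent.H4
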