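import Mathlib.RingTheory.Spectrum.Prime.Topology
import Mathlib.Topology.Spectral.Prespectral
import Mathlib.Topology.Connected.Separation
import Mathlib.Topology.Separation.Profinite

set_option autoImplicit false
universe u

namespace Groth.Agent.H4

/-- In a ring whose primes are pairwise incomparable, every basic open of the spectrum is closed. -/
theorem isClosed_basicOpen_of_incomparable {B : Type u} [CommRing B]
    (h : ∀ q q' : PrimeSpectrum B, q.asIdeal ≤ q'.asIdeal → q = q') (f : B) :
    IsClosed (PrimeSpectrum.basicOpen f : Set (PrimeSpectrum B)) := by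
  rw [← isOpen_compl_iff, isOpen_iff_forall_mem_open]
  intro p hp
  have hfp : f ∈ p.asIdeal := by
    by_contra hcon
    exact hp hcon
  -- find s ∉ p and n with s * f ^ n = 0
  have key : ∃ s ∉ p.asIdeal, ∃ n : ℕ, s * f ^ n = 0 := by
    by_contra hcon
    push Not at hcon
    have hdisj : Disjoint ((⊥ : Ideal B) : Set B)
        ((p.asIdeal.primeCompl ⊔ Submonoid.powers f : Submonoid B) : Set B) := by
      rw [Set.disjoint_left]
      intro a ha haS
      have ha0 : a = 0 := ha
      obtain ⟨s, hs, t, ⟨n, rfl⟩, hst⟩ := Submonoid.mem_sup.1 haS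
      exact hcon s hs n (by rw [hst, ha0])
    obtain ⟨q, hq, -, hqS⟩ := Ideal.exists_le_prime_disjoint _ _ hdisj
    have hqp : q ≤ p.asIdeal := by
      intro a ha
      by_contra hap
      exact (Set.disjoint_left.1 hqS) ha (Submonoid.mem_sup_left hap)
    have hfq : f ∉ q := by
      intro hf
      exact (Set.disjoint_left.1 hqS) hf (Submonoid.mem_sup_right (Submonoid.mem_powers f))
    have := h ⟨q, hq⟩ p hqp
    rw [← this] at hfp
    exact hfq hfp
  obtain ⟨s, hs, n, hsn⟩ := key
  refine ⟨(PrimeSpectrum.basicOpen s : Set (PrimeSpectrum B)), ?_, (PrimeSpectrum.basicOpen s).2, hs⟩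
  intro q hq hqf
  have hsq : s ∉ q.asIdeal := hq
  have hfq : f ∉ q.asIdeal := hqf
  have h0 : s * f ^ n ∈ q.asIdeal := by rw [hsn]; exact q.asIdeal.zero_mem
  rcases q.2.mem_or_mem h0 with h1 | h1
  · exact hsq h1
  · exact hfq (q.2.mem_of_pow_mem n h1)

theorem t2Space_of_incomparable {B : Type u} [CommRing B]
    (h : ∀ q q' : PrimeSpectrum B, q.asIdeal ≤ q'.asIdeal → q = q') :
    T2Space (PrimeSpectrum B) := by
  refine ⟨fun p q hpq => ?_⟩
  have hnle : ¬ p.asIdeal ≤ q.asIdeal := fun hle => hpq (h p q hle)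
  obtain ⟨f, hfp, hfq⟩ := Set.not_subset.1 hnle
  refine ⟨(PrimeSpectrum.basicOpen f : Set (PrimeSpectrum B))ᶜ,
    (PrimeSpectrum.basicOpen f : Set (PrimeSpectrum B)),
    (isClosed_basicOpen_of_incomparable h f).isOpen_compl, (PrimeSpectrum.basicOpen f).2,
    fun hp => hp hfp, hfq, disjoint_compl_left⟩

theorem totallyDisconnectedSpace_of_incomparable {B : Type u} [CommRing B]
    (h : ∀ q q' : PrimeSpectrum B, q.asIdeal ≤ q'.asIdeal → q = q') :
    TotallyDisconnectedSpace (PrimeSpectrum B) := by
  haveI := t2Space_of_incomparable h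
  infer_instance

end Groth.Agent.H4
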