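import Groth.Agent.H4.SpectralProd
import Mathlib.Topology.Spectral.ConstructibleTopology

set_option autoImplicit false
universe u

open Topology TopologicalSpace Set

namespace Groth.Agent.H4

theorem compactSpace_constructibleTopology (X : Type*) [TopologicalSpace X] [CompactSpace X]
    [QuasiSober X] [PrespectralSpace X] [QuasiSeparatedSpace X] :
    @CompactSpace X (constructibleTopology X) :=
  @Function.Surjective.compactSpace (WithConstructibleTopology X) X _ (constructibleTopology X)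
    WithTopology.ofTopology (WithTopology.continuous_ofTopology _) _
    (WithTopology.ofTopology_surjective _)

/-- A directed family of quasi-compact opens with empty intersection in a spectral space has an
empty member. -/
theorem exists_eq_empty_of_directed_isCompact_isOpen {X : Type*} [TopologicalSpace X]
    [CompactSpace X] [QuasiSober X] [PrespectralSpace X] [QuasiSeparatedSpace X]
    {ι : Type*} [Nonempty ι] (V : ι → Set X) (hVo : ∀ i, IsOpen (V i))
    (hVc : ∀ i, IsCompact (V i)) (hdir : Directed (· ⊇ ·) V) (h : ⋂ i, V i = ∅) :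
    ∃ i, V i = ∅ := by
  have hcomp := compactSpace_constructibleTopology X
  have hclosed : ∀ i, @IsClosed X (constructibleTopology X) (V i) := fun i =>
    @IsClosed.mk X (constructibleTopology X) (V i)
      (IsCompact.isOpen_constructibleTopology_of_isClosed (s := (V i)ᶜ)
      (by rw [compl_compl]; exact hVc i) (hVo i).isClosed_compl)
  letI : TopologicalSpace X := constructibleTopology X
  obtain ⟨i, hi⟩ := IsCompact.elim_directed_family_closed (isCompact_univ (X := X)) V hclosed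
    (by rw [Set.univ_inter]; exact h) hdir
  exact ⟨i, by rwa [Set.univ_inter] at hi⟩

theorem exists_disjoint_open_of_closedPoint_compact {X : Type*} [TopologicalSpace X]
    [SpectralSpace X] (huniq : ∀ x : X, ∃! z : X, IsClosed ({z} : Set X) ∧ x ⤳ z)
    {x : X} (hx : IsClosed ({x} : Set X)) {K : Set X} (hK : IsCompact K)
    (hK0 : ∀ k ∈ K, IsClosed ({k} : Set X)) (hxK : x ∉ K) :
    ∃ W W' : Set X, IsOpen W ∧ IsOpen W' ∧ x ∈ W ∧ K ⊆ W' ∧ Disjoint W W' := by
  let ι := {V : Set X // IsOpen V ∧ IsCompact V ∧ x ∈ V} ×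
    {V : Set X // IsOpen V ∧ IsCompact V ∧ K ⊆ V}
  haveI : Nonempty ι := ⟨⟨⟨Set.univ, isOpen_univ, isCompact_univ, Set.mem_univ _⟩,
    ⟨Set.univ, isOpen_univ, isCompact_univ, Set.subset_univ _⟩⟩⟩
  let F : ι → Set X := fun i => i.1.1 ∩ i.2.1
  have hFo : ∀ i, IsOpen (F i) := fun i => i.1.2.1.inter i.2.2.1
  have hFc : ∀ i, IsCompact (F i) := fun i =>
    QuasiSeparatedSpace.inter_isCompact _ _ i.1.2.1 i.1.2.2.1 i.2.2.1 i.2.2.2.1
  have hdir : Directed (· ⊇ ·) F := by
    intro i j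
    refine ⟨⟨⟨i.1.1 ∩ j.1.1, i.1.2.1.inter j.1.2.1,
      QuasiSeparatedSpace.inter_isCompact _ _ i.1.2.1 i.1.2.2.1 j.1.2.1 j.1.2.2.1,
      ⟨i.1.2.2.2, j.1.2.2.2⟩⟩,
      ⟨i.2.1 ∩ j.2.1, i.2.2.1.inter j.2.2.1,
      QuasiSeparatedSpace.inter_isCompact _ _ i.2.2.1 i.2.2.2.1 j.2.2.1 j.2.2.2.1,
      Set.subset_inter i.2.2.2.2 j.2.2.2.2⟩⟩, ?_, ?_⟩
    · intro w hw; exact ⟨hw.1.1, hw.2.1⟩
    · intro w hw; exact ⟨hw.1.2, hw.2.2⟩
  have hempty : ⋂ i, F i = ∅ := by
    rw [Set.eq_empty_iff_forall_notMem]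
    intro w hw
    rw [Set.mem_iInter] at hw
    have hwx : w ⤳ x := by
      rw [specializes_iff_forall_open]
      intro s hs hxs
      obtain ⟨V, ⟨hVo, hVc⟩, hxV, hVs⟩ :=
        PrespectralSpace.isTopologicalBasis.exists_subset_of_mem_open hxs hs
      exact hVs (hw ⟨⟨V, hVo, hVc, hxV⟩,
        ⟨Set.univ, isOpen_univ, isCompact_univ, Set.subset_univ _⟩⟩).1
    have hwK : ∃ k ∈ K, w ⤳ k := by
      by_contra hno
      push Not at hno
      have hsub : K ⊆ (closure ({w} : Set X))ᶜ := fun k hk hkw =>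
        hno k hk (specializes_iff_mem_closure.2 hkw)
      obtain ⟨V', hV'c, hV'o, hKV', hV'w⟩ :=
        PrespectralSpace.exists_isCompact_and_isOpen_between hK
          isClosed_closure.isOpen_compl hsub
      have hwV' := (hw ⟨⟨Set.univ, isOpen_univ, isCompact_univ, Set.mem_univ _⟩,
        ⟨V', hV'o, hV'c, hKV'⟩⟩).2
      exact hV'w hwV' (subset_closure (Set.mem_singleton w))
    obtain ⟨k, hkK, hwk⟩ := hwK
    have hxk : x = k := (huniq w).unique ⟨hx, hwx⟩ ⟨hK0 k hkK, hwk⟩
    exact hxK (hxk ▸ hkK)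
  obtain ⟨i, hi⟩ := exists_eq_empty_of_directed_isCompact_isOpen F hFo hFc hdir hempty
  exact ⟨i.1.1, i.2.1, i.1.2.1, i.2.2.1, i.1.2.2.2, i.2.2.2.2,
    Set.disjoint_iff_inter_eq_empty.2 hi⟩

theorem isOpen_generalizations_of_partition {X : Type*} [TopologicalSpace X] [SpectralSpace X]
    (huniq : ∀ x : X, ∃! z : X, IsClosed ({z} : Set X) ∧ x ⤳ z)
    {P Q : Set X} (hP0 : ∀ z ∈ P, IsClosed ({z} : Set X))
    (hQ0 : ∀ z ∈ Q, IsClosed ({z} : Set X))
    (hQ : IsCompact Q) (hPQ : Disjoint P Q)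
    (hcov : ∀ z : X, IsClosed ({z} : Set X) → z ∈ P ∨ z ∈ Q) :
    IsOpen {w : X | ∃ z ∈ P, w ⤳ z} := by
  rw [isOpen_iff_forall_mem_open]
  rintro w ⟨z, hzP, hwz⟩
  have hzQ : z ∉ Q := fun h => Set.disjoint_left.1 hPQ hzP h
  obtain ⟨W, W', hWo, hW'o, hzW, hQW', hWW'⟩ :=
    exists_disjoint_open_of_closedPoint_compact huniq (hP0 z hzP) hQ hQ0 hzQ
  refine ⟨W, ?_, hWo, hwz.mem_open hWo hzW⟩
  intro w' hw'
  obtain ⟨z', ⟨hz'c, hw'z'⟩, _⟩ := huniq w'
  rcases hcov z' hz'c with h | h
  · exact ⟨z', h, hw'z'⟩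
  · exact absurd (hw'z'.mem_open hW'o (hQW' h)) (Set.disjoint_left.1 hWW' hw')

/-- In a spectral space whose closed points form a closed subset and in which every point has a
unique closed specialization, closed points map bijectively onto connected components. -/
theorem closedPoints_bijective_connectedComponents (X : Type u) [TopologicalSpace X]
    [SpectralSpace X] (h0 : IsClosed {x : X | IsClosed ({x} : Set X)})
    (huniq : ∀ x : X, ∃! z : X, IsClosed ({z} : Set X) ∧ x ⤳ z) :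
    Function.Bijective
      (fun x : {x : X // IsClosed ({x} : Set X)} => ConnectedComponents.mk x.1) := by
  constructor
  · rintro ⟨x, hx⟩ ⟨y, hy⟩ hxy
    by_contra hne
    have hne' : (⟨x, hx⟩ : {x : X // IsClosed ({x} : Set X)}) ≠ ⟨y, hy⟩ := hne
    have hxy' : ConnectedComponents.mk x = ConnectedComponents.mk y := hxy
    have hemb : IsClosedEmbedding (Subtype.val : {x : X // IsClosed ({x} : Set X)} → X) :=
      h0.isClosedEmbedding_subtypeVal
    haveI : SpectralSpace {x : X // IsClosed ({x} : Set X)} :=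
      spectralSpace_of_isClosedEmbedding hemb
    haveI : T2Space {x : X // IsClosed ({x} : Set X)} := by
      refine ⟨fun a b hab => ?_⟩
      have hab' : a.1 ∉ ({b.1} : Set X) := fun h => hab (Subtype.ext h)
      obtain ⟨W, W', hWo, hW'o, haW, hbW', hWW'⟩ :=
        exists_disjoint_open_of_closedPoint_compact huniq a.2 isCompact_singleton
          (by rintro k rfl; exact b.2) hab'
      exact ⟨Subtype.val ⁻¹' W, Subtype.val ⁻¹' W', hWo.preimage continuous_subtype_val,
        hW'o.preimage continuous_subtype_val, haW, hbW' (Set.mem_singleton _),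
        hWW'.preimage _⟩
    obtain ⟨U, hU, hxU, hyU⟩ := exists_isClopen_of_totally_separated hne'
    have hP0 : ∀ z ∈ Subtype.val '' U, IsClosed ({z} : Set X) := by
      rintro _ ⟨s, _, rfl⟩; exact s.2
    have hQ0 : ∀ z ∈ Subtype.val '' Uᶜ, IsClosed ({z} : Set X) := by
      rintro _ ⟨s, _, rfl⟩; exact s.2
    have hPc : IsCompact (Subtype.val '' U) := hU.1.isCompact.image continuous_subtype_val
    have hQc : IsCompact (Subtype.val '' Uᶜ) :=
      hU.compl.1.isCompact.image continuous_subtype_val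
    have hPQ : Disjoint (Subtype.val '' U) (Subtype.val '' Uᶜ) := by
      rw [Set.disjoint_image_iff Subtype.val_injective]; exact disjoint_compl_right
    have hcov : ∀ z : X, IsClosed ({z} : Set X) → z ∈ Subtype.val '' U ∨ z ∈ Subtype.val '' Uᶜ := by
      intro z hz
      by_cases h : (⟨z, hz⟩ : {x : X // IsClosed ({x} : Set X)}) ∈ U
      · exact Or.inl ⟨_, h, rfl⟩
      · exact Or.inr ⟨_, h, rfl⟩
    have hAo := isOpen_generalizations_of_partition huniq hP0 hQ0 hQc hPQ hcov
    have hBo := isOpen_generalizations_of_partition huniq hQ0 hP0 hPc hPQ.symm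
      (fun z hz => (hcov z hz).symm)
    have hAB : {w : X | ∃ z ∈ Subtype.val '' U, w ⤳ z}ᶜ =
        {w : X | ∃ z ∈ Subtype.val '' Uᶜ, w ⤳ z} := by
      ext w
      constructor
      · intro hw
        obtain ⟨z, ⟨hzc, hwz⟩, _⟩ := huniq w
        rcases hcov z hzc with h | h
        · exact absurd ⟨z, h, hwz⟩ hw
        · exact ⟨z, h, hwz⟩
      · rintro ⟨z, hzQ, hwz⟩ ⟨z', hz'P, hwz'⟩
        have hzz' : z = z' := (huniq w).unique ⟨hQ0 z hzQ, hwz⟩ ⟨hP0 z' hz'P, hwz'⟩
        exact Set.disjoint_left.1 hPQ hz'P (hzz' ▸ hzQ)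
    have hA : IsClopen {w : X | ∃ z ∈ Subtype.val '' U, w ⤳ z} :=
      ⟨by rw [← isOpen_compl_iff, hAB]; exact hBo, hAo⟩
    have hxA : x ∈ {w : X | ∃ z ∈ Subtype.val '' U, w ⤳ z} :=
      ⟨x, ⟨⟨x, hx⟩, hxU, rfl⟩, specializes_rfl⟩
    have hyA : y ∉ {w : X | ∃ z ∈ Subtype.val '' U, w ⤳ z} := by
      rintro ⟨z, hzP, hyz⟩
      have hz : z ∈ closure ({y} : Set X) := specializes_iff_mem_closure.1 hyz
      rw [hy.closure_eq] at hz
      have hzy : z = y := hz
      exact Set.disjoint_left.1 hPQ (hzy ▸ hzP) ⟨⟨y, hy⟩, hyU, rfl⟩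
    exact hyA (hA.connectedComponent_subset hxA (ConnectedComponents.coe_eq_coe'.1 hxy'.symm))
  · intro c
    obtain ⟨w, rfl⟩ := ConnectedComponents.surjective_coe c
    obtain ⟨z, ⟨hzc, hwz⟩, _⟩ := huniq w
    refine ⟨⟨z, hzc⟩, ?_⟩
    show ConnectedComponents.mk z = ConnectedComponents.mk w
    rw [ConnectedComponents.coe_eq_coe']
    exact (isPreconnected_singleton.closure.subset_connectedComponent
      (subset_closure (Set.mem_singleton _))) (specializes_iff_mem_closure.1 hwz)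

end Groth.Agent.H4
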