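import Groth.Agent.H4.SpectralClosed
import Mathlib.Topology.Separation.Profinite
import Mathlib.Topology.Separation.Regular
import Mathlib.Topology.Connected.TotallyDisconnected
import Mathlib.Topology.Homeomorph.Lemmas
import Mathlib.Topology.Spectral.Hom
import Mathlib.Topology.ContinuousMap.Basic

set_option autoImplicit false
universe u

open Topology TopologicalSpace Set

namespace Groth.Agent.H4

/-- In a compact quasi-separated prespectral space, the connected component of a point is the
intersection of its clopen neighbourhoods. -/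
theorem connectedComponent_eq_iInter_isClopen_of_spectral {X : Type*} [TopologicalSpace X]
    [CompactSpace X] [QuasiSeparatedSpace X] [PrespectralSpace X] (x : X) :
    connectedComponent x = ⋂ s : { s : Set X // IsClopen s ∧ x ∈ s }, (s : Set X) := by
  apply Subset.antisymm connectedComponent_subset_iInter_isClopen
  refine IsPreconnected.subset_connectedComponent ?_ (mem_iInter.2 fun s => s.2.2)
  have hs : IsClosed (⋂ s : { s : Set X // IsClopen s ∧ x ∈ s }, (s : Set X)) :=
    isClosed_iInter fun s => s.2.1.1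
  rw [isPreconnected_iff_subset_of_fully_disjoint_closed hs]
  intro a b ha hb hab ab_disj
  obtain ⟨u, huc, huo, hau, hub⟩ := PrespectralSpace.exists_isCompact_and_isOpen_between
    ha.isCompact hb.isOpen_compl ab_disj.subset_compl_right
  obtain ⟨v, hvc, hvo, hbv, hva⟩ := PrespectralSpace.exists_isCompact_and_isOpen_between
    hb.isCompact ha.isOpen_compl ab_disj.subset_compl_left
  have h1 : (u ∩ v) ∩ ⋂ s : { s : Set X // IsClopen s ∧ x ∈ s }, (s : Set X) = ∅ := by
    rw [Set.eq_empty_iff_forall_notMem]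
    rintro y ⟨⟨hyu, hyv⟩, hyS⟩
    rcases hab hyS with hya | hyb
    · exact hva hyv hya
    · exact hub hyu hyb
  obtain ⟨si, hsi⟩ := (QuasiSeparatedSpace.inter_isCompact u v huo huc hvo hvc).elim_finite_subfamily_closed
    _ (fun s : { s : Set X // IsClopen s ∧ x ∈ s } => s.2.1.1) h1
  have h2 : (u ∪ v)ᶜ ∩ ⋂ s : { s : Set X // IsClopen s ∧ x ∈ s }, (s : Set X) = ∅ := by
    rw [Set.eq_empty_iff_forall_notMem]
    rintro y ⟨hyuv, hyS⟩
    apply hyuv
    rcases hab hyS with hya | hyb
    · exact Or.inl (hau hya)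
    · exact Or.inr (hbv hyb)
  obtain ⟨sj, hsj⟩ := (huo.union hvo).isClosed_compl.isCompact.elim_finite_subfamily_closed
    _ (fun s : { s : Set X // IsClopen s ∧ x ∈ s } => s.2.1.1) h2
  have hZ1 : IsClopen (⋂ i ∈ si, (i : Set X)) := isClopen_biInter_finset fun i _ => i.2.1
  have hZ2 : IsClopen (⋂ i ∈ sj, (i : Set X)) := isClopen_biInter_finset fun i _ => i.2.1
  have hxZ1 : x ∈ (⋂ i ∈ si, (i : Set X)) := mem_iInter₂.2 fun s _ => s.2.2
  have hxZ2 : x ∈ (⋂ i ∈ sj, (i : Set X)) := mem_iInter₂.2 fun s _ => s.2.2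
  have hZ : IsClopen ((⋂ i ∈ si, (i : Set X)) ∩ (⋂ i ∈ sj, (i : Set X))) := hZ1.inter hZ2
  have hcover : (⋂ i ∈ si, (i : Set X)) ∩ (⋂ i ∈ sj, (i : Set X)) ⊆ u ∪ v := by
    intro y hy
    by_contra hyuv
    have hmem : y ∈ (u ∪ v)ᶜ ∩ ⋂ i ∈ sj, (i : Set X) := ⟨hyuv, hy.2⟩
    rw [hsj] at hmem
    exact hmem
  have hdisj : (⋂ i ∈ si, (i : Set X)) ∩ (⋂ i ∈ sj, (i : Set X)) ∩ u ∩ v = ∅ := by
    rw [Set.eq_empty_iff_forall_notMem]
    rintro y ⟨⟨⟨hy1, _⟩, hyu⟩, hyv⟩
    have hmem : y ∈ (u ∩ v) ∩ ⋂ i ∈ si, (i : Set X) := ⟨⟨hyu, hyv⟩, hy1⟩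
    rw [hsi] at hmem
    exact hmem
  have hxS : x ∈ ⋂ s : { s : Set X // IsClopen s ∧ x ∈ s }, (s : Set X) :=
    mem_iInter.2 fun s => s.2.2
  rcases hab hxS with hxa | hxb
  · left
    have hc : IsClopen ((⋂ i ∈ si, (i : Set X)) ∩ (⋂ i ∈ sj, (i : Set X)) ∩ u) :=
      isClopen_inter_of_disjoint_cover_clopen' hZ hcover huo hvo hdisj
    have hSu : (⋂ s : { s : Set X // IsClopen s ∧ x ∈ s }, (s : Set X)) ⊆ u := fun y hy =>
      (mem_iInter.1 hy ⟨_, hc, ⟨hxZ1, hxZ2⟩, hau hxa⟩).2
    intro y hy
    rcases hab hy with h | h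
    · exact h
    · exact absurd h (hub (hSu hy))
  · right
    have hdisj' : (⋂ i ∈ si, (i : Set X)) ∩ (⋂ i ∈ sj, (i : Set X)) ∩ v ∩ u = ∅ := by
      rw [Set.inter_assoc, Set.inter_comm v u, ← Set.inter_assoc]; exact hdisj
    have hc : IsClopen ((⋂ i ∈ si, (i : Set X)) ∩ (⋂ i ∈ sj, (i : Set X)) ∩ v) :=
      isClopen_inter_of_disjoint_cover_clopen' hZ (by rwa [Set.union_comm]) hvo huo hdisj'
    have hSv : (⋂ s : { s : Set X // IsClopen s ∧ x ∈ s }, (s : Set X)) ⊆ v := fun y hy =>
      (mem_iInter.1 hy ⟨_, hc, ⟨hxZ1, hxZ2⟩, hbv hxb⟩).2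
    intro y hy
    rcases hab hy with h | h
    · exact absurd h (hva (hSv hy))
    · exact h

/-- `π₀` of a spectral space is Hausdorff. -/
theorem connectedComponents_t2_of_spectral {X : Type*} [TopologicalSpace X]
    [CompactSpace X] [QuasiSeparatedSpace X] [PrespectralSpace X] :
    T2Space (ConnectedComponents X) := by
  refine ⟨ConnectedComponents.surjective_coe.forall₂.2 fun a b ne => ?_⟩
  rw [ConnectedComponents.coe_ne_coe] at ne
  have h := connectedComponent_disjoint ne
  rw [connectedComponent_eq_iInter_isClopen_of_spectral b, disjoint_iff_inter_eq_empty] at h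
  obtain ⟨U, V, hU, ha, hb, rfl⟩ : ∃ (U : Set X) (V : Set (ConnectedComponents X)),
      IsClopen U ∧ connectedComponent a ∩ U = ∅ ∧ connectedComponent b ⊆ U ∧ (↑) ⁻¹' V = U := by
    have h :=
      (isClosed_connectedComponent (α := X)).isCompact.elim_finite_subfamily_closed
        _ (fun s : { s : Set X // IsClopen s ∧ b ∈ s } => s.2.1.1) h
    obtain ⟨fin_a, ha⟩ := h
    set U : Set X := ⋂ (i : { s // IsClopen s ∧ b ∈ s }) (_ : i ∈ fin_a), i
    have hU : IsClopen U := isClopen_biInter_finset fun i _ => i.2.1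
    exact ⟨U, (↑) '' U, hU, ha, subset_iInter₂ fun s _ => s.2.1.connectedComponent_subset s.2.2,
      (connectedComponents_preimage_image U).symm ▸ hU.biUnion_connectedComponent_eq⟩
  rw [ConnectedComponents.isQuotientMap_coe.isClopen_preimage] at hU
  refine ⟨Vᶜ, V, hU.compl.isOpen, hU.isOpen, ?_, hb mem_connectedComponent, disjoint_compl_left⟩
  exact fun h => flip Set.Nonempty.ne_empty ha ⟨a, mem_connectedComponent, h⟩

theorem quasiSober_prod {X Y : Type*} [TopologicalSpace X] [TopologicalSpace Y]
    [QuasiSober X] [QuasiSober Y] : QuasiSober (X × Y) where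
  sober := by
    intro Z hZ hZc
    have h1 : IsIrreducible (Prod.fst '' Z) := hZ.image _ continuous_fst.continuousOn
    have h2 : IsIrreducible (Prod.snd '' Z) := hZ.image _ continuous_snd.continuousOn
    obtain ⟨ξ, hξ⟩ := QuasiSober.sober h1.closure isClosed_closure
    obtain ⟨η, hη⟩ := QuasiSober.sober h2.closure isClosed_closure
    have hξ' : closure ({ξ} : Set X) = closure (Prod.fst '' Z) := hξ
    have hη' : closure ({η} : Set Y) = closure (Prod.snd '' Z) := hη
    have hmem : (ξ, η) ∈ Z := by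
      by_contra hnot
      obtain ⟨u, v, hu, hv, hξu, hηv, huv⟩ := isOpen_prod_iff.1 hZc.isOpen_compl ξ η hnot
      have hξc : ξ ∈ closure (Prod.fst '' Z) := by
        rw [← hξ']; exact subset_closure (Set.mem_singleton ξ)
      have hηc : η ∈ closure (Prod.snd '' Z) := by
        rw [← hη']; exact subset_closure (Set.mem_singleton η)
      obtain ⟨_, hz1u, z1, hz1, rfl⟩ := mem_closure_iff.1 hξc u hu hξu
      obtain ⟨_, hz2v, z2, hz2, rfl⟩ := mem_closure_iff.1 hηc v hv hηv
      obtain ⟨z, hzZ, hzu, hzv⟩ := hZ.isPreirreducible (Prod.fst ⁻¹' u) (Prod.snd ⁻¹' v)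
        (hu.preimage continuous_fst) (hv.preimage continuous_snd) ⟨z1, hz1, hz1u⟩ ⟨z2, hz2, hz2v⟩
      exact huv (show z ∈ u ×ˢ v from ⟨hzu, hzv⟩) hzZ
    refine ⟨(ξ, η), ?_⟩
    show closure ({(ξ, η)} : Set (X × Y)) = Z
    apply Set.Subset.antisymm
    · exact closure_minimal (Set.singleton_subset_iff.2 hmem) hZc
    · intro z hz
      rw [← Set.singleton_prod_singleton, closure_prod_eq]
      refine ⟨?_, ?_⟩
      · rw [hξ']; exact subset_closure ⟨z, hz, rfl⟩
      · rw [hη']; exact subset_closure ⟨z, hz, rfl⟩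

theorem spectralSpace_prod {X Y : Type*} [TopologicalSpace X] [TopologicalSpace Y]
    [SpectralSpace X] [SpectralSpace Y] : SpectralSpace (X × Y) := by
  have hB := (PrespectralSpace.isTopologicalBasis (X := X)).prod
    (PrespectralSpace.isTopologicalBasis (X := Y))
  have hc : ∀ W ∈ Set.image2 (· ×ˢ ·) {U : Set X | IsOpen U ∧ IsCompact U}
      {V : Set Y | IsOpen V ∧ IsCompact V}, IsCompact W := by
    rintro _ ⟨U, hU, V, hV, rfl⟩
    exact hU.2.prod hV.2
  exact
  { toT0Space := inferInstance
    toCompactSpace := inferInstance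
    toQuasiSober := quasiSober_prod
    toQuasiSeparatedSpace := by
      refine QuasiSeparatedSpace.of_isTopologicalBasis
        (b := (Subtype.val : ↥(Set.image2 (· ×ˢ ·) {U : Set X | IsOpen U ∧ IsCompact U}
          {V : Set Y | IsOpen V ∧ IsCompact V}) → Set (X × Y)))
        (by rw [Subtype.range_coe]; exact hB) ?_
      rintro ⟨_, U, hU, V, hV, rfl⟩ ⟨_, U', hU', V', hV', rfl⟩
      show IsCompact (U ×ˢ V ∩ U' ×ˢ V')
      rw [Set.prod_inter_prod]
      exact (QuasiSeparatedSpace.inter_isCompact U U' hU.1 hU.2 hU'.1 hU'.2).prod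
        (QuasiSeparatedSpace.inter_isCompact V V' hV.1 hV.2 hV'.1 hV'.2)
    toPrespectralSpace := PrespectralSpace.of_isTopologicalBasis hB hc }

theorem spectralSpace_of_profinite {T : Type*} [TopologicalSpace T] [CompactSpace T] [T2Space T]
    [TotallyDisconnectedSpace T] : SpectralSpace T :=
  { toT0Space := inferInstance
    toCompactSpace := inferInstance
    toQuasiSober := inferInstance
    toQuasiSeparatedSpace := inferInstance
    toPrespectralSpace :=
      PrespectralSpace.of_isTopologicalBasis isTopologicalBasis_isClopen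
        (fun _ hU => hU.1.isCompact) }

section Fib

variable {X T : Type u} [TopologicalSpace X] [SpectralSpace X]
  [TopologicalSpace T] [CompactSpace T] [T2Space T] [TotallyDisconnectedSpace T]
  (g : C(T, ConnectedComponents X))

omit [CompactSpace T] [T2Space T] [TotallyDisconnectedSpace T] in
theorem isClosed_fib : IsClosed {p : X × T | ConnectedComponents.mk p.1 = g p.2} := by
  haveI : T2Space (ConnectedComponents X) := connectedComponents_t2_of_spectral
  exact isClosed_eq (ConnectedComponents.continuous_coe.comp continuous_fst)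
    (g.continuous.comp continuous_snd)

theorem isClosedEmbedding_fib_val :
    IsClosedEmbedding
      (Subtype.val : {p : X × T // ConnectedComponents.mk p.1 = g p.2} → X × T) :=
  (isClosed_fib g).isClosedEmbedding_subtypeVal

theorem spectralSpace_fib : SpectralSpace {p : X × T // ConnectedComponents.mk p.1 = g p.2} := by
  haveI : SpectralSpace T := spectralSpace_of_profinite
  haveI : SpectralSpace (X × T) := spectralSpace_prod
  exact spectralSpace_of_isClosedEmbedding (isClosedEmbedding_fib_val g)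

theorem isPreconnected_fib_fibre (t : T) :
    IsPreconnected {y : {p : X × T // ConnectedComponents.mk p.1 = g p.2} | y.1.2 = t} := by
  have hind : IsInducing
      (Subtype.val : {p : X × T // ConnectedComponents.mk p.1 = g p.2} → X × T) :=
    IsInducing.subtypeVal
  refine hind.isPreconnected_image.1 ?_
  obtain ⟨x₀, hx₀⟩ := ConnectedComponents.surjective_coe (g t)
  have himg : Subtype.val '' {y : {p : X × T // ConnectedComponents.mk p.1 = g p.2} | y.1.2 = t}
      = (fun x => (x, t)) '' connectedComponent x₀ := by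
    ext p
    constructor
    · rintro ⟨y, hy, rfl⟩
      have hy' : y.1.2 = t := hy
      refine ⟨y.1.1, ?_, Prod.ext rfl hy'.symm⟩
      exact ConnectedComponents.coe_eq_coe'.1 (y.2.trans ((congrArg g hy').trans hx₀.symm))
    · rintro ⟨x, hx, rfl⟩
      exact ⟨⟨(x, t), (ConnectedComponents.coe_eq_coe'.2 hx).trans hx₀⟩, rfl, rfl⟩
  rw [himg]
  exact isPreconnected_connectedComponent.image _ (by fun_prop : Continuous fun x : X => (x, t)).continuousOn

theorem exists_fib_homeo :
    ∃ e : ConnectedComponents {p : X × T // ConnectedComponents.mk p.1 = g p.2} ≃ₜ T,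
      ∀ y : {p : X × T // ConnectedComponents.mk p.1 = g p.2},
        e (ConnectedComponents.mk y) = y.1.2 := by
  haveI := spectralSpace_fib g
  have hq : Continuous (fun y : {p : X × T // ConnectedComponents.mk p.1 = g p.2} => y.1.2) :=
    continuous_snd.comp continuous_subtype_val
  have hinj : Function.Injective hq.connectedComponentsLift := by
    intro a b hab
    obtain ⟨y, rfl⟩ := ConnectedComponents.surjective_coe a
    obtain ⟨y', rfl⟩ := ConnectedComponents.surjective_coe b
    have hab' : y.1.2 = y'.1.2 := hab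
    rw [ConnectedComponents.coe_eq_coe']
    exact (isPreconnected_fib_fibre g y'.1.2).subset_connectedComponent
      (show y' ∈ {y : {p : X × T // ConnectedComponents.mk p.1 = g p.2} | y.1.2 = y'.1.2} from rfl)
      hab'
  have hsurj : Function.Surjective hq.connectedComponentsLift := by
    intro t
    obtain ⟨x₀, hx₀⟩ := ConnectedComponents.surjective_coe (g t)
    exact ⟨ConnectedComponents.mk ⟨(x₀, t), hx₀⟩, rfl⟩
  exact ⟨Continuous.homeoOfEquivCompactToT2 (f := Equiv.ofBijective _ ⟨hinj, hsurj⟩)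
    hq.connectedComponentsLift_continuous, fun y => rfl⟩

theorem isClosed_singleton_fib_iff (y : {p : X × T // ConnectedComponents.mk p.1 = g p.2}) :
    IsClosed ({y} : Set {p : X × T // ConnectedComponents.mk p.1 = g p.2}) ↔
      IsClosed ({y.1.1} : Set X) := by
  constructor
  · intro h
    have h1 : IsClosed (Subtype.val ''
        ({y} : Set {p : X × T // ConnectedComponents.mk p.1 = g p.2})) :=
      (isClosedEmbedding_fib_val g).isClosedMap _ h
    rw [Set.image_singleton] at h1
    have h2 : ({y.1.1} : Set X) = (fun x => (x, y.1.2)) ⁻¹' {y.1} := by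
      ext x
      simp only [Set.mem_singleton_iff, Set.mem_preimage]
      constructor
      · intro hx; subst hx; rfl
      · intro hx; exact congrArg Prod.fst hx
    rw [h2]
    exact h1.preimage (by fun_prop)
  · intro h
    have h1 : IsClosed (({y.1.1} : Set X) ×ˢ ({y.1.2} : Set T)) := h.prod isClosed_singleton
    have h2 : ({y} : Set {p : X × T // ConnectedComponents.mk p.1 = g p.2}) =
        Subtype.val ⁻¹' (({y.1.1} : Set X) ×ˢ ({y.1.2} : Set T)) := by
      ext z
      simp only [Set.mem_singleton_iff, Set.mem_preimage, Set.mem_prod]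
      constructor
      · intro hz; subst hz; exact ⟨rfl, rfl⟩
      · rintro ⟨h1, h2⟩; exact Subtype.ext (Prod.ext h1 h2)
    rw [h2]
    exact h1.preimage continuous_subtype_val

theorem isSpectralMap_fib_fst :
    IsSpectralMap (fun y : {p : X × T // ConnectedComponents.mk p.1 = g p.2} => y.1.1) := by
  refine ⟨continuous_fst.comp continuous_subtype_val, ?_⟩
  intro U hUo hUc
  have hpre : (fun y : {p : X × T // ConnectedComponents.mk p.1 = g p.2} => y.1.1) ⁻¹' U
      = Subtype.val ⁻¹' (U ×ˢ (Set.univ : Set T)) := by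
    ext y; simp
  rw [hpre]
  exact (isClosedEmbedding_fib_val g).isCompact_preimage (hUc.prod isCompact_univ)

end Fib

end Groth.Agent.H4
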