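import Mathlib
import Groth.Prelude.Def_EtCore
import Groth.Agent.S0501
import Groth.Agent.H4.GeomPoints

/-!
Sections of etale schemes over the spectrum of a henselian local ring through a point lying over the
closed geometric point, and the consequences for global sections: they map bijectively to the stalk
at the closed geometric point, and the global sections functor preserves epimorphisms.
-/

set_option autoImplicit false
open CategoryTheory CategoryTheory.Limits AlgebraicGeometry Opposite GrothendieckTopology
universe w' v' u' u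

namespace Groth.Agent.H4

/-- An etale algebra over a henselian local ring with a point in the residue field has a retraction
inducing that point. -/
theorem exists_retraction_of_etale (R : Type u) [CommRing R] [HenselianLocalRing R]
    (A : Type u) [CommRing A] [Algebra R A] [Algebra.Etale R A]
    (ψ : A →+* IsLocalRing.ResidueField R)
    (hψ : ψ.comp (algebraMap R A) = IsLocalRing.residue R) :
    ∃ f : A →ₐ[R] R, (IsLocalRing.residue R).comp f.toRingHom = ψ := by
  let q : Ideal A := RingHom.ker ψ
  haveI : q.IsPrime := RingHom.ker_isPrime ψ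
  have h2 : q.primeCompl ≤ (IsUnit.submonoid (IsLocalRing.ResidueField R)).comap ψ := by
    intro a ha
    have hne : ψ a ≠ 0 := fun h => ha ((RingHom.mem_ker).2 h)
    exact isUnit_iff_ne_zero.2 hne
  let τ : q.ResidueField →+* IsLocalRing.ResidueField R :=
    Ideal.ResidueField.lift q ψ le_rfl h2
  have hτ : τ.comp (algebraMap R q.ResidueField) =
      (IsLocalRing.residue R).comp (algebraMap R R) := by
    ext r
    have h1 : τ (algebraMap R q.ResidueField r) = ψ (algebraMap R A r) := by
      rw [IsScalarTower.algebraMap_apply R A q.ResidueField]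
      exact Ideal.ResidueField.lift_algebraMap q ψ le_rfl h2 _
    have h3 : ψ (algebraMap R A r) = IsLocalRing.residue R r := RingHom.congr_fun hψ r
    exact h1.trans h3
  obtain ⟨f, ⟨-, hf⟩, -⟩ := Groth.Agent.S0501.result R R A q τ hτ
  refine ⟨f, ?_⟩
  ext a
  have h1 : IsLocalRing.residue R (f a) = τ (algebraMap A q.ResidueField a) := hf a
  have h3 : τ (algebraMap A q.ResidueField a) = ψ a :=
    Ideal.ResidueField.lift_algebraMap q ψ le_rfl h2 a
  exact h1.trans h3

/-- An etale scheme over the spectrum of a henselian local ring with a point over the closed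
geometric point has a section through that point. -/
theorem exists_section_of_etale (R : Type u) [CommRing R] [HenselianLocalRing R]
    (W : Scheme.{u}) (h : W ⟶ Spec (CommRingCat.of R)) [Etale h]
    (y : Spec (CommRingCat.of (IsLocalRing.ResidueField R)) ⟶ W)
    (hy : y ≫ h = Spec.map (CommRingCat.ofHom (IsLocalRing.residue R))) :
    ∃ s : Spec (CommRingCat.of R) ⟶ W, s ≫ h = 𝟙 _ ∧
      Spec.map (CommRingCat.ofHom (IsLocalRing.residue R)) ≫ s = y := by
  obtain ⟨U, hU, hwU, -⟩ := exists_isAffineOpen_mem_and_subset
    (x := y.base (default : Spec (CommRingCat.of (IsLocalRing.ResidueField R)))) (U := ⊤) trivial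
  have hrange : Set.range y.base ⊆ Set.range hU.fromSpec.base := by
    rintro _ ⟨p, rfl⟩
    rw [hU.range_fromSpec]
    have hp : p = (default : Spec (CommRingCat.of (IsLocalRing.ResidueField R))) :=
      Subsingleton.elim _ _
    rw [hp]
    exact hwU
  have hy' : IsOpenImmersion.lift hU.fromSpec y hrange ≫ hU.fromSpec = y :=
    IsOpenImmersion.lift_fac hU.fromSpec y hrange
  haveI : Etale (hU.fromSpec ≫ h) := inferInstance
  have hφ : Spec.map (Spec.preimage (hU.fromSpec ≫ h)) = hU.fromSpec ≫ h :=
    Spec.map_preimage _
  have hψ : Spec.map (Spec.preimage (IsOpenImmersion.lift hU.fromSpec y hrange)) =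
      IsOpenImmersion.lift hU.fromSpec y hrange := Spec.map_preimage _
  have hφet : (Spec.preimage (hU.fromSpec ≫ h)).hom.Etale := by
    have h0 : Etale (Spec.map (Spec.preimage (hU.fromSpec ≫ h))) := by
      rw [hφ]
      infer_instance
    exact (HasRingHomProperty.Spec_iff (P := @Etale)).1 h0
  letI : Algebra R Γ(W, U) := (Spec.preimage (hU.fromSpec ≫ h)).hom.toAlgebra
  haveI : Algebra.Etale R Γ(W, U) := hφet
  have hcomp : (Spec.preimage (IsOpenImmersion.lift hU.fromSpec y hrange)).hom.comp
      (algebraMap R Γ(W, U)) = IsLocalRing.residue R := by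
    have h1 : Spec.map (Spec.preimage (hU.fromSpec ≫ h) ≫
        Spec.preimage (IsOpenImmersion.lift hU.fromSpec y hrange)) =
        Spec.map (CommRingCat.ofHom (IsLocalRing.residue R)) := by
      rw [Spec.map_comp, hφ, hψ, ← Category.assoc, hy', hy]
    have h2 := Spec.map_inj.1 h1
    exact congrArg CommRingCat.Hom.hom h2
  obtain ⟨f, hf⟩ := exists_retraction_of_etale R Γ(W, U) _ hcomp
  refine ⟨Spec.map (CommRingCat.ofHom f.toRingHom) ≫ hU.fromSpec, ?_, ?_⟩
  · have h1 : Spec.preimage (hU.fromSpec ≫ h) ≫ CommRingCat.ofHom f.toRingHom =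
        𝟙 (CommRingCat.of R) := by
      ext r
      exact f.commutes r
    rw [Category.assoc, ← hφ, ← Spec.map_comp, h1, Spec.map_id]
  · have h1 : CommRingCat.ofHom f.toRingHom ≫ CommRingCat.ofHom (IsLocalRing.residue R) =
        Spec.preimage (IsOpenImmersion.lift hU.fromSpec y hrange) := by
      ext a
      exact RingHom.congr_fun hf a
    rw [← Category.assoc, ← Spec.map_comp, h1, hψ, hy']

section

variable (R : Type u) [CommRing R] [HenselianLocalRing R]
  [IsSepClosed (IsLocalRing.ResidueField R)]

/-- The closed geometric point of the spectrum of a strictly henselian local ring. -/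
noncomputable abbrev closedGeomPt :
    Spec (CommRingCat.of (IsLocalRing.ResidueField R)) ⟶ Spec (CommRingCat.of R) :=
  Spec.map (CommRingCat.ofHom (IsLocalRing.residue R))

/-- The tautological lift of the closed geometric point to the final etale scheme. -/
noncomputable abbrev closedGeomPtTop :
    (Scheme.pointSmallEtale (closedGeomPt R)).fiber.obj (EtCoh.top (Spec (CommRingCat.of R))) :=
  Over.homMk (closedGeomPt R) (Category.comp_id _)

/-- Every pointed etale neighbourhood of the closed geometric point of a strictly henselian local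
scheme has a section through its point. -/
theorem exists_top_section (W : (Spec (CommRingCat.of R)).Etale)
    (y : (Scheme.pointSmallEtale (closedGeomPt R)).fiber.obj W) :
    ∃ σ : EtCoh.top (Spec (CommRingCat.of R)) ⟶ W,
      (Scheme.pointSmallEtale (closedGeomPt R)).fiber.map σ (closedGeomPtTop R) = y := by
  haveI : Etale W.hom := W.prop
  obtain ⟨s, hs1, hs2⟩ := exists_section_of_etale R W.left W.hom y.left (Over.w y)
  refine ⟨MorphismProperty.Over.homMk s hs1 trivial, ?_⟩
  apply Over.OverMorphism.ext
  exact hs2

section stalk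

variable {A : Type u'} [Category.{v'} A] [HasColimitsOfSize.{u, u} A]
  {FC : A → A → Type*} {CC : A → Type w'} [∀ X Y, FunLike (FC X Y) (CC X) (CC Y)]
  [ConcreteCategory.{w'} A FC] [PreservesFilteredColimitsOfSize.{u, u} (forget A)]

/-- Over a strictly henselian local scheme, global sections of any presheaf map bijectively onto the
stalk at the closed geometric point. -/
theorem toPresheafFiber_top_bijective (P : (Spec (CommRingCat.of R)).Etaleᵒᵖ ⥤ A) :
    Function.Bijective ((Scheme.pointSmallEtale (closedGeomPt R)).toPresheafFiber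
      (EtCoh.top (Spec (CommRingCat.of R))) (closedGeomPtTop R) P) := by
  constructor
  · intro a b hab
    obtain ⟨W, f, y, -, hf⟩ := ((Scheme.pointSmallEtale (closedGeomPt R)).toPresheafFiber_eq_iff'
      (P := P) (EtCoh.top (Spec (CommRingCat.of R))) (closedGeomPtTop R) a b).1 hab
    obtain ⟨σ, -⟩ := exists_top_section R W y
    have hid : σ ≫ f = 𝟙 (EtCoh.top (Spec (CommRingCat.of R))) :=
      (EtCore.topIsTerminal _).hom_ext _ _
    have e : ∀ c : ToType (P.obj (op (EtCoh.top (Spec (CommRingCat.of R))))),
        P.map σ.op (P.map f.op c) = c := by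
      intro c
      rw [← ConcreteCategory.comp_apply, ← P.map_comp, ← op_comp, hid, op_id, P.map_id,
        ConcreteCategory.id_apply]
    rw [← e a, hf, e b]
  · intro p
    obtain ⟨W, y, z, rfl⟩ :=
      (Scheme.pointSmallEtale (closedGeomPt R)).toPresheafFiber_jointly_surjective p
    obtain ⟨σ, hσ⟩ := exists_top_section R W y
    refine ⟨P.map σ.op z, ?_⟩
    rw [GrothendieckTopology.Point.toPresheafFiber_w_apply, hσ]

end stalk

/-- Global sections over a strictly henselian local scheme preserve epimorphisms of abelian
sheaves. -/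
theorem gsec_map_surjective {F G : EtCoh.Ab (Spec (CommRingCat.of R))} (φ : F ⟶ G) [Epi φ] :
    Function.Surjective (φ.hom.app (op (EtCoh.top (Spec (CommRingCat.of R))))) := by
  intro t
  haveI : Sheaf.IsLocallySurjective φ := (Sheaf.isLocallySurjective_iff_epi' _ φ).2 inferInstance
  obtain ⟨W, g, ⟨s, hs⟩, y, -⟩ := (Scheme.pointSmallEtale (closedGeomPt R)).jointly_surjective _
    (Presheaf.imageSieve_mem (Spec (CommRingCat.of R)).smallEtaleTopology φ.hom t)
    (closedGeomPtTop R)
  obtain ⟨σ, -⟩ := exists_top_section R W y
  have hid : σ ≫ g = 𝟙 (EtCoh.top (Spec (CommRingCat.of R))) :=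
    (EtCore.topIsTerminal _).hom_ext _ _
  refine ⟨F.obj.map σ.op s, ?_⟩
  have h1 : φ.hom.app _ (F.obj.map σ.op s) = G.obj.map σ.op (φ.hom.app _ s) :=
    NatTrans.naturality_apply φ.hom σ.op s
  rw [h1, hs, ← ConcreteCategory.comp_apply, ← G.obj.map_comp, ← op_comp, hid, op_id,
    G.obj.map_id, ConcreteCategory.id_apply]

end

end Groth.Agent.H4
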