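import Mathlib
import Groth.Prelude.Def_EtCore
import Groth.Agent.H4.StrictHensSection
import Groth.Agent.H52.ValFinSep
import Groth.Agent.S9718

/-!
# Zariski-local sections of étale morphisms over schemes with strictly henselian local rings
(helper4 library)

* `isStrictlyHenselian_of_ringEquiv`: strict henselianity is invariant under ring isomorphisms.
* `exists_zariski_section`: if the local ring of `S` at `j w` is strictly henselian and `j : W ⟶ S`
  is étale, then `j` has a section over a Zariski open neighbourhood of `j w`.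
  (Uses helper54's spreading out `S9718.spread_out_lfp'`.)
-/

set_option autoImplicit false
open CategoryTheory CategoryTheory.Limits AlgebraicGeometry Opposite
universe u

namespace Groth.Agent.H4.ZarSection

open Groth.Agent.H4

theorem evalmap {A B : Type*} [CommRing A] [CommRing B] (φ : B →+* A) (p : Polynomial B) (r : B) :
    (p.map φ).eval (φ r) = φ (p.eval r) := by
  rw [Polynomial.eval_map, Polynomial.eval₂_at_apply]

theorem henselianLocalRing_of_ringEquiv {A B : Type*} [CommRing A] [CommRing B] (e : A ≃+* B)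
    [hA : HenselianLocalRing A] : HenselianLocalRing B := by
  haveI hB : IsLocalRing B := e.isLocalRing
  have hmem : ∀ b : B, b ∈ IsLocalRing.maximalIdeal B ↔
      (e.symm : B →+* A) b ∈ IsLocalRing.maximalIdeal A := by
    intro b
    rw [IsLocalRing.mem_maximalIdeal, IsLocalRing.mem_maximalIdeal, mem_nonunits_iff,
      mem_nonunits_iff]
    refine not_congr ⟨fun h => h.map (e.symm : B →+* A), fun h => ?_⟩
    have := h.map (e : A →+* B)
    simpa using this
  refine { toIsLocalRing := hB, is_henselian := ?_ }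
  intro f hf a₀ h₁ h₂
  obtain ⟨a, ha, ha'⟩ := HenselianLocalRing.is_henselian (f.map (e.symm : B →+* A)) (hf.map _)
    ((e.symm : B →+* A) a₀) (by rw [evalmap]; exact (hmem _).1 h₁)
    (by rw [Polynomial.derivative_map, evalmap]; exact h₂.map (e.symm : B →+* A))
  have haa : (e.symm : B →+* A) (e a) = a := e.symm_apply_apply a
  refine ⟨e a, ?_, ?_⟩
  · have h3 : (e.symm : B →+* A) (f.eval (e a)) = 0 := by
      rw [← evalmap, haa]
      exact ha
    have h4 : (e.symm : B →+* A) (f.eval (e a)) = (e.symm : B →+* A) 0 := by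
      rw [h3, map_zero]
    exact e.symm.injective h4
  · rw [hmem, map_sub, haa]
    exact ha'

theorem isSepClosed_of_ringEquiv {K L : Type*} [Field K] [Field L] (φ : K ≃+* L)
    [IsSepClosed K] : IsSepClosed L := by
  refine ⟨fun p hp => ?_⟩
  have h1 : (p.map (φ.symm : L →+* K)).Splits := IsSepClosed.splits_of_separable _ hp.map
  have h2 := h1.map (φ : K →+* L)
  simpa [Polynomial.map_map, RingEquiv.comp_symm] using h2

theorem isStrictlyHenselian_of_ringEquiv {A B : Type u} [CommRing A] [CommRing B] (e : A ≃+* B)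
    (h : EtCoh.IsStrictlyHenselianLocalRing A) : EtCoh.IsStrictlyHenselianLocalRing B := by
  obtain ⟨hA, hsep⟩ := h
  haveI := hA
  haveI hB : HenselianLocalRing B := henselianLocalRing_of_ringEquiv e
  refine ⟨hB, ?_⟩
  haveI := hsep
  exact isSepClosed_of_ringEquiv (IsLocalRing.ResidueField.mapEquiv e)

/-- An étale morphism to a scheme whose local ring at `j w` is strictly henselian has a section
over a Zariski open neighbourhood of `j w`. -/
theorem exists_zariski_section {S W : Scheme.{u}} (j : W ⟶ S) [Etale j] (w : W) (x : S)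
    (hwx : j.base w = x)
    (hS : EtCoh.IsStrictlyHenselianLocalRing (S.presheaf.stalk x)) :
    ∃ (U : S.Opens) (_ : x ∈ U) (f : U.toScheme ⟶ W), f ≫ j = U.ι := by
  obtain ⟨hA, hsep⟩ := hS
  haveI := hA
  let K₀ : Type u := IsLocalRing.ResidueField (S.presheaf.stalk x)
  haveI hK : IsSepClosed K₀ := hsep
  let Q : Scheme.{u} := pullback j (S.fromSpecResidueField x)
  let ψ : Q ⟶ Spec (CommRingCat.of K₀) := pullback.snd j (S.fromSpecResidueField x)
  haveI : Etale ψ := inferInstanceAs (Etale (pullback.snd j (S.fromSpecResidueField x)))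
  obtain ⟨z, -, -⟩ := Scheme.Pullback.exists_preimage_pullback (f := j)
    (g := S.fromSpecResidueField x) w default
    (hwx.trans (Scheme.fromSpecResidueField_apply x default).symm)
  let ψr : CommRingCat.of K₀ ⟶ Q.residueField z := Spec.preimage (Q.fromSpecResidueField z ≫ ψ)
  have hψr : Spec.map ψr = Q.fromSpecResidueField z ≫ ψ := Spec.map_preimage _
  obtain ⟨-, hsepz⟩ := Groth.Agent.H52.finite_separable_of_etale_field (K := K₀) ψ z ψr hψr
  letI := ψr.hom.toAlgebra
  haveI := hsepz
  have hbij : Function.Bijective ψr.hom :=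
    IsSepClosed.algebraMap_bijective (k := K₀) (K := Q.residueField z)
  let θe : K₀ ≃+* Q.residueField z := RingEquiv.ofBijective ψr.hom hbij
  let θ : Q.residueField z ⟶ CommRingCat.of K₀ := CommRingCat.ofHom θe.symm.toRingHom
  have hθ : ψr ≫ θ = 𝟙 _ := by
    ext a
    exact θe.symm_apply_apply a
  let y₀ : Spec (CommRingCat.of K₀) ⟶ Q := Spec.map θ ≫ Q.fromSpecResidueField z
  have hy₀ : y₀ ≫ ψ = 𝟙 _ := by
    show (Spec.map θ ≫ Q.fromSpecResidueField z) ≫ ψ = 𝟙 _
    rw [Category.assoc, ← hψr, ← Spec.map_comp, hθ, Spec.map_id]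
  -- the local scheme at `x`
  let A : Type u := S.presheaf.stalk x
  let t : Spec (CommRingCat.of A) ⟶ S := S.fromSpecStalk x
  let c : Spec (CommRingCat.of K₀) ⟶ Spec (CommRingCat.of A) :=
    Spec.map (CommRingCat.ofHom (IsLocalRing.residue A))
  have hct : c ≫ t = S.fromSpecResidueField x := rfl
  let yW : Spec (CommRingCat.of K₀) ⟶ W := y₀ ≫ pullback.fst j (S.fromSpecResidueField x)
  have hyW : yW ≫ j = c ≫ t := by
    show (y₀ ≫ pullback.fst j (S.fromSpecResidueField x)) ≫ j = c ≫ t
    rw [Category.assoc, pullback.condition, ← Category.assoc]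
    have : y₀ ≫ pullback.snd j (S.fromSpecResidueField x) = 𝟙 _ := hy₀
    rw [this]
    exact (Category.id_comp _).trans hct.symm
  let y : Spec (CommRingCat.of K₀) ⟶ pullback j t := pullback.lift yW c hyW
  have hy : y ≫ pullback.snd j t = c := pullback.lift_snd _ _ _
  obtain ⟨s, hs, -⟩ := exists_section_of_etale A (pullback j t) (pullback.snd j t) y hy
  let φ : Spec (S.presheaf.stalk x) ⟶ W := s ≫ pullback.fst j t
  have hφ : φ ≫ j = S.fromSpecStalk x ≫ 𝟙 S := by
    show (s ≫ pullback.fst j t) ≫ j = S.fromSpecStalk x ≫ 𝟙 S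
    rw [Category.assoc, pullback.condition, ← Category.assoc, hs, Category.id_comp,
      Category.comp_id]
  obtain ⟨U, hxU, f, -, hf⟩ := Groth.Agent.S9718.spread_out_lfp' (𝟙 S) j φ hφ
  exact ⟨U, hxU, f, by rw [hf, Category.comp_id]⟩

end Groth.Agent.H4.ZarSection
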