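import Mathlib

/-!
# Tools on `Ext` groups (helper4 library)

* `mapExt_comp_nat`: naturality of `Ext.mapExactFunctor` with respect to a natural transformation
  `G₁ ⋙ G₂ ⟶ G₃` between exact functors.
* `rho`, `rho_bijective`: for an exact functor `R : A ⥤ B` preserving injectives and `u : Z ⟶ R P` such
  that `f ↦ u ≫ R f` is bijective on morphisms, `x ↦ u ≫ R x` is bijective on all `Ext` groups.
* `biprodExt_bijective`: `Ext (P₁ ⊞ P₂) F n ≃ Ext P₁ F n × Ext P₂ F n`.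
* `mv_assembly`: Mayer–Vietoris type exact sequence out of a short exact sequence.
-/

set_option autoImplicit false
universe w₁ w₂ w₃ w' v₁ v₂ v₃ u₁ u₂ u₃
open CategoryTheory CategoryTheory.Limits CategoryTheory.Abelian

namespace Groth.Agent.H4.ExtTools

section Nat

variable {A : Type u₁} [Category.{v₁} A] [Abelian A] [HasExt.{w₁} A] [EnoughInjectives A]
  {B : Type u₂} [Category.{v₂} B] [Abelian B] [HasExt.{w₂} B]
  {C : Type u₃} [Category.{v₃} C] [Abelian C] [HasExt.{w₃} C]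
  (G₁ : A ⥤ B) [G₁.Additive] [PreservesFiniteLimits G₁] [PreservesFiniteColimits G₁]
  (G₂ : B ⥤ C) [G₂.Additive] [PreservesFiniteLimits G₂] [PreservesFiniteColimits G₂]
  (G₃ : A ⥤ C) [G₃.Additive] [PreservesFiniteLimits G₃] [PreservesFiniteColimits G₃]
  (θ : G₁ ⋙ G₂ ⟶ G₃)

/-- A natural transformation `G₁ ⋙ G₂ ⟶ G₃` as a morphism of short complexes. -/
@[simps]
def natSC (S : ShortComplex A) : (S.map G₁).map G₂ ⟶ S.map G₃ where
  τ₁ := θ.app S.X₁
  τ₂ := θ.app S.X₂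
  τ₃ := θ.app S.X₃
  comm₁₂ := (θ.naturality S.f).symm
  comm₂₃ := (θ.naturality S.g).symm

theorem mapExt_comp_nat {X : A} (n : ℕ) : ∀ {Y : A} (x : Ext.{w₁} X Y n),
    (((x.mapExactFunctor G₁ : Ext.{w₂} _ _ n).mapExactFunctor G₂ : Ext.{w₃} _ _ n).comp
        (Ext.mk₀ (θ.app Y)) (add_zero n) : Ext.{w₃} (G₂.obj (G₁.obj X)) (G₃.obj Y) n) =
      (Ext.mk₀ (θ.app X)).comp (x.mapExactFunctor G₃) (zero_add n) := by
  induction n with
  | zero =>
    intro Y x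
    obtain ⟨f, rfl⟩ := (Ext.mk₀_bijective X Y).2 x
    rw [Ext.mapExactFunctor_mk₀, Ext.mapExactFunctor_mk₀, Ext.mapExactFunctor_mk₀,
      Ext.mk₀_comp_mk₀, Ext.mk₀_comp_mk₀]
    exact congrArg Ext.mk₀ (θ.naturality f)
  | succ n ih =>
    intro Y x
    let S : ShortComplex A := ShortComplex.mk (Injective.ι Y) (cokernel.π (Injective.ι Y))
      (cokernel.condition _)
    have hS : S.ShortExact :=
      { exact := ShortComplex.exact_cokernel _
        mono_f := inferInstanceAs (Mono (Injective.ι Y))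
        epi_g := inferInstanceAs (Epi (cokernel.π (Injective.ι Y))) }
    haveI hI : Injective S.X₂ := inferInstanceAs (Injective (Injective.under Y))
    have hx : x.comp (Ext.mk₀ S.f) (add_zero (n + 1)) = 0 := Ext.eq_zero_of_injective _
    obtain ⟨x₀, rfl⟩ := Ext.covariant_sequence_exact₁ X hS x hx rfl
    have hS₁ := hS.map_of_exact G₁
    have hS₁₂ := hS₁.map_of_exact G₂
    have hS₃ := hS.map_of_exact G₃
    have hnat : hS₁₂.extClass.comp (Ext.mk₀ (θ.app S.X₁)) (add_zero 1) =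
        (Ext.mk₀ (θ.app S.X₃)).comp hS₃.extClass (zero_add 1) :=
      ShortComplex.ShortExact.extClass_naturality hS₁₂ hS₃ (natSC G₁ G₂ G₃ θ S)
    have e0 : (x₀.comp hS.extClass rfl).mapExactFunctor G₁ =
        (x₀.mapExactFunctor G₁).comp hS₁.extClass rfl :=
      (Ext.mapExactFunctor_comp G₁ x₀ hS.extClass rfl).trans
        (congrArg (fun z => (x₀.mapExactFunctor G₁).comp z rfl)
          (Ext.mapExactFunctor_extClass G₁ hS))
    have e1 : ((x₀.comp hS.extClass rfl).mapExactFunctor G₁).mapExactFunctor G₂ =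
        ((x₀.mapExactFunctor G₁).mapExactFunctor G₂).comp hS₁₂.extClass rfl :=
      (congrArg (fun z => z.mapExactFunctor G₂) e0).trans
        ((Ext.mapExactFunctor_comp G₂ (x₀.mapExactFunctor G₁) hS₁.extClass rfl).trans
          (congrArg (fun z => ((x₀.mapExactFunctor G₁).mapExactFunctor G₂).comp z rfl)
            (Ext.mapExactFunctor_extClass G₂ hS₁)))
    have e3 : (x₀.comp hS.extClass rfl).mapExactFunctor G₃ =
        (x₀.mapExactFunctor G₃).comp hS₃.extClass rfl :=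
      (Ext.mapExactFunctor_comp G₃ x₀ hS.extClass rfl).trans
        (congrArg (fun z => (x₀.mapExactFunctor G₃).comp z rfl)
          (Ext.mapExactFunctor_extClass G₃ hS))
    rw [e1, e3]
    calc (((x₀.mapExactFunctor G₁).mapExactFunctor G₂).comp hS₁₂.extClass rfl).comp
          (Ext.mk₀ (θ.app S.X₁)) (add_zero (n + 1))
        = ((x₀.mapExactFunctor G₁).mapExactFunctor G₂).comp
            (hS₁₂.extClass.comp (Ext.mk₀ (θ.app S.X₁)) (add_zero 1)) rfl :=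
          Ext.comp_assoc_of_third_deg_zero _ _ _ _
      _ = ((x₀.mapExactFunctor G₁).mapExactFunctor G₂).comp
            ((Ext.mk₀ (θ.app S.X₃)).comp hS₃.extClass (zero_add 1)) rfl :=
          congrArg (fun z => ((x₀.mapExactFunctor G₁).mapExactFunctor G₂).comp z rfl) hnat
      _ = (((x₀.mapExactFunctor G₁).mapExactFunctor G₂).comp (Ext.mk₀ (θ.app S.X₃))
            (add_zero n)).comp hS₃.extClass rfl :=
          (Ext.comp_assoc_of_second_deg_zero _ _ _ _).symm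
      _ = ((Ext.mk₀ (θ.app X)).comp (x₀.mapExactFunctor G₃) (zero_add n)).comp hS₃.extClass rfl := by
          rw [ih]
      _ = (Ext.mk₀ (θ.app X)).comp ((x₀.mapExactFunctor G₃).comp hS₃.extClass rfl)
            (zero_add (n + 1)) :=
          Ext.comp_assoc _ _ _ (zero_add n) rfl (by omega)

end Nat

section Rho

variable {A : Type u₁} [Category.{v₁} A] [Abelian A] [HasExt.{w₁} A] [EnoughInjectives A]
  {B : Type u₂} [Category.{v₂} B] [Abelian B] [HasExt.{w₂} B]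
  (R : A ⥤ B) [R.Additive] [PreservesFiniteLimits R] [PreservesFiniteColimits R]
  {P : A} {Z : B} (u : Z ⟶ R.obj P)

/-- `x ↦ u ≫ R(x)`. -/
noncomputable def rho (F : A) (n : ℕ) : Ext.{w₁} P F n →+ Ext.{w₂} Z (R.obj F) n :=
  ((Ext.mk₀ u).precomp (R.obj F) (zero_add n)).comp (R.mapExtAddHom P F n)

omit [EnoughInjectives A] in
theorem rho_apply (F : A) (n : ℕ) (x : Ext.{w₁} P F n) :
    rho R u F n x = (Ext.mk₀ u).comp (x.mapExactFunctor R) (zero_add n) := rfl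

omit [EnoughInjectives A] in
theorem rho_mk₀ (F : A) (f : P ⟶ F) :
    rho R u F 0 (Ext.mk₀ f) = Ext.mk₀ (u ≫ R.map f) := by
  rw [rho_apply, Ext.mapExactFunctor_mk₀, Ext.mk₀_comp_mk₀]

omit [EnoughInjectives A] in
theorem rho_comp_mk₀ {F F' : A} (g : F ⟶ F') (n : ℕ) (x : Ext.{w₁} P F n) :
    rho R u F' n (x.comp (Ext.mk₀ g) (add_zero n)) =
      (rho R u F n x).comp (Ext.mk₀ (R.map g)) (add_zero n) := by
  rw [rho_apply, rho_apply, Ext.mapExactFunctor_comp, Ext.mapExactFunctor_mk₀]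
  exact (Ext.comp_assoc_of_third_deg_zero _ _ _ _).symm

omit [EnoughInjectives A] in
theorem rho_extClass {S : ShortComplex A} (hS : S.ShortExact) (hRS : (S.map R).ShortExact)
    (n : ℕ) (x₀ : Ext.{w₁} P S.X₃ n) :
    rho R u S.X₁ (n + 1) (x₀.comp hS.extClass rfl) =
      (rho R u S.X₃ n x₀).comp hRS.extClass rfl := by
  rw [rho_apply, rho_apply, Ext.mapExactFunctor_comp, Ext.mapExactFunctor_extClass]
  exact (Ext.comp_assoc (Ext.mk₀ u) (x₀.mapExactFunctor R) _ (zero_add n) rfl (by omega)).symm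

theorem rho_bijective (hR : ∀ I : A, Injective I → Injective (R.obj I))
    (h0 : ∀ F : A, Function.Bijective (fun f : P ⟶ F => u ≫ R.map f)) :
    ∀ (n : ℕ) (F : A), Function.Bijective (rho R u F n) := by
  intro n
  induction n with
  | zero =>
    intro F
    constructor
    · intro e₁ e₂ h
      obtain ⟨g₁, rfl⟩ := (Ext.mk₀_bijective P F).2 e₁
      obtain ⟨g₂, rfl⟩ := (Ext.mk₀_bijective P F).2 e₂
      rw [rho_mk₀, rho_mk₀] at h
      have h' := (Ext.mk₀_bijective _ _).1 h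
      exact congrArg Ext.mk₀ ((h0 F).1 h')
    · intro y
      obtain ⟨g, rfl⟩ := (Ext.mk₀_bijective Z (R.obj F)).2 y
      obtain ⟨f, hf⟩ := (h0 F).2 g
      exact ⟨Ext.mk₀ f, (rho_mk₀ R u F f).trans (congrArg Ext.mk₀ hf)⟩
  | succ n ih =>
    intro F
    let S : ShortComplex A := ShortComplex.mk (Injective.ι F) (cokernel.π (Injective.ι F))
      (cokernel.condition _)
    have hS : S.ShortExact :=
      { exact := ShortComplex.exact_cokernel _
        mono_f := inferInstanceAs (Mono (Injective.ι F))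
        epi_g := inferInstanceAs (Epi (cokernel.π (Injective.ι F))) }
    haveI hI : Injective S.X₂ := inferInstanceAs (Injective (Injective.under F))
    have hRS : (S.map R).ShortExact := hS.map_of_exact R
    haveI hRI : Injective (S.map R).X₂ := hR S.X₂ hI
    constructor
    · rw [injective_iff_map_eq_zero]
      intro x hx
      have hx' : x.comp (Ext.mk₀ S.f) (add_zero (n + 1)) = 0 := Ext.eq_zero_of_injective _
      obtain ⟨x₀, hx₀⟩ := Ext.covariant_sequence_exact₁ P hS x hx' rfl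
      have h1 : (rho R u S.X₃ n x₀).comp hRS.extClass rfl = 0 := by
        rw [← rho_extClass R u hS hRS n x₀, hx₀]
        exact hx
      obtain ⟨y, hy⟩ := Ext.covariant_sequence_exact₃ Z hRS _ rfl h1
      obtain ⟨x', rfl⟩ := (ih S.X₂).2 y
      have h2 : x₀ = x'.comp (Ext.mk₀ S.g) (add_zero n) := by
        apply (ih S.X₃).1
        rw [rho_comp_mk₀]
        exact hy.symm
      rw [← hx₀, h2]
      have h3 : (Ext.mk₀ S.g).comp hS.extClass (zero_add 1) = 0 := hS.comp_extClass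
      exact (Ext.comp_assoc_of_second_deg_zero x' (Ext.mk₀ S.g) hS.extClass rfl).trans
        ((congrArg (fun z => x'.comp z rfl) h3).trans (Ext.comp_zero _ _ _ _ _))
    · intro y
      have hy' : y.comp (Ext.mk₀ (S.map R).f) (add_zero (n + 1)) = 0 :=
        Ext.eq_zero_of_injective _
      obtain ⟨y₀, hy₀⟩ := Ext.covariant_sequence_exact₁ Z hRS y hy' rfl
      obtain ⟨x₀, hx₀⟩ := (ih S.X₃).2 y₀
      refine ⟨x₀.comp hS.extClass rfl, ?_⟩
      rw [rho_extClass R u hS hRS n x₀, hx₀]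
      exact hy₀

end Rho

section Biprod

variable {A : Type u₁} [Category.{v₁} A] [Abelian A] [HasExt.{w₁} A]

/-- `x ↦ (inl ≫ x, inr ≫ x)`. -/
noncomputable def biprodExt (P₁ P₂ F : A) (n : ℕ) :
    Ext.{w₁} (P₁ ⊞ P₂) F n →+ Ext.{w₁} P₁ F n × Ext.{w₁} P₂ F n :=
  ((Ext.mk₀ biprod.inl).precomp F (zero_add n)).prod ((Ext.mk₀ biprod.inr).precomp F (zero_add n))

theorem biprodExt_apply (P₁ P₂ F : A) (n : ℕ) (x : Ext.{w₁} (P₁ ⊞ P₂) F n) :
    biprodExt P₁ P₂ F n x =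
      ((Ext.mk₀ biprod.inl).comp x (zero_add n), (Ext.mk₀ biprod.inr).comp x (zero_add n)) := rfl

theorem biprodExt_bijective (P₁ P₂ F : A) (n : ℕ) : Function.Bijective (biprodExt P₁ P₂ F n) := by
  constructor
  · intro x y h
    rw [biprodExt_apply, biprodExt_apply] at h
    exact Ext.biprod_ext (congrArg Prod.fst h) (congrArg Prod.snd h)
  · rintro ⟨y₁, y₂⟩
    refine ⟨(Ext.mk₀ biprod.fst).comp y₁ (zero_add n) + (Ext.mk₀ biprod.snd).comp y₂ (zero_add n),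
      ?_⟩
    rw [biprodExt_apply]
    apply Prod.ext
    · show (Ext.mk₀ biprod.inl).comp _ (zero_add n) = y₁
      rw [Ext.comp_add, Ext.mk₀_comp_mk₀_assoc, Ext.mk₀_comp_mk₀_assoc, biprod.inl_fst,
        biprod.inl_snd, Ext.mk₀_id_comp, Ext.mk₀_zero, Ext.zero_comp, add_zero]
    · show (Ext.mk₀ biprod.inr).comp _ (zero_add n) = y₂
      rw [Ext.comp_add, Ext.mk₀_comp_mk₀_assoc, Ext.mk₀_comp_mk₀_assoc, biprod.inr_fst,
        biprod.inr_snd, Ext.mk₀_id_comp, Ext.mk₀_zero, Ext.zero_comp, zero_add]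

theorem mk₀_lift_neg_comp {P₃ P₁ P₂ F : A} (ι₁ : P₃ ⟶ P₁) (ι₂ : P₃ ⟶ P₂) (n : ℕ)
    (x : Ext.{w₁} (P₁ ⊞ P₂) F n) :
    (Ext.mk₀ (biprod.lift ι₁ (-ι₂))).comp x (zero_add n) =
      (Ext.mk₀ ι₁).comp ((Ext.mk₀ biprod.inl).comp x (zero_add n)) (zero_add n) -
        (Ext.mk₀ ι₂).comp ((Ext.mk₀ biprod.inr).comp x (zero_add n)) (zero_add n) := by
  rw [Ext.mk₀_comp_mk₀_assoc, Ext.mk₀_comp_mk₀_assoc, sub_eq_add_neg, ← Ext.neg_comp,
    ← Ext.mk₀_neg, ← Ext.add_comp, ← Ext.mk₀_add, ← Preadditive.neg_comp, ← biprod.lift_eq]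

end Biprod

section Assembly

variable {A : Type u₁} [Category.{v₁} A] [Abelian A] [HasExt.{w₁} A]

theorem mv_assembly {S : ShortComplex A} (hS : S.ShortExact) (F : A)
    {H₁ H₂ H₃ : ℕ → Type w'} [∀ n, AddCommGroup (H₁ n)] [∀ n, AddCommGroup (H₂ n)]
    [∀ n, AddCommGroup (H₃ n)]
    (r₁ : ∀ n, Ext.{w₁} S.X₃ F n →+ H₁ n) (r₂ : ∀ n, Ext.{w₁} S.X₃ F n →+ H₂ n)
    (d₁ : ∀ n, H₁ n →+ H₃ n) (d₂ : ∀ n, H₂ n →+ H₃ n)
    (κ : ∀ n, Ext.{w₁} S.X₂ F n →+ H₁ n × H₂ n) (hκ : ∀ n, Function.Bijective (κ n))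
    (ρ : ∀ n, Ext.{w₁} S.X₁ F n →+ H₃ n) (hρ : ∀ n, Function.Bijective (ρ n))
    (h₁ : ∀ n (x : Ext.{w₁} S.X₃ F n),
      κ n ((Ext.mk₀ S.g).comp x (zero_add n)) = (r₁ n x, r₂ n x))
    (h₂ : ∀ n (x : Ext.{w₁} S.X₂ F n),
      ρ n ((Ext.mk₀ S.f).comp x (zero_add n)) = d₁ n (κ n x).1 - d₂ n (κ n x).2) :
    ∃ δ : ∀ n, H₃ n →+ Ext.{w₁} S.X₃ F (n + 1),
      ((r₁ 0).prod (r₂ 0)).ker = ⊥ ∧
      (∀ n, ((r₁ (n + 1)).prod (r₂ (n + 1))).ker = (δ n).range) ∧
      (∀ n, ((d₁ n).comp (AddMonoidHom.fst _ _) - (d₂ n).comp (AddMonoidHom.snd _ _)).ker =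
        ((r₁ n).prod (r₂ n)).range) ∧
      (∀ n, (δ n).ker =
        ((d₁ n).comp (AddMonoidHom.fst _ _) - (d₂ n).comp (AddMonoidHom.snd _ _)).range) := by
  haveI := hS.epi_g
  let ρe : ∀ n, Ext.{w₁} S.X₁ F n ≃+ H₃ n := fun n => AddEquiv.ofBijective (ρ n) (hρ n)
  let δ : ∀ n, H₃ n →+ Ext.{w₁} S.X₃ F (n + 1) := fun n =>
    (hS.extClass.precomp F (Nat.add_comm 1 n)).comp (ρe n).symm.toAddMonoidHom
  have hδ : ∀ n (x₁ : Ext.{w₁} S.X₁ F n),
      δ n (ρ n x₁) = hS.extClass.comp x₁ (Nat.add_comm 1 n) := by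
    intro n x₁
    show hS.extClass.comp ((ρe n).symm (ρ n x₁)) (Nat.add_comm 1 n) = _
    rw [show (ρe n).symm (ρ n x₁) = x₁ from (ρe n).symm_apply_apply x₁]
  have hκ0 : ∀ n (x : Ext.{w₁} S.X₃ F n),
      (r₁ n x, r₂ n x) = 0 ↔ (Ext.mk₀ S.g).comp x (zero_add n) = 0 := by
    intro n x
    rw [← h₁ n x]
    exact map_eq_zero_iff (κ n) (hκ n).1
  refine ⟨δ, ?_, ?_, ?_, ?_⟩
  · rw [AddSubgroup.eq_bot_iff_forall]
    intro x hx
    rw [AddMonoidHom.mem_ker, AddMonoidHom.prod_apply, hκ0] at hx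
    apply Ext.precomp_mk₀_injective_of_epi F S.g
    show (Ext.mk₀ S.g).comp x (zero_add 0) = (Ext.mk₀ S.g).comp 0 (zero_add 0)
    rw [hx, Ext.comp_zero]
  · intro n
    ext x
    rw [AddMonoidHom.mem_ker, AddMonoidHom.prod_apply, hκ0, AddMonoidHom.mem_range]
    constructor
    · intro hx
      obtain ⟨x₁, hx₁⟩ := Ext.contravariant_sequence_exact₃ hS F x hx (Nat.add_comm 1 n)
      exact ⟨ρ n x₁, (hδ n x₁).trans hx₁⟩
    · rintro ⟨y, rfl⟩
      obtain ⟨x₁, rfl⟩ := (hρ n).2 y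
      rw [hδ]
      exact hS.comp_extClass_assoc x₁ _
  · intro n
    ext ⟨y₁, y₂⟩
    obtain ⟨x₂, hx₂⟩ := (hκ n).2 (y₁, y₂)
    rw [AddMonoidHom.mem_ker, AddMonoidHom.mem_range]
    have hd : ((d₁ n).comp (AddMonoidHom.fst (H₁ n) (H₂ n)) -
        (d₂ n).comp (AddMonoidHom.snd (H₁ n) (H₂ n))) (y₁, y₂) =
        ρ n ((Ext.mk₀ S.f).comp x₂ (zero_add n)) := by
      rw [h₂, hx₂]
      rfl
    rw [hd, map_eq_zero_iff (ρ n) (hρ n).1]
    constructor
    · intro hx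
      obtain ⟨x, hx⟩ := Ext.contravariant_sequence_exact₂ hS F x₂ hx
      refine ⟨x, ?_⟩
      rw [AddMonoidHom.prod_apply, ← h₁, hx, hx₂]
    · rintro ⟨x, hx⟩
      have hxx : x₂ = (Ext.mk₀ S.g).comp x (zero_add n) :=
        (hκ n).1 (hx₂.trans (hx.symm.trans (h₁ n x).symm))
      rw [hxx, Ext.mk₀_comp_mk₀_assoc, S.zero, Ext.mk₀_zero, Ext.zero_comp]
  · intro n
    ext y
    obtain ⟨x₁, rfl⟩ := (hρ n).2 y
    rw [AddMonoidHom.mem_ker, hδ, AddMonoidHom.mem_range]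
    constructor
    · intro hx
      obtain ⟨x₂, hx₂⟩ := Ext.contravariant_sequence_exact₁ hS F x₁ (Nat.add_comm 1 n) hx
      refine ⟨κ n x₂, ?_⟩
      show d₁ n (κ n x₂).1 - d₂ n (κ n x₂).2 = ρ n x₁
      rw [← h₂, hx₂]
    · rintro ⟨⟨y₁, y₂⟩, hy⟩
      obtain ⟨x₂, hx₂⟩ := (hκ n).2 (y₁, y₂)
      have hh : ρ n ((Ext.mk₀ S.f).comp x₂ (zero_add n)) = ρ n x₁ := by
        rw [h₂, hx₂]
        exact hy
      rw [← (hρ n).1 hh]
      exact hS.extClass_comp_assoc x₂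

end Assembly

end Groth.Agent.H4.ExtTools
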