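import Mathlib
import Groth.Prelude.Def_EtShriek2
import Groth.Agent.S0648

/-!
For an etale morphism `j : U ⟶ X`: the functor `V ↦ (V → U → X)` of small etale sites is continuous,
inverse image `j^{-1}` is isomorphic to restriction, and it preserves injective abelian sheaves.
-/

set_option autoImplicit false
open CategoryTheory CategoryTheory.Limits AlgebraicGeometry Opposite
universe u

namespace Groth.Agent.H4

variable {U X : Scheme.{u}} (j : U ⟶ X) [Etale j]

set_option backward.isDefEq.respectTransparency.types false in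
theorem compatiblePreserving_compEtale :
    CompatiblePreserving X.smallEtaleTopology (EtShriek.compEtale j) where
  compatible ℱ {Z T x} hx {Y₁ Y₂ W} f₁ f₂ {g₁ g₂} hg₁ hg₂ h := by
    let a₁ : W.left ⟶ Y₁.left := f₁.left
    let a₂ : W.left ⟶ Y₂.left := f₂.left
    haveI : Etale a₁ := inferInstanceAs (Etale f₁.left)
    have hw₁ : a₁ ≫ (Y₁.hom ≫ j) = W.hom := Over.w f₁.hom
    have hw₂ : a₂ ≫ (Y₂.hom ≫ j) = W.hom := Over.w f₂.hom
    have hleft : a₁ ≫ g₁.left = a₂ ≫ g₂.left := congrArg (fun q => q.left) h
    have hz₁ : g₁.left ≫ Z.hom = Y₁.hom := Over.w g₁.hom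
    have hz₂ : g₂.left ≫ Z.hom = Y₂.hom := Over.w g₂.hom
    let W' : U.Etale := Scheme.Etale.mk (a₁ ≫ Y₁.hom)
    let g₁' : W' ⟶ Y₁ := MorphismProperty.Over.homMk a₁ rfl trivial
    have hc : a₂ ≫ Y₂.hom = a₁ ≫ Y₁.hom := by
      rw [← hz₁, ← hz₂, ← Category.assoc, ← Category.assoc, hleft]
    let g₂' : W' ⟶ Y₂ := MorphismProperty.Over.homMk a₂ hc trivial
    let ε : W ⟶ (EtShriek.compEtale j).obj W' :=
      MorphismProperty.Over.homMk (𝟙 W.left) (by
        show 𝟙 W.left ≫ ((a₁ ≫ Y₁.hom) ≫ j) = W.hom
        rw [Category.id_comp, Category.assoc]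
        exact hw₁) trivial
    have e1 : f₁ = ε ≫ (EtShriek.compEtale j).map g₁' := by
      apply MorphismProperty.Over.Hom.ext
      exact (Category.id_comp a₁).symm
    have e2 : f₂ = ε ≫ (EtShriek.compEtale j).map g₂' := by
      apply MorphismProperty.Over.Hom.ext
      exact (Category.id_comp a₂).symm
    have hcomp : g₁' ≫ g₁ = g₂' ≫ g₂ := by
      apply MorphismProperty.Over.Hom.ext
      exact hleft
    have key := congrArg (ℱ.obj.map ε.op) (hx g₁' g₂' hg₁ hg₂ hcomp)
    rw [e1, e2, op_comp, op_comp, Functor.map_comp_apply, Functor.map_comp_apply]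
    exact key

instance jCont_of_etale : EtShriek.JCont j :=
  Functor.isContinuous_of_coverPreserving (compatiblePreserving_compEtale j)
    (EtShriek.coverPreserving_compEtale j)

/-- The adjunction between composition and base change of small etale sites. -/
noncomputable def compBcAdj : EtShriek.compEtale j ⊣ EtCoh.bc j :=
  MorphismProperty.Over.mapPullbackAdj EtCoh.etaleMP ⊤ j (‹Etale j› : EtCoh.etaleMP j) trivial

/-- Restriction along an etale morphism is left adjoint to direct image. -/
noncomputable def restrPushAdj : EtShriek.restrAlong j ⊣ EtCoh.push j :=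
  (compBcAdj j).sheafPushforwardContinuous (E := AddCommGrpCat.{u + 1})
    U.smallEtaleTopology X.smallEtaleTopology

/-- Inverse image along an etale morphism is restriction. -/
noncomputable def pullIsoRestr : EtCoh.pull j ≅ EtShriek.restrAlong j :=
  (EtCoh.pullPushAdj j).leftAdjointUniq (restrPushAdj j)

theorem injective_restrAlong (J : EtCoh.Ab X) [Injective J] :
    Injective ((EtShriek.restrAlong j).obj J) := by
  haveI := Groth.Agent.S0648.result j
  haveI : PreservesLimitsOfShape WalkingCospan (EtShriek.extZero j) :=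
    (Groth.Agent.S0648.result j).preservesFiniteLimits WalkingCospan
  haveI : (EtShriek.extZero j).PreservesMonomorphisms :=
    preservesMonomorphisms_of_preservesLimitsOfShape (EtShriek.extZero j)
  exact Injective.injective_of_adjoint (EtShriek.extZeroAdj j) J

theorem injective_pull_of_etale (J : EtCoh.Ab X) [Injective J] :
    Injective ((EtCoh.pull j).obj J) := by
  haveI := injective_restrAlong j J
  exact Injective.of_iso ((pullIsoRestr j).app J).symm inferInstance

end Groth.Agent.H4
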