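import Mathlib
import Groth.Prelude.Def_EtBase
import Groth.Agent.H4.EtaleRes
import Groth.Agent.S0622
import Groth.Agent.S0100
import Groth.Agent.S0069
import Groth.Agent.H45.EtPullExact

/-!
Vanishing of abelian etale sheaves tested on geometric stalks, and consequences for a closed
immersion `i : Z ⟶ X` with open complement `j : U ⟶ X`.
-/

set_option autoImplicit false
open CategoryTheory CategoryTheory.Limits AlgebraicGeometry Opposite
universe u

namespace Groth.Agent.H4

open ZeroObject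

/-- An abelian etale sheaf all of whose geometric stalks vanish is zero. -/
theorem isZero_of_stalks {X : Scheme.{u}} (F : EtCoh.Ab X)
    (h : ∀ (Ω : Type u) [Field Ω] [IsSepClosed Ω] (ξ : Spec (CommRingCat.of Ω) ⟶ X),
      IsZero ((EtCoh.stalk ξ).obj F)) : IsZero F := by
  have hepi : Epi (0 : (0 : EtCoh.Ab X) ⟶ F) := by
    rw [Groth.Agent.S0622.epi_iff]
    intro Ω _ _ ξ
    haveI := AddCommGrpCat.subsingleton_of_isZero (h Ω ξ)
    intro y
    exact ⟨0, Subsingleton.elim _ _⟩
  exact IsZero.of_epi_eq_zero (0 : (0 : EtCoh.Ab X) ⟶ F) rfl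

/-- The geometric stalks of a zero sheaf vanish. -/
theorem isZero_stalk_of_isZero {X : Scheme.{u}} {F : EtCoh.Ab X} (hF : IsZero F)
    {Ω : Type u} [Field Ω] [IsSepClosed Ω] (ξ : Spec (CommRingCat.of Ω) ⟶ X) :
    IsZero ((EtCoh.stalk ξ).obj F) := by
  haveI : PreservesFiniteLimits (EtCoh.stalk ξ) := inferInstance
  exact (EtCoh.stalk ξ).map_isZero hF

/-- If the stalks of `F` vanish at all geometric points lifting to `V`, then `F(V) = 0`. -/
theorem subsingleton_sections_of_stalks {X : Scheme.{u}} (F : EtCoh.Ab X) (V : X.Etale)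
    (h : ∀ (Ω : Type u) [Field Ω] [IsSepClosed Ω] (ξ : Spec (CommRingCat.of Ω) ⟶ X)
      (_ : (Scheme.pointSmallEtale ξ).fiber.obj V), IsZero ((EtCoh.stalk ξ).obj F)) :
    Subsingleton (F.obj.obj (op V)) := by
  constructor
  intro x y
  apply eq_of_locally_eq F V x y
  intro v
  obtain ⟨Ω, _, _, ξ, t, ht⟩ := exists_geometric_point V v
  have hss := AddCommGrpCat.subsingleton_of_isZero (h Ω ξ t)
  have h1 : (Scheme.pointSmallEtale ξ).toPresheafFiber V t F.obj x =
      (Scheme.pointSmallEtale ξ).toPresheafFiber V t F.obj y := @Subsingleton.elim _ hss _ _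
  obtain ⟨W, g, w, hw, hg⟩ :=
    ((Scheme.pointSmallEtale ξ).toPresheafFiber_eq_iff' V t x y).1 h1
  refine ⟨W, g, w.left.base (default : Spec (CommRingCat.of Ω)), ?_, hg⟩
  rw [← ht, ← hw]
  rfl

section closed

variable {Z X U : Scheme.{u}} (i : Z ⟶ X) [IsClosedImmersion i]
  (j : U ⟶ X) [IsOpenImmersion j] (hZU : Set.range j.base = (Set.range i.base)ᶜ)

include hZU in
/-- `j^{-1} i_* B = 0`. -/
theorem isZero_pull_push_of_compl (B : EtCoh.Ab Z) :
    IsZero ((EtCoh.pull j).obj ((EtCoh.push i).obj B)) := by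
  apply isZero_of_stalks
  intro Ω _ _ ζ
  obtain ⟨e⟩ := Groth.Agent.S0100.result j ((EtCoh.push i).obj B) ζ
  refine IsZero.of_iso ?_ e
  apply Groth.Agent.S0069.result i B (ζ ≫ j)
  rw [Set.disjoint_left]
  rintro _ ⟨a, rfl⟩ hmem
  have h1 : (ζ ≫ j).base a ∈ Set.range j.base := ⟨ζ.base a, rfl⟩
  rw [hZU] at h1
  exact h1 hmem

/-- `j^{-1}` of the kernel of the unit `I ⟶ j_* j^{-1} I` vanishes. -/
theorem isZero_pull_kernel_unit (I : EtCoh.Ab X) :
    IsZero ((EtCoh.pull j).obj (kernel ((EtCoh.pullPushAdj j).unit.app I))) := by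
  haveI := Groth.Agent.H45.preservesFiniteLimits_pullAb j
  haveI : (EtCoh.pull j).PreservesZeroMorphisms := inferInstance
  haveI : PreservesLimit (parallelPair ((EtCoh.pullPushAdj j).unit.app I) 0) (EtCoh.pull j) :=
    inferInstance
  refine IsZero.of_iso ?_ (PreservesKernel.iso (EtCoh.pull j) ((EtCoh.pullPushAdj j).unit.app I))
  haveI : IsSplitMono ((EtCoh.pull j).map ((EtCoh.pullPushAdj j).unit.app I)) :=
    ⟨⟨⟨(EtCoh.pullPushAdj j).counit.app ((EtCoh.pull j).obj I),
      (EtCoh.pullPushAdj j).left_triangle_components I⟩⟩⟩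
  exact isZero_kernel_of_mono _

include hZU in
/-- The kernel of `I ⟶ j_* j^{-1} I` has no sections over etale schemes lying over the complement of
`Z`. -/
theorem isZero_kernel_unit_sections (I : EtCoh.Ab X) (V : X.Etale)
    (hV : Disjoint (Set.range V.hom.base) (Set.range i.base)) :
    IsZero ((kernel ((EtCoh.pullPushAdj j).unit.app I)).obj.obj (op V)) := by
  haveI := subsingleton_sections_of_stalks (kernel ((EtCoh.pullPushAdj j).unit.app I)) V (by
    intro Ω _ _ ξ t
    have hr : Set.range ξ.base ⊆ Set.range j.base := by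
      rintro _ ⟨a, rfl⟩
      rw [hZU]
      intro hmem
      have h2 : t.left ≫ V.hom = ξ := Over.w t
      have h3 : V.hom.base (t.left.base a) = ξ.base a := congrArg (fun q => q.base a) h2
      exact Set.disjoint_left.1 hV ⟨t.left.base a, h3⟩ hmem
    let ζ : Spec (CommRingCat.of Ω) ⟶ U := IsOpenImmersion.lift j ξ hr
    have hζ : ζ ≫ j = ξ := IsOpenImmersion.lift_fac j ξ hr
    obtain ⟨e⟩ := Groth.Agent.S0100.result j (kernel ((EtCoh.pullPushAdj j).unit.app I)) ζ
    have hz := isZero_stalk_of_isZero (isZero_pull_kernel_unit j I) ζ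
    have hz2 := IsZero.of_iso hz e.symm
    rw [hζ] at hz2
    exact hz2)
  exact AddCommGrpCat.isZero_of_subsingleton _

end closed

end Groth.Agent.H4
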