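import Mathlib
import Groth.Prelude.Def_EtShriek2
import Groth.Agent.H4.SuppClosed
import Groth.Agent.H4.EtaleJCont
import Groth.Agent.S0651

/-!
A closed immersion `i : Z ⟶ X` and its open complement `j : U ⟶ X` are jointly conservative on
abelian etale sheaves.
-/

set_option autoImplicit false
open CategoryTheory CategoryTheory.Limits AlgebraicGeometry Opposite
universe u

namespace Groth.Agent.H4

/-- A geometric point of `X` whose image lies in a closed subscheme factors through it. -/
theorem exists_lift_closedImmersion {Z X : Scheme.{u}} (i : Z ⟶ X) [IsClosedImmersion i]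
    {Ω : Type u} [Field Ω] (ξ : Spec (CommRingCat.of Ω) ⟶ X)
    (h : ξ.base (default : Spec (CommRingCat.of Ω)) ∈ Set.range i.base) :
    ∃ ζ : Spec (CommRingCat.of Ω) ⟶ Z, ζ ≫ i = ξ := by
  obtain ⟨z, hz⟩ := h
  haveI : Surjective (pullback.fst ξ i) := by
    constructor
    intro a
    obtain ⟨p, hp1, -⟩ := Scheme.Pullback.exists_preimage_pullback (f := ξ) (g := i)
      (default : Spec (CommRingCat.of Ω)) z hz.symm
    exact ⟨p, hp1.trans (Subsingleton.elim _ _)⟩
  haveI : IsIso (pullback.fst ξ i) := isIso_of_isClosedImmersion_of_surjective _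
  refine ⟨inv (pullback.fst ξ i) ≫ pullback.snd ξ i, ?_⟩
  rw [Category.assoc, ← pullback.condition, ← Category.assoc, IsIso.inv_hom_id, Category.id_comp]

section closed

variable {Z X U : Scheme.{u}} (i : Z ⟶ X) [IsClosedImmersion i]
  (j : U ⟶ X) [IsOpenImmersion j] (hZU : Set.range j.base = (Set.range i.base)ᶜ)

include hZU in
theorem isZero_of_pull_closed_open (C : EtCoh.Ab X) (hi : IsZero ((EtCoh.pull i).obj C))
    (hj : IsZero ((EtCoh.pull j).obj C)) : IsZero C := by
  apply isZero_of_stalks
  intro Ω _ _ ξ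
  by_cases h : ξ.base (default : Spec (CommRingCat.of Ω)) ∈ Set.range i.base
  · obtain ⟨ζ, hζ⟩ := exists_lift_closedImmersion i ξ h
    obtain ⟨e⟩ := Groth.Agent.S0100.result i C ζ
    have hz2 := IsZero.of_iso (isZero_stalk_of_isZero hi ζ) e.symm
    rw [hζ] at hz2
    exact hz2
  · have hr : Set.range ξ.base ⊆ Set.range j.base := by
      rintro _ ⟨a, rfl⟩
      rw [hZU]
      rwa [Subsingleton.elim a (default : Spec (CommRingCat.of Ω))]
    let ζ : Spec (CommRingCat.of Ω) ⟶ U := IsOpenImmersion.lift j ξ hr
    have hζ : ζ ≫ j = ξ := IsOpenImmersion.lift_fac j ξ hr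
    obtain ⟨e⟩ := Groth.Agent.S0100.result j C ζ
    have hz2 := IsZero.of_iso (isZero_stalk_of_isZero hj ζ) e.symm
    rw [hζ] at hz2
    exact hz2

include hZU in
theorem isZero_of_pull_restr (C : EtCoh.Ab X) (hi : IsZero ((EtCoh.pull i).obj C))
    (hj : IsZero ((EtShriek.restrAlong j).obj C)) : IsZero C :=
  isZero_of_pull_closed_open i j hZU C hi (IsZero.of_iso hj ((pullIsoRestr j).app C))

include hZU in
theorem isZero_restr_push (B : EtCoh.Ab Z) :
    IsZero ((EtShriek.restrAlong j).obj ((EtCoh.push i).obj B)) :=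
  IsZero.of_iso (isZero_pull_push_of_compl i j hZU B) ((pullIsoRestr j).app _).symm

include hZU in
/-- `i^{-1} j_! G = 0`. -/
theorem isZero_pull_extZero (G : EtCoh.Ab U) :
    IsZero ((EtCoh.pull i).obj ((EtShriek.extZero j).obj G)) := by
  rw [IsZero.iff_id_eq_zero]
  apply ((EtCoh.pullPushAdj i).homEquiv _ _).injective
  apply ((EtShriek.extZeroAdj j).homEquiv _ _).injective
  exact (isZero_restr_push i j hZU _).eq_of_tgt _ _

end closed

end Groth.Agent.H4

namespace Groth.Agent.H4

open CategoryTheory CategoryTheory.Limits AlgebraicGeometry Opposite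

/-- The complement of an open subset carries a closed subscheme structure. -/
theorem exists_closedImmersion_compl {X : Scheme.{u}} (U' : Set X) (hU : IsOpen U') :
    ∃ (Z : Scheme.{u}) (i : Z ⟶ X), IsClosedImmersion i ∧ Set.range i.base = U'ᶜ := by
  let I := Scheme.IdealSheafData.vanishingIdeal (X := X) ⟨U'ᶜ, hU.isClosed_compl⟩
  refine ⟨I.subscheme, I.subschemeι, inferInstance, ?_⟩
  have h1 : Set.range I.subschemeι.base = I.support := I.range_subschemeι
  rw [h1]
  exact Scheme.IdealSheafData.coe_support_vanishingIdeal _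

section closed

variable {Z X U : Scheme.{u}} (i : Z ⟶ X) [IsClosedImmersion i]
  (j : U ⟶ X) [IsOpenImmersion j] (hZU : Set.range j.base = (Set.range i.base)ᶜ)

/-- Restriction to `U` of the counit `j_! j^{-1} G ⟶ G` is an isomorphism. -/
theorem isIso_restr_counit (G : EtCoh.Ab X) :
    IsIso ((EtShriek.restrAlong j).map ((EtShriek.extZeroAdj j).counit.app G)) := by
  haveI : IsIso ((EtShriek.extZeroAdj j).unit.app ((EtShriek.restrAlong j).obj G)) :=
    (Groth.Agent.S0651.result j ((EtShriek.restrAlong j).obj G)).2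
  have ht := (EtShriek.extZeroAdj j).right_triangle_components G
  haveI : IsIso ((EtShriek.extZeroAdj j).unit.app ((EtShriek.restrAlong j).obj G) ≫
      (EtShriek.restrAlong j).map ((EtShriek.extZeroAdj j).counit.app G)) := by
    rw [ht]
    exact IsIso.id _
  exact IsIso.of_isIso_comp_left
    ((EtShriek.extZeroAdj j).unit.app ((EtShriek.restrAlong j).obj G)) _

include hZU in
/-- The counit `j_! j^{-1} G ⟶ G` is a monomorphism. -/
theorem mono_extZero_counit (G : EtCoh.Ab X) :
    Mono ((EtShriek.extZeroAdj j).counit.app G) := by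
  haveI hLi := Groth.Agent.H45.preservesFiniteLimits_pullAb i
  haveI : PreservesLimitsOfShape WalkingCospan (EtCoh.pull i) :=
    hLi.preservesFiniteLimits WalkingCospan
  haveI : (EtCoh.pull i).PreservesMonomorphisms :=
    preservesMonomorphisms_of_preservesLimitsOfShape (EtCoh.pull i)
  haveI := (EtShriek.extZeroAdj j).isRightAdjoint
  haveI : PreservesFiniteLimits (EtShriek.restrAlong j) := inferInstance
  haveI := isIso_restr_counit j G
  rw [Preadditive.mono_iff_isZero_kernel]
  apply isZero_of_pull_restr i j hZU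
  · exact IsZero.of_mono ((EtCoh.pull i).map (kernel.ι _)) (isZero_pull_extZero i j hZU _)
  · refine IsZero.of_iso ?_ (PreservesKernel.iso (EtShriek.restrAlong j) _)
    exact isZero_kernel_of_mono _

include hZU in
/-- If `i^{-1} G = 0` then the counit `j_! j^{-1} G ⟶ G` is an isomorphism. -/
theorem isIso_extZero_counit (G : EtCoh.Ab X) (hG : IsZero ((EtCoh.pull i).obj G)) :
    IsIso ((EtShriek.extZeroAdj j).counit.app G) := by
  haveI := mono_extZero_counit i j hZU G
  haveI : PreservesFiniteColimits (EtCoh.pull i) := inferInstance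
  haveI := (restrPushAdj j).isLeftAdjoint
  haveI : PreservesFiniteColimits (EtShriek.restrAlong j) := inferInstance
  haveI := isIso_restr_counit j G
  haveI : Epi ((EtShriek.extZeroAdj j).counit.app G) := by
    rw [Preadditive.epi_iff_isZero_cokernel]
    apply isZero_of_pull_restr i j hZU
    · exact IsZero.of_epi ((EtCoh.pull i).map (cokernel.π _)) hG
    · refine IsZero.of_iso ?_ (PreservesCokernel.iso (EtShriek.restrAlong j) _)
      exact isZero_cokernel_of_epi _
  exact isIso_of_mono_of_epi _

end closed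

end Groth.Agent.H4
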