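import Mathlib
import Groth.Prelude.Def_EtCore
import Groth.Agent.H4.SuppClosed2
import Groth.Agent.H4.ExtTools

/-!
# Mayer–Vietoris for étale cohomology: the short exact sequence `0 → j_{W!}ℤ → j_{U!}ℤ ⊕ j_{V!}ℤ → ℤ → 0`
and the identification of `Ext(j_!ℤ, F)` with the cohomology of the open subscheme (helper4 library).
-/

set_option autoImplicit false
open CategoryTheory CategoryTheory.Limits AlgebraicGeometry Opposite CategoryTheory.Abelian
universe u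

namespace Groth.Agent.H4.MV

open Groth.Agent.H4 Groth.Agent.H4.ExtTools

/-- The coefficient group `ℤ` (lifted). -/
abbrev ZZ : AddCommGrpCat.{u + 1} := AddCommGrpCat.of (ULift.{u + 1} ℤ)

theorem pullExact {X Y : Scheme.{u}} (f : X ⟶ Y) : PreservesFiniteLimits (EtCoh.pull f) :=
  Groth.Agent.H45.preservesFiniteLimits_pullAb f

attribute [local instance] pullExact

section SecPull

variable {X' Y Z : Scheme.{u}}

/-- Pullback of global sections along `f`. -/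
noncomputable def secPull (f : X' ⟶ Y) (G : EtCoh.Ab Y) :
    (EtCore.gsec Y).obj G ⟶ (EtCore.gsec X').obj ((EtCoh.pull f).obj G) :=
  (EtCore.gsec Y).map ((EtCoh.pullPushAdj f).unit.app G) ≫
    (EtCore.pushGsecIso f).hom.app ((EtCoh.pull f).obj G)

theorem homEquiv_pullConst_inv (f : X' ⟶ Y) :
    (EtCore.constAdj X').homEquiv ZZ _ (EtCore.pullConst f ℤ).inv =
      (EtCore.constAdj Y).unit.app ZZ ≫ secPull f (EtCoh.const Y ℤ) := by
  have h1 : (EtCore.pullConst f ℤ).inv =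
      (Adjunction.leftAdjointUniq (EtCore.constAdj X')
        (((EtCore.constAdj Y).comp (EtCoh.pullPushAdj f)).ofNatIsoRight
          (EtCore.pushGsecIso f))).hom.app ZZ :=
    Adjunction.leftAdjointUniq_inv_app _ _ _
  rw [h1]
  refine (Adjunction.homEquiv_leftAdjointUniq_hom_app (EtCore.constAdj X') _ ZZ).trans ?_
  simp [secPull, Adjunction.comp_unit_app]

theorem secPull_naturality (f : X' ⟶ Y) {G G' : EtCoh.Ab Y} (g : G ⟶ G') :
    (EtCore.gsec Y).map g ≫ secPull f G' =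
      secPull f G ≫ (EtCore.gsec X').map ((EtCoh.pull f).map g) := by
  unfold secPull
  have h1 := (EtCoh.pullPushAdj f).unit_naturality g
  have h2 := (EtCore.pushGsecIso f).hom.naturality ((EtCoh.pull f).map g)
  rw [← Category.assoc, ← Functor.map_comp, ← h1, Functor.map_comp, Category.assoc,
    Category.assoc, ← h2]
  rfl

theorem pGI_comp (f : X' ⟶ Y) (t : Y ⟶ Z) (H : EtCoh.Ab X') :
    (EtCore.pushGsecIso t).hom.app ((EtCoh.push f).obj H) ≫ (EtCore.pushGsecIso f).hom.app H =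
      (EtCore.gsec Z).map ((EtCoh.pushComp t f).hom.app H) ≫
        (EtCore.pushGsecIso (f ≫ t)).hom.app H := by
  have hT : IsTerminal ((EtCoh.bc f).obj ((EtCoh.bc t).obj (EtCoh.top Z))) :=
    IsTerminal.isTerminalObj (EtCoh.bc f) _ (EtCore.bcTopIsTerminal t)
  have e1 : (EtCore.pushGsecIso t).hom.app ((EtCoh.push f).obj H) =
      H.obj.map ((EtCoh.bc f).map (EtCore.bcTopIso t).inv).op := rfl
  have e2 : (EtCore.pushGsecIso f).hom.app H = H.obj.map (EtCore.bcTopIso f).inv.op := rfl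
  have e3 : (EtCore.pushGsecIso (f ≫ t)).hom.app H =
      H.obj.map (EtCore.bcTopIso (f ≫ t)).inv.op := rfl
  obtain ⟨m, e4⟩ : ∃ m : (EtCoh.bc (f ≫ t)).obj (EtCoh.top Z) ⟶
      (EtCoh.bc f).obj ((EtCoh.bc t).obj (EtCoh.top Z)),
      (EtCore.gsec Z).map ((EtCoh.pushComp t f).hom.app H) = H.obj.map m.op := by
    refine ⟨(MorphismProperty.Over.pullbackComp (P := EtCoh.etaleMP) (Q := ⊤) f t).hom.app
      (EtCoh.top Z), ?_⟩
    simp [EtCoh.pushComp]
  rw [e1, e2, e3, e4]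
  have key : ∀ (m₁ m₂ : EtCoh.top X' ⟶ (EtCoh.bc f).obj ((EtCoh.bc t).obj (EtCoh.top Z))),
      H.obj.map m₁.op = H.obj.map m₂.op := fun m₁ m₂ => by rw [hT.hom_ext m₁ m₂]
  exact (H.obj.map_comp _ _).symm.trans
    ((key ((EtCore.bcTopIso f).inv ≫ (EtCoh.bc f).map (EtCore.bcTopIso t).inv)
      ((EtCore.bcTopIso (f ≫ t)).inv ≫ m)).trans (H.obj.map_comp _ _))

theorem secPull_comp (f : X' ⟶ Y) (t : Y ⟶ Z) (G : EtCoh.Ab Z) :
    secPull t G ≫ secPull f ((EtCoh.pull t).obj G) ≫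
      (EtCore.gsec X').map ((EtCore.pullComp f t).inv.app G) = secPull (f ≫ t) G := by
  have hA := Adjunction.unit_leftAdjointUniq_hom_app (EtCoh.pullPushAdj (f ≫ t))
    (((EtCoh.pullPushAdj t).comp (EtCoh.pullPushAdj f)).ofNatIsoRight (EtCoh.pushComp t f)) G
  have hA' : (EtCoh.pullPushAdj (f ≫ t)).unit.app G =
      ((EtCoh.pullPushAdj t).unit.app G ≫
        (EtCoh.push t).map ((EtCoh.pullPushAdj f).unit.app ((EtCoh.pull t).obj G)) ≫
        (EtCoh.pushComp t f).hom.app ((EtCoh.pull f).obj ((EtCoh.pull t).obj G))) ≫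
        (EtCoh.push (f ≫ t)).map ((EtCore.pullComp f t).inv.app G) := by
    have h3 : (EtCoh.push (f ≫ t)).map ((EtCore.pullComp f t).hom.app G) ≫
        (EtCoh.push (f ≫ t)).map ((EtCore.pullComp f t).inv.app G) = 𝟙 _ := by
      rw [← Functor.map_comp, Iso.hom_inv_id_app]
      exact CategoryTheory.Functor.map_id _ _
    have h4 : (((EtCoh.pullPushAdj t).comp (EtCoh.pullPushAdj f)).ofNatIsoRight
        (EtCoh.pushComp t f)).unit.app G =
        (EtCoh.pullPushAdj t).unit.app G ≫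
        (EtCoh.push t).map ((EtCoh.pullPushAdj f).unit.app ((EtCoh.pull t).obj G)) ≫
        (EtCoh.pushComp t f).hom.app ((EtCoh.pull f).obj ((EtCoh.pull t).obj G)) := by
      simp [Adjunction.comp_unit_app]
    calc (EtCoh.pullPushAdj (f ≫ t)).unit.app G
        = (EtCoh.pullPushAdj (f ≫ t)).unit.app G ≫ 𝟙 _ := (Category.comp_id _).symm
      _ = (EtCoh.pullPushAdj (f ≫ t)).unit.app G ≫
            ((EtCoh.push (f ≫ t)).map ((EtCore.pullComp f t).hom.app G) ≫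
              (EtCoh.push (f ≫ t)).map ((EtCore.pullComp f t).inv.app G)) :=
          congrArg (fun z => (EtCoh.pullPushAdj (f ≫ t)).unit.app G ≫ z) h3.symm
      _ = ((EtCoh.pullPushAdj (f ≫ t)).unit.app G ≫
            (EtCoh.push (f ≫ t)).map ((EtCore.pullComp f t).hom.app G)) ≫
              (EtCoh.push (f ≫ t)).map ((EtCore.pullComp f t).inv.app G) :=
          (Category.assoc _ _ _).symm
      _ = _ := congrArg (fun z => z ≫ (EtCoh.push (f ≫ t)).map ((EtCore.pullComp f t).inv.app G))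
          (hA.trans h4)
  have n1 := (EtCore.pushGsecIso (f ≫ t)).hom.naturality ((EtCore.pullComp f t).inv.app G)
  have n2 := (EtCore.pushGsecIso t).hom.naturality
    ((EtCoh.pullPushAdj f).unit.app ((EtCoh.pull t).obj G))
  have n3 := pGI_comp f t ((EtCoh.pull f).obj ((EtCoh.pull t).obj G))
  simp only [Functor.comp_map, Functor.comp_obj, Functor.id_obj] at n1 n2
  unfold secPull
  rw [hA']
  simp only [Functor.map_comp, Category.assoc, Functor.comp_obj]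
  congr 1
  rw [n1, reassoc_of% n3.symm, reassoc_of% n2]

theorem secPull_via (f : X' ⟶ Y) (t : Y ⟶ Z) (f₀ : X' ⟶ Z) (w : f ≫ t = f₀) (G : EtCoh.Ab Z) :
    secPull t G ≫ secPull f ((EtCoh.pull t).obj G) ≫
      (EtCore.gsec X').map ((((EtCore.pullComp f t).symm ≪≫ EtCore.pullCongr w).app G).hom) =
      secPull f₀ G := by
  subst w
  have h : (((EtCore.pullComp f t).symm ≪≫ EtCore.pullCongr rfl).app G).hom =
      (EtCore.pullComp f t).inv.app G := by
    simp [EtCore.pullCongr]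
  rw [h]
  exact secPull_comp f t G

end SecPull

section SecEtale

variable {T X : Scheme.{u}} (j : T ⟶ X) [Etale j]

theorem secPull_etale (G : EtCoh.Ab X)
    (k : (EtShriek.compEtale j).obj (EtCoh.top T) ⟶ EtCoh.top X) :
    secPull j G ≫ (EtCore.gsec T).map ((pullIsoRestr j).hom.app G) = G.obj.map k.op := by
  have h1 := Adjunction.unit_leftAdjointUniq_hom_app (EtCoh.pullPushAdj j) (restrPushAdj j) G
  have n1 := (EtCore.pushGsecIso j).hom.naturality ((pullIsoRestr j).hom.app G)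
  have h2 : (EtCore.gsec X).map ((EtCoh.pullPushAdj j).unit.app G) ≫
      (EtCoh.push j ⋙ EtCore.gsec X).map ((pullIsoRestr j).hom.app G) =
      (EtCore.gsec X).map ((restrPushAdj j).unit.app G) := by
    rw [← h1, Functor.map_comp]
    rfl
  have e1 : (EtCore.gsec X).map ((restrPushAdj j).unit.app G) =
      G.obj.map ((compBcAdj j).counit.app (EtCoh.top X)).op := by
    simp [restrPushAdj]
  have e2 : (EtCore.pushGsecIso j).hom.app ((EtShriek.restrAlong j).obj G) =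
      G.obj.map ((EtShriek.compEtale j).map (EtCore.bcTopIso j).inv).op := rfl
  unfold secPull
  rw [Category.assoc, ← n1, ← Category.assoc, h2, e1, e2]
  have key : ∀ (m₁ m₂ : (EtShriek.compEtale j).obj (EtCoh.top T) ⟶ EtCoh.top X),
      G.obj.map m₁.op = G.obj.map m₂.op := fun m₁ m₂ => by
    rw [(EtCore.topIsTerminal X).hom_ext m₁ m₂]
  exact (G.obj.map_comp _ _).symm.trans
    (key ((EtShriek.compEtale j).map (EtCore.bcTopIso j).inv ≫
      (compBcAdj j).counit.app (EtCoh.top X)) k)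

end SecEtale

section Defs

variable {T X : Scheme.{u}} (j : T ⟶ X) [IsOpenImmersion j]

/-- The adjunction `j_! ⊣ j^{-1}` for the inverse image functor `EtCoh.pull j`. -/
noncomputable def adjP : EtShriek.extZero j ⊣ EtCoh.pull j :=
  (EtShriek.extZeroAdj j).ofNatIsoRight (pullIsoRestr j).symm

/-- `j_! ℤ`. -/
noncomputable abbrev PP : EtCoh.Ab X := (EtShriek.extZero j).obj (EtCoh.const T ℤ)

/-- The unit `ℤ_T ⟶ j^{-1} j_! ℤ_T`. -/
noncomputable abbrev uP : EtCoh.const T ℤ ⟶ (EtCoh.pull j).obj (PP j) :=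
  (adjP j).unit.app (EtCoh.const T ℤ)

/-- The canonical map `j_! ℤ ⟶ ℤ`. -/
noncomputable def eps : PP j ⟶ EtCoh.const X ℤ :=
  ((adjP j).homEquiv _ _).symm (EtCore.pullConst j ℤ).inv

theorem uP_eps : uP j ≫ (EtCoh.pull j).map (eps j) = (EtCore.pullConst j ℤ).inv := by
  have h := (adjP j).homEquiv_unit (f := eps j)
  rw [← h, eps, Equiv.apply_symm_apply]

/-- `Ext^n(j_!ℤ, F) → H^n(T, j^{-1}F)`. -/
noncomputable def rhoP (F : EtCoh.Ab X) (n : ℕ) :
    Ext.{u + 1} (PP j) F n →+ EtCoh.H T ((EtCoh.pull j).obj F) n :=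
  rho (EtCoh.pull j) (uP j) F n

theorem rhoP_apply (F : EtCoh.Ab X) (n : ℕ) (x : Ext.{u + 1} (PP j) F n) :
    rhoP j F n x = (Ext.mk₀ (uP j)).comp (x.mapExactFunctor (EtCoh.pull j)) (zero_add n) := rfl

theorem rhoP_bijective (F : EtCoh.Ab X) (n : ℕ) : Function.Bijective (rhoP j F n) :=
  rho_bijective (EtCoh.pull j) (uP j)
    (fun I hI => by
      haveI := hI
      exact injective_pull_of_etale j I)
    (fun F => by
      have h : (fun f : PP j ⟶ F => uP j ≫ (EtCoh.pull j).map f) = ⇑((adjP j).homEquiv _ F) := by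
        funext f
        exact ((adjP j).homEquiv_unit _ _ f).symm
      rw [h]
      exact Equiv.bijective _) n F

theorem rhoP_eps (F : EtCoh.Ab X) (n : ℕ) (e : EtCoh.H X F n) :
    rhoP j F n ((Ext.mk₀ (eps j)).comp e (zero_add n)) = EtCore.Hpull j F n e := by
  simp only [EtCore.Hpull, AddMonoidHom.coe_comp, AddMonoidHom.mk'_apply, Function.comp_apply,
    Functor.mapExtAddHom_apply]
  rw [rhoP_apply, Ext.mapExactFunctor_comp, Ext.mapExactFunctor_mk₀, Ext.mk₀_comp_mk₀_assoc,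
    uP_eps]

theorem eps_eq : eps j = (EtShriek.extZero j).map
    ((EtCore.pullConst j ℤ).inv ≫ (pullIsoRestr j).hom.app _) ≫
      (EtShriek.extZeroAdj j).counit.app (EtCoh.const X ℤ) := by
  rw [eps, adjP, Adjunction.homEquiv_ofNatIsoRight_symm_apply, Adjunction.homEquiv_counit]
  rfl

theorem mono_eps : Mono (eps j) := by
  obtain ⟨Z, i, hi, hr⟩ := exists_closedImmersion_compl (Set.range j.base)
    j.isOpenEmbedding.isOpen_range
  haveI := hi
  have hZU : Set.range j.base = (Set.range i.base)ᶜ := by rw [hr, compl_compl]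
  haveI := mono_extZero_counit i j hZU (EtCoh.const X ℤ)
  rw [eps_eq]
  infer_instance

/-- The universal section of `j_! ℤ` over `T`. -/
noncomputable def sigmaP :
    ZZ.{u} ⟶ (PP j).obj.obj (op ((EtShriek.compEtale j).obj (EtCoh.top T))) :=
  (EtCore.constAdj T).homEquiv ZZ ((EtShriek.restrAlong j).obj (PP j))
    ((EtShriek.extZeroAdj j).unit.app (EtCoh.const T ℤ))

theorem sigmaP_comp {G : EtCoh.Ab X} (h : PP j ⟶ G) :
    sigmaP j ≫ h.hom.app (op ((EtShriek.compEtale j).obj (EtCoh.top T))) =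
      (EtCore.constAdj T).homEquiv ZZ ((EtShriek.restrAlong j).obj G)
        ((EtShriek.extZeroAdj j).homEquiv _ _ h) := by
  rw [Adjunction.homEquiv_unit (adj := EtShriek.extZeroAdj j),
    Adjunction.homEquiv_naturality_right]
  rfl

end Defs

section Rep

variable {X : Scheme.{u}}

/-- `P` represents the functor of sections over `Y`, with universal section `σ`. -/
def IsRep (P : EtCoh.Ab X) (Y : X.Etale) (σ : ZZ.{u} ⟶ P.obj.obj (op Y)) : Prop :=
  ∀ G : EtCoh.Ab X, Function.Bijective (fun h : P ⟶ G => σ ≫ h.hom.app (op Y))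

theorem isRep_const (X : Scheme.{u}) :
    IsRep (EtCoh.const X ℤ) (EtCoh.top X) ((EtCore.constAdj X).unit.app ZZ) := by
  intro G
  have h : (fun h : EtCoh.const X ℤ ⟶ G =>
      (EtCore.constAdj X).unit.app ZZ ≫ h.hom.app (op (EtCoh.top X))) =
      ⇑((EtCore.constAdj X).homEquiv ZZ G) := by
    funext h
    exact ((EtCore.constAdj X).homEquiv_unit _ _ h).symm
  rw [h]
  exact Equiv.bijective _

theorem isRep_P {T : Scheme.{u}} (j : T ⟶ X) [IsOpenImmersion j] :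
    IsRep (PP j) ((EtShriek.compEtale j).obj (EtCoh.top T)) (sigmaP j) := by
  intro G
  have h : (fun h : PP j ⟶ G =>
      sigmaP j ≫ h.hom.app (op ((EtShriek.compEtale j).obj (EtCoh.top T)))) =
      ⇑(((EtShriek.extZeroAdj j).homEquiv _ G).trans
        ((EtCore.constAdj T).homEquiv ZZ ((EtShriek.restrAlong j).obj G))) := by
    funext h
    exact sigmaP_comp j h
  rw [h]
  exact Equiv.bijective _

theorem sigmaP_eps {T : Scheme.{u}} (j : T ⟶ X) [IsOpenImmersion j]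
    (k : (EtShriek.compEtale j).obj (EtCoh.top T) ⟶ EtCoh.top X) :
    sigmaP j ≫ (eps j).hom.app (op ((EtShriek.compEtale j).obj (EtCoh.top T))) =
      (EtCore.constAdj X).unit.app ZZ ≫ (EtCoh.const X ℤ).obj.map k.op := by
  have h1 : (EtShriek.extZeroAdj j).homEquiv _ _ (eps j) =
      (EtCore.pullConst j ℤ).inv ≫ (pullIsoRestr j).hom.app _ := by
    rw [eps, adjP, Adjunction.homEquiv_ofNatIsoRight_symm_apply, Equiv.apply_symm_apply]
    rfl
  rw [sigmaP_comp, h1, Adjunction.homEquiv_naturality_right, homEquiv_pullConst_inv,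
    Category.assoc, secPull_etale j (EtCoh.const X ℤ) k]
  rfl

end Rep

section Via

variable {W T X : Scheme.{u}} (a : W ⟶ T) (j : T ⟶ X) (jW : W ⟶ X) (w : a ≫ j = jW)
  [IsOpenImmersion a] [IsOpenImmersion j] [IsOpenImmersion jW]

/-- The composition isomorphism `a^{-1} j^{-1} ≅ jW^{-1}` used in `EtCore.HpullVia`. -/
noncomputable def thetaIso : EtCoh.pull j ⋙ EtCoh.pull a ≅ EtCoh.pull jW :=
  (EtCore.pullComp a j).symm ≪≫ EtCore.pullCongr w

/-- The map `jW_! ℤ ⟶ j_! ℤ` adjoint to the transported unit. -/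
noncomputable def iotaAbs : PP jW ⟶ PP j :=
  ((adjP jW).homEquiv _ _).symm
    ((EtCore.pullConst a ℤ).inv ≫ (EtCoh.pull a).map (uP j) ≫ (thetaIso a j jW w).hom.app (PP j))

theorem uP_iotaAbs : uP jW ≫ (EtCoh.pull jW).map (iotaAbs a j jW w) =
    (EtCore.pullConst a ℤ).inv ≫ (EtCoh.pull a).map (uP j) ≫
      (thetaIso a j jW w).hom.app (PP j) := by
  have h := (adjP jW).homEquiv_unit _ _ (iotaAbs a j jW w)
  rw [← h, iotaAbs, Equiv.apply_symm_apply]

theorem rhoP_iotaAbs (F : EtCoh.Ab X) (n : ℕ) (x : Ext.{u + 1} (PP j) F n) :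
    EtCore.HpullVia a j jW w F n (rhoP j F n x) =
      rhoP jW F n ((Ext.mk₀ (iotaAbs a j jW w)).comp x (zero_add n)) := by
  have hN := mapExt_comp_nat (EtCoh.pull j) (EtCoh.pull a) (EtCoh.pull jW)
    (thetaIso a j jW w).hom n x
  show ((Ext.mk₀ (EtCore.pullConst a ℤ).inv).comp
      ((rhoP j F n x).mapExactFunctor (EtCoh.pull a)) (zero_add n)).comp
      (Ext.mk₀ ((thetaIso a j jW w).hom.app F)) (add_zero n) = _
  simp only [rhoP_apply, Ext.mapExactFunctor_comp, Ext.mapExactFunctor_mk₀]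
  rw [Ext.mk₀_comp_mk₀_assoc, Ext.mk₀_comp_mk₀_assoc, uP_iotaAbs,
    Ext.comp_assoc_of_third_deg_zero, hN, Ext.mk₀_comp_mk₀_assoc, Category.assoc]

theorem star : (EtCore.pullConst a ℤ).inv ≫ (EtCoh.pull a).map (EtCore.pullConst j ℤ).inv ≫
    (thetaIso a j jW w).hom.app (EtCoh.const X ℤ) = (EtCore.pullConst jW ℤ).inv := by
  apply ((EtCore.constAdj W).homEquiv ZZ _).injective
  have hu := (EtCore.constAdj T).homEquiv_unit _ _ (EtCore.pullConst j ℤ).inv
  calc (EtCore.constAdj W).homEquiv ZZ _ ((EtCore.pullConst a ℤ).inv ≫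
          (EtCoh.pull a).map (EtCore.pullConst j ℤ).inv ≫
          (thetaIso a j jW w).hom.app (EtCoh.const X ℤ))
      = (EtCore.constAdj W).homEquiv ZZ _ (EtCore.pullConst a ℤ).inv ≫
          (EtCore.gsec W).map ((EtCoh.pull a).map (EtCore.pullConst j ℤ).inv ≫
            (thetaIso a j jW w).hom.app (EtCoh.const X ℤ)) :=
        Adjunction.homEquiv_naturality_right _ _ _
    _ = ((EtCore.constAdj T).unit.app ZZ ≫ secPull a (EtCoh.const T ℤ)) ≫
          (EtCore.gsec W).map ((EtCoh.pull a).map (EtCore.pullConst j ℤ).inv) ≫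
          (EtCore.gsec W).map ((thetaIso a j jW w).hom.app (EtCoh.const X ℤ)) := by
        rw [homEquiv_pullConst_inv, Functor.map_comp]
    _ = (EtCore.constAdj T).unit.app ZZ ≫ ((EtCore.gsec T).map (EtCore.pullConst j ℤ).inv ≫
          secPull a ((EtCoh.pull j).obj (EtCoh.const X ℤ))) ≫
          (EtCore.gsec W).map ((thetaIso a j jW w).hom.app (EtCoh.const X ℤ)) := by
        rw [secPull_naturality]
        simp only [Category.assoc]
    _ = ((EtCore.constAdj T).unit.app ZZ ≫ (EtCore.gsec T).map (EtCore.pullConst j ℤ).inv) ≫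
          secPull a ((EtCoh.pull j).obj (EtCoh.const X ℤ)) ≫
          (EtCore.gsec W).map ((thetaIso a j jW w).hom.app (EtCoh.const X ℤ)) := by
        simp only [Category.assoc]
    _ = ((EtCore.constAdj X).unit.app ZZ ≫ secPull j (EtCoh.const X ℤ)) ≫
          secPull a ((EtCoh.pull j).obj (EtCoh.const X ℤ)) ≫
          (EtCore.gsec W).map ((thetaIso a j jW w).hom.app (EtCoh.const X ℤ)) := by
        rw [← hu, homEquiv_pullConst_inv]
    _ = (EtCore.constAdj X).unit.app ZZ ≫ secPull jW (EtCoh.const X ℤ) := by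
        rw [Category.assoc]
        congr 1
        exact secPull_via a j jW w (EtCoh.const X ℤ)
    _ = _ := (homEquiv_pullConst_inv jW).symm

theorem iotaAbs_eps : iotaAbs a j jW w ≫ eps j = eps jW := by
  apply ((adjP jW).homEquiv _ _).injective
  rw [Adjunction.homEquiv_unit, Adjunction.homEquiv_unit]
  have hn := (thetaIso a j jW w).hom.naturality (eps j)
  simp only [Functor.comp_map] at hn
  calc uP jW ≫ (EtCoh.pull jW).map (iotaAbs a j jW w ≫ eps j)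
      = (uP jW ≫ (EtCoh.pull jW).map (iotaAbs a j jW w)) ≫ (EtCoh.pull jW).map (eps j) := by
        rw [Functor.map_comp, Category.assoc]
    _ = (EtCore.pullConst a ℤ).inv ≫ (EtCoh.pull a).map (uP j) ≫
          ((EtCoh.pull a).map ((EtCoh.pull j).map (eps j)) ≫
            (thetaIso a j jW w).hom.app (EtCoh.const X ℤ)) := by
        rw [uP_iotaAbs, hn]
        simp only [Category.assoc]
    _ = (EtCore.pullConst a ℤ).inv ≫ (EtCoh.pull a).map (uP j ≫ (EtCoh.pull j).map (eps j)) ≫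
          (thetaIso a j jW w).hom.app (EtCoh.const X ℤ) := by
        rw [Functor.map_comp]
        simp only [Category.assoc]
    _ = (EtCore.pullConst jW ℤ).inv := by
        rw [uP_eps]
        exact star a j jW w
    _ = uP jW ≫ (EtCoh.pull jW).map (eps jW) := (uP_eps jW).symm

end Via

section AbstractRep

variable {X : Scheme.{u}}

theorem rightExact_of_rep
    {Y₀ Y₁ Y₂ Y₃ : X.Etale} (q₁ : Y₁ ⟶ Y₀) (q₂ : Y₂ ⟶ Y₀) (q₃₁ : Y₃ ⟶ Y₁) (q₃₂ : Y₃ ⟶ Y₂)
    (hq : q₃₁ ≫ q₁ = q₃₂ ≫ q₂)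
    {P₀ P₁ P₂ P₃ : EtCoh.Ab X}
    (σ₀ : ZZ.{u} ⟶ P₀.obj.obj (op Y₀)) (σ₁ : ZZ.{u} ⟶ P₁.obj.obj (op Y₁))
    (σ₂ : ZZ.{u} ⟶ P₂.obj.obj (op Y₂)) (σ₃ : ZZ.{u} ⟶ P₃.obj.obj (op Y₃))
    (r₀ : IsRep P₀ Y₀ σ₀) (r₁ : IsRep P₁ Y₁ σ₁) (r₂ : IsRep P₂ Y₂ σ₂) (r₃ : IsRep P₃ Y₃ σ₃)
    (ε₁ : P₁ ⟶ P₀) (ε₂ : P₂ ⟶ P₀) (ι₁ : P₃ ⟶ P₁) (ι₂ : P₃ ⟶ P₂)
    (hε₁ : σ₁ ≫ ε₁.hom.app (op Y₁) = σ₀ ≫ P₀.obj.map q₁.op)
    (hε₂ : σ₂ ≫ ε₂.hom.app (op Y₂) = σ₀ ≫ P₀.obj.map q₂.op)
    (hι₁ : σ₃ ≫ ι₁.hom.app (op Y₃) = σ₁ ≫ P₁.obj.map q₃₁.op)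
    (hι₂ : σ₃ ≫ ι₂.hom.app (op Y₃) = σ₂ ≫ P₂.obj.map q₃₂.op)
    (hinj : ∀ (G : EtCoh.Ab X) (t t' : ZZ.{u} ⟶ G.obj.obj (op Y₀)),
      t ≫ G.obj.map q₁.op = t' ≫ G.obj.map q₁.op → t ≫ G.obj.map q₂.op = t' ≫ G.obj.map q₂.op →
      t = t')
    (hglue : ∀ (G : EtCoh.Ab X) (t₁ : ZZ.{u} ⟶ G.obj.obj (op Y₁)) (t₂ : ZZ.{u} ⟶ G.obj.obj (op Y₂)),
      t₁ ≫ G.obj.map q₃₁.op = t₂ ≫ G.obj.map q₃₂.op →
      ∃ t : ZZ.{u} ⟶ G.obj.obj (op Y₀), t ≫ G.obj.map q₁.op = t₁ ∧ t ≫ G.obj.map q₂.op = t₂) :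
    ∃ (hz : biprod.lift ι₁ (-ι₂) ≫ biprod.desc ε₁ ε₂ = 0),
      (ShortComplex.mk _ _ hz).Exact ∧ Epi (biprod.desc ε₁ ε₂) := by
  -- naturality of evaluation at the universal sections
  have n₁ : ∀ {G : EtCoh.Ab X} (h : P₀ ⟶ G), σ₁ ≫ (ε₁ ≫ h).hom.app (op Y₁) =
      (σ₀ ≫ h.hom.app (op Y₀)) ≫ G.obj.map q₁.op := by
    intro G h
    have hn := h.hom.naturality q₁.op
    rw [ObjectProperty.FullSubcategory.comp_hom, NatTrans.comp_app, ← Category.assoc, hε₁,
      Category.assoc, hn, Category.assoc]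
  have n₂ : ∀ {G : EtCoh.Ab X} (h : P₀ ⟶ G), σ₂ ≫ (ε₂ ≫ h).hom.app (op Y₂) =
      (σ₀ ≫ h.hom.app (op Y₀)) ≫ G.obj.map q₂.op := by
    intro G h
    have hn := h.hom.naturality q₂.op
    rw [ObjectProperty.FullSubcategory.comp_hom, NatTrans.comp_app, ← Category.assoc, hε₂,
      Category.assoc, hn, Category.assoc]
  have m₁ : ∀ {G : EtCoh.Ab X} (h : P₁ ⟶ G), σ₃ ≫ (ι₁ ≫ h).hom.app (op Y₃) =
      (σ₁ ≫ h.hom.app (op Y₁)) ≫ G.obj.map q₃₁.op := by
    intro G h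
    have hn := h.hom.naturality q₃₁.op
    rw [ObjectProperty.FullSubcategory.comp_hom, NatTrans.comp_app, ← Category.assoc, hι₁,
      Category.assoc, hn, Category.assoc]
  have m₂ : ∀ {G : EtCoh.Ab X} (h : P₂ ⟶ G), σ₃ ≫ (ι₂ ≫ h).hom.app (op Y₃) =
      (σ₂ ≫ h.hom.app (op Y₂)) ≫ G.obj.map q₃₂.op := by
    intro G h
    have hn := h.hom.naturality q₃₂.op
    rw [ObjectProperty.FullSubcategory.comp_hom, NatTrans.comp_app, ← Category.assoc, hι₂,
      Category.assoc, hn, Category.assoc]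
  have hcomm : ι₁ ≫ ε₁ = ι₂ ≫ ε₂ := by
    apply (r₃ P₀).1
    show σ₃ ≫ (ι₁ ≫ ε₁).hom.app (op Y₃) = σ₃ ≫ (ι₂ ≫ ε₂).hom.app (op Y₃)
    rw [m₁, m₂, hε₁, hε₂, Category.assoc, Category.assoc, ← Functor.map_comp, ← Functor.map_comp,
      ← op_comp, ← op_comp, hq]
  have hz : biprod.lift ι₁ (-ι₂) ≫ biprod.desc ε₁ ε₂ = 0 := by
    rw [biprod.lift_desc, Preadditive.neg_comp, hcomm, add_neg_cancel]
  refine ⟨hz, ?_⟩
  have key : ∀ {G : EtCoh.Ab X} (h : P₁ ⊞ P₂ ⟶ G), biprod.lift ι₁ (-ι₂) ≫ h = 0 →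
      ∃ φ : P₀ ⟶ G, biprod.desc ε₁ ε₂ ≫ φ = h ∧
        ∀ φ' : P₀ ⟶ G, biprod.desc ε₁ ε₂ ≫ φ' = h → φ' = φ := by
    intro G h hh
    have hh' : ι₁ ≫ (biprod.inl ≫ h) = ι₂ ≫ (biprod.inr ≫ h) := by
      have e : biprod.lift ι₁ (-ι₂) ≫ h = ι₁ ≫ (biprod.inl ≫ h) - ι₂ ≫ (biprod.inr ≫ h) := by
        have e0 : h = biprod.desc (biprod.inl ≫ h) (biprod.inr ≫ h) := by
          apply biprod.hom_ext' <;> simp
        conv_lhs => rw [e0]
        rw [biprod.lift_desc, Preadditive.neg_comp, sub_eq_add_neg]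
      rw [e] at hh
      exact sub_eq_zero.mp hh
    have hcompat : (σ₁ ≫ (biprod.inl ≫ h).hom.app (op Y₁)) ≫ G.obj.map q₃₁.op =
        (σ₂ ≫ (biprod.inr ≫ h).hom.app (op Y₂)) ≫ G.obj.map q₃₂.op := by
      rw [← m₁, ← m₂, hh']
    obtain ⟨t, ht₁, ht₂⟩ := hglue G _ _ hcompat
    obtain ⟨φ, hφ⟩ := (r₀ G).2 t
    have hφ' : σ₀ ≫ φ.hom.app (op Y₀) = t := hφ
    refine ⟨φ, ?_, ?_⟩
    · apply biprod.hom_ext'
      · rw [biprod.inl_desc_assoc]
        apply (r₁ G).1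
        show σ₁ ≫ (ε₁ ≫ φ).hom.app (op Y₁) = σ₁ ≫ (biprod.inl ≫ h).hom.app (op Y₁)
        rw [n₁, hφ', ht₁]
      · rw [biprod.inr_desc_assoc]
        apply (r₂ G).1
        show σ₂ ≫ (ε₂ ≫ φ).hom.app (op Y₂) = σ₂ ≫ (biprod.inr ≫ h).hom.app (op Y₂)
        rw [n₂, hφ', ht₂]
    · intro φ' hφ''
      apply (r₀ G).1
      show σ₀ ≫ φ'.hom.app (op Y₀) = σ₀ ≫ φ.hom.app (op Y₀)
      have h1 : ε₁ ≫ φ' = biprod.inl ≫ h := by rw [← hφ'', biprod.inl_desc_assoc]
      have h2 : ε₂ ≫ φ' = biprod.inr ≫ h := by rw [← hφ'', biprod.inr_desc_assoc]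
      apply hinj G
      · rw [← n₁, h1, hφ', ht₁]
      · rw [← n₂, h2, hφ', ht₂]
  have hcolim : IsColimit (CokernelCofork.ofπ (biprod.desc ε₁ ε₂) hz) :=
    CokernelCofork.IsColimit.ofπ _ _
      (fun {G} h hh => (key h hh).choose)
      (fun {G} h hh => (key h hh).choose_spec.1)
      (fun {G} h hh m hm => (key h hh).choose_spec.2 m hm)
  exact ((ShortComplex.mk _ _ hz).exact_and_epi_g_iff_g_is_cokernel).2 ⟨hcolim⟩

end AbstractRep

section Final

variable (X : Scheme.{u})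

/-- The open subscheme `T` as an object of the small étale site of `X`. -/
noncomputable abbrev tildeOf (T : X.Opens) : X.Etale :=
  (EtShriek.compEtale T.ι).obj (EtCoh.top T)

theorem tilde_hom (T : X.Opens) : (tildeOf X T).hom = T.ι := Category.id_comp _

noncomputable def qTop (T : X.Opens) : tildeOf X T ⟶ EtCoh.top X :=
  MorphismProperty.Over.homMk T.ι ((Category.comp_id _).trans (tilde_hom X T).symm) trivial

noncomputable def qLE {T T' : X.Opens} (h : T ≤ T') : tildeOf X T ⟶ tildeOf X T' :=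
  MorphismProperty.Over.homMk (X.homOfLE h)
    ((congrArg (fun z => X.homOfLE h ≫ z) (tilde_hom X T')).trans
      ((X.homOfLE_ι h).trans (tilde_hom X T).symm)) trivial

variable {X}

theorem w_tilde {T : X.Opens} {Y : X.Etale} (φ : Y ⟶ tildeOf X T) : φ.left ≫ T.ι = Y.hom :=
  (congrArg (fun z => φ.left ≫ z) (tilde_hom X T).symm).trans (MorphismProperty.Over.w φ)

theorem hom_ext_tilde {T : X.Opens} {Y : X.Etale} (φ ψ : Y ⟶ tildeOf X T) : φ = ψ := by
  apply MorphismProperty.Over.Hom.ext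
  exact (cancel_mono T.ι).1 ((w_tilde φ).trans (w_tilde ψ).symm)

variable (U V : X.Opens)

/-- The two opens as a family indexed by `Bool`. -/
def pick (b : Bool) : X.Opens := if b then U else V

theorem cover_mem (hUV : U ⊔ V = ⊤) :
    Sieve.ofArrows (fun b : Bool => tildeOf X (pick U V b)) (fun b => qTop X (pick U V b)) ∈
      X.smallEtaleTopology (EtCoh.top X) := by
  apply mem_smallEtaleTopology_of_forall
  intro x
  have hx : (x : X) ∈ (U ⊔ V : X.Opens) := by rw [hUV]; trivial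
  rcases hx with hx | hx
  · exact ⟨tildeOf X U, qTop X U, ⟨x, hx⟩,
      Sieve.ofArrows_mk (fun b : Bool => tildeOf X (pick U V b)) (fun b => qTop X (pick U V b)) true,
      rfl⟩
  · exact ⟨tildeOf X V, qTop X V, ⟨x, hx⟩,
      Sieve.ofArrows_mk (fun b : Bool => tildeOf X (pick U V b)) (fun b => qTop X (pick U V b)) false,
      rfl⟩

theorem glue_exists (hUV : U ⊔ V = ⊤) (G : EtCoh.Ab X) {E : AddCommGrpCat.{u + 1}}
    (t₁ : E ⟶ G.obj.obj (op (tildeOf X U))) (t₂ : E ⟶ G.obj.obj (op (tildeOf X V)))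
    (h : t₁ ≫ G.obj.map (qLE X (inf_le_left : U ⊓ V ≤ U)).op =
      t₂ ≫ G.obj.map (qLE X (inf_le_right : U ⊓ V ≤ V)).op) :
    ∃ t : E ⟶ G.obj.obj (op (EtCoh.top X)),
      t ≫ G.obj.map (qTop X U).op = t₁ ∧ t ≫ G.obj.map (qTop X V).op = t₂ := by
  let x : ∀ b : Bool, E ⟶ G.obj.obj (op (tildeOf X (pick U V b))) := fun b =>
    match b with
    | true => t₁
    | false => t₂
  have hmix : ∀ {W' : X.Etale} (a' : W' ⟶ tildeOf X U) (b' : W' ⟶ tildeOf X V),
      t₁ ≫ G.obj.map a'.op = t₂ ≫ G.obj.map b'.op := by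
    intro W' a' b'
    have hw : a'.left ≫ U.ι = b'.left ≫ V.ι := (w_tilde a').trans (w_tilde b').symm
    let r₀ : W'.left ⟶ ((U ⊓ V : X.Opens) : Scheme.{u}) :=
      (isPullback_opens_inf U V).lift a'.left b'.left hw
    have hr₀ : r₀ ≫ (U ⊓ V).ι = W'.hom := by
      have h1 : r₀ ≫ X.homOfLE (inf_le_left : U ⊓ V ≤ U) = a'.left :=
        (isPullback_opens_inf U V).lift_fst _ _ _
      rw [← X.homOfLE_ι (inf_le_left : U ⊓ V ≤ U), ← Category.assoc, h1]
      exact w_tilde a'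
    let r : W' ⟶ tildeOf X (U ⊓ V) := MorphismProperty.Over.homMk r₀
      ((congrArg (fun z => r₀ ≫ z) (tilde_hom X (U ⊓ V))).trans hr₀) trivial
    have e1 : a' = r ≫ qLE X (inf_le_left : U ⊓ V ≤ U) := hom_ext_tilde _ _
    have e2 : b' = r ≫ qLE X (inf_le_right : U ⊓ V ≤ V) := hom_ext_tilde _ _
    rw [e1, e2, op_comp, op_comp, Functor.map_comp, Functor.map_comp, ← Category.assoc,
      ← Category.assoc, h]
  have hx : ∀ ⦃W' : X.Etale⦄ ⦃i j : Bool⦄ (a' : W' ⟶ tildeOf X (pick U V i))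
      (b' : W' ⟶ tildeOf X (pick U V j)),
      a' ≫ qTop X (pick U V i) = b' ≫ qTop X (pick U V j) →
      x i ≫ G.obj.map a'.op = x j ≫ G.obj.map b'.op := by
    intro W' i j a' b' _
    cases i <;> cases j
    · rw [hom_ext_tilde a' b']
    · exact (hmix b' a').symm
    · exact hmix a' b'
    · rw [hom_ext_tilde a' b']
  obtain ⟨t, ht, -⟩ := Presheaf.IsSheaf.existsUnique_amalgamation_ofArrows G.property
    (fun b => qTop X (pick U V b)) (cover_mem U V hUV) x hx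
  exact ⟨t, ht true, ht false⟩

theorem glue_unique (hUV : U ⊔ V = ⊤) (G : EtCoh.Ab X) {E : AddCommGrpCat.{u + 1}}
    (t t' : E ⟶ G.obj.obj (op (EtCoh.top X)))
    (h₁ : t ≫ G.obj.map (qTop X U).op = t' ≫ G.obj.map (qTop X U).op)
    (h₂ : t ≫ G.obj.map (qTop X V).op = t' ≫ G.obj.map (qTop X V).op) : t = t' := by
  apply Presheaf.IsSheaf.hom_ext_ofArrows G.property (fun b => qTop X (pick U V b))
    (cover_mem U V hUV)
  intro b
  cases b
  · exact h₂
  · exact h₁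

end Final

section Main

variable {X : Scheme.{u}}

/-- Any map `j_{T'!}ℤ ⟶ j_{T!}ℤ` over `ℤ_X` restricts the universal section. -/
theorem sigmaP_of_comp_eps {T' T : X.Opens} (h : T' ≤ T) (ι : PP T'.ι ⟶ PP T.ι)
    (hι : ι ≫ eps T.ι = eps T'.ι) :
    sigmaP T'.ι ≫ ι.hom.app (op (tildeOf X T')) =
      sigmaP T.ι ≫ (PP T.ι).obj.map (qLE X h).op := by
  obtain ⟨ι', hι'⟩ := (isRep_P T'.ι (PP T.ι)).2 (sigmaP T.ι ≫ (PP T.ι).obj.map (qLE X h).op)
  have hι'' : sigmaP T'.ι ≫ ι'.hom.app (op (tildeOf X T')) =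
      sigmaP T.ι ≫ (PP T.ι).obj.map (qLE X h).op := hι'
  have hcomp : ι' ≫ eps T.ι = eps T'.ι := by
    apply (isRep_P T'.ι (EtCoh.const X ℤ)).1
    show sigmaP T'.ι ≫ (ι' ≫ eps T.ι).hom.app (op (tildeOf X T')) =
      sigmaP T'.ι ≫ (eps T'.ι).hom.app (op (tildeOf X T'))
    have hn := (eps T.ι).hom.naturality (qLE X h).op
    rw [ObjectProperty.FullSubcategory.comp_hom, NatTrans.comp_app, ← Category.assoc, hι'',
      Category.assoc, hn, ← Category.assoc, sigmaP_eps T.ι (qTop X T), Category.assoc,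
      ← Functor.map_comp, ← op_comp, sigmaP_eps T'.ι (qLE X h ≫ qTop X T)]
  haveI := mono_eps T.ι
  have : ι = ι' := (cancel_mono (eps T.ι)).1 (hι.trans hcomp.symm)
  rw [this]
  exact hι''

variable (U V : X.Opens)

/-- `j_{W!}ℤ ⟶ j_{U!}ℤ` for `W = U ⊓ V`. -/
noncomputable def iotaL : PP (U ⊓ V).ι ⟶ PP U.ι :=
  iotaAbs (X.homOfLE (inf_le_left : U ⊓ V ≤ U)) U.ι (U ⊓ V).ι (X.homOfLE_ι inf_le_left)

/-- `j_{W!}ℤ ⟶ j_{V!}ℤ` for `W = U ⊓ V`. -/
noncomputable def iotaR : PP (U ⊓ V).ι ⟶ PP V.ι :=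
  iotaAbs (X.homOfLE (inf_le_right : U ⊓ V ≤ V)) V.ι (U ⊓ V).ι (X.homOfLE_ι inf_le_right)

theorem iotaL_eps : iotaL U V ≫ eps U.ι = eps (U ⊓ V).ι := iotaAbs_eps _ _ _ _

theorem iotaR_eps : iotaR U V ≫ eps V.ι = eps (U ⊓ V).ι := iotaAbs_eps _ _ _ _

theorem mv_zero : biprod.lift (iotaL U V) (-iotaR U V) ≫ biprod.desc (eps U.ι) (eps V.ι) = 0 := by
  rw [biprod.lift_desc, Preadditive.neg_comp, iotaL_eps, iotaR_eps, add_neg_cancel]

/-- The Mayer–Vietoris short complex `j_{W!}ℤ ⟶ j_{U!}ℤ ⊞ j_{V!}ℤ ⟶ ℤ`. -/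
noncomputable def mvSC : ShortComplex (EtCoh.Ab X) :=
  ShortComplex.mk (biprod.lift (iotaL U V) (-iotaR U V)) (biprod.desc (eps U.ι) (eps V.ι))
    (mv_zero U V)

theorem mvSC_shortExact (hUV : U ⊔ V = ⊤) : (mvSC U V).ShortExact := by
  obtain ⟨hz, hex, hepi⟩ := rightExact_of_rep (qTop X U) (qTop X V)
    (qLE X (inf_le_left : U ⊓ V ≤ U)) (qLE X (inf_le_right : U ⊓ V ≤ V))
    ((EtCore.topIsTerminal X).hom_ext _ _)
    ((EtCore.constAdj X).unit.app ZZ) (sigmaP U.ι) (sigmaP V.ι) (sigmaP (U ⊓ V).ι)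
    (isRep_const X) (isRep_P U.ι) (isRep_P V.ι) (isRep_P (U ⊓ V).ι)
    (eps U.ι) (eps V.ι) (iotaL U V) (iotaR U V)
    (sigmaP_eps U.ι (qTop X U)) (sigmaP_eps V.ι (qTop X V))
    (sigmaP_of_comp_eps inf_le_left (iotaL U V) (iotaL_eps U V))
    (sigmaP_of_comp_eps inf_le_right (iotaR U V) (iotaR_eps U V))
    (fun G t t' h₁ h₂ => glue_unique U V hUV G t t' h₁ h₂)
    (fun G t₁ t₂ h => glue_exists U V hUV G t₁ t₂ h)
  haveI : Mono (iotaL U V) := by
    haveI : Mono (iotaL U V ≫ eps U.ι) := by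
      rw [iotaL_eps]
      exact mono_eps _
    exact mono_of_mono (iotaL U V) (eps U.ι)
  haveI : Mono (biprod.lift (iotaL U V) (-iotaR U V)) := by
    haveI : Mono (biprod.lift (iotaL U V) (-iotaR U V) ≫ biprod.fst) := by
      rw [biprod.lift_fst]
      infer_instance
    exact mono_of_mono _ biprod.fst
  exact
    { exact := hex
      mono_f := inferInstanceAs (Mono (biprod.lift (iotaL U V) (-iotaR U V)))
      epi_g := hepi }

theorem mayer_vietoris (hUV : U ⊔ V = ⊤) (F : EtCoh.Ab X) :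
    ∃ δ : ∀ n : ℕ, EtCoh.H ↑(U ⊓ V) ((EtCoh.pull (U ⊓ V).ι).obj F) n →+ EtCoh.H X F (n + 1),
      (AddMonoidHom.prod (EtCore.Hpull U.ι F 0) (EtCore.Hpull V.ι F 0)).ker = ⊥ ∧
      (∀ n : ℕ, (AddMonoidHom.prod (EtCore.Hpull U.ι F (n + 1)) (EtCore.Hpull V.ι F (n + 1))).ker = (δ n).range) ∧
      (∀ n : ℕ, (((EtCore.HpullVia (X.homOfLE (inf_le_left : U ⊓ V ≤ U)) U.ι (U ⊓ V).ι (X.homOfLE_ι inf_le_left) F n)).comp (AddMonoidHom.fst _ _) - ((EtCore.HpullVia (X.homOfLE (inf_le_right : U ⊓ V ≤ V)) V.ι (U ⊓ V).ι (X.homOfLE_ι inf_le_right) F n)).comp (AddMonoidHom.snd _ _)).ker =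
        (AddMonoidHom.prod (EtCore.Hpull U.ι F n) (EtCore.Hpull V.ι F n)).range) ∧
      (∀ n : ℕ, (δ n).ker = (((EtCore.HpullVia (X.homOfLE (inf_le_left : U ⊓ V ≤ U)) U.ι (U ⊓ V).ι (X.homOfLE_ι inf_le_left) F n)).comp (AddMonoidHom.fst _ _) - ((EtCore.HpullVia (X.homOfLE (inf_le_right : U ⊓ V ≤ V)) V.ι (U ⊓ V).ι (X.homOfLE_ι inf_le_right) F n)).comp (AddMonoidHom.snd _ _)).range) := by
  have hS := mvSC_shortExact U V hUV
  refine mv_assembly hS F
    (H₁ := fun n => EtCoh.H ↑U ((EtCoh.pull U.ι).obj F) n)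
    (H₂ := fun n => EtCoh.H ↑V ((EtCoh.pull V.ι).obj F) n)
    (H₃ := fun n => EtCoh.H ↑(U ⊓ V) ((EtCoh.pull (U ⊓ V).ι).obj F) n)
    (fun n => EtCore.Hpull U.ι F n) (fun n => EtCore.Hpull V.ι F n)
    (fun n => EtCore.HpullVia (X.homOfLE (inf_le_left : U ⊓ V ≤ U)) U.ι (U ⊓ V).ι
      (X.homOfLE_ι inf_le_left) F n)
    (fun n => EtCore.HpullVia (X.homOfLE (inf_le_right : U ⊓ V ≤ V)) V.ι (U ⊓ V).ι
      (X.homOfLE_ι inf_le_right) F n)
    (fun n => ((rhoP U.ι F n).prodMap (rhoP V.ι F n)).comp (biprodExt (PP U.ι) (PP V.ι) F n))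
    (fun n => (Function.Bijective.prodMap (rhoP_bijective U.ι F n)
      (rhoP_bijective V.ι F n)).comp (biprodExt_bijective (PP U.ι) (PP V.ι) F n))
    (fun n => rhoP (U ⊓ V).ι F n) (fun n => rhoP_bijective (U ⊓ V).ι F n) ?_ ?_
  · intro n x
    show (rhoP U.ι F n ((Ext.mk₀ biprod.inl).comp ((Ext.mk₀ (biprod.desc (eps U.ι) (eps V.ι))).comp x
        (zero_add n)) (zero_add n)),
      rhoP V.ι F n ((Ext.mk₀ biprod.inr).comp ((Ext.mk₀ (biprod.desc (eps U.ι) (eps V.ι))).comp x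
        (zero_add n)) (zero_add n))) = _
    rw [Ext.mk₀_comp_mk₀_assoc, Ext.mk₀_comp_mk₀_assoc, biprod.inl_desc, biprod.inr_desc,
      rhoP_eps, rhoP_eps]
    rfl
  · intro n x
    show rhoP (U ⊓ V).ι F n ((Ext.mk₀ (biprod.lift (iotaL U V) (-iotaR U V))).comp x (zero_add n)) =
      EtCore.HpullVia (X.homOfLE (inf_le_left : U ⊓ V ≤ U)) U.ι (U ⊓ V).ι
          (X.homOfLE_ι inf_le_left) F n
          (rhoP U.ι F n ((Ext.mk₀ biprod.inl).comp x (zero_add n))) -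
        EtCore.HpullVia (X.homOfLE (inf_le_right : U ⊓ V ≤ V)) V.ι (U ⊓ V).ι
          (X.homOfLE_ι inf_le_right) F n
          (rhoP V.ι F n ((Ext.mk₀ biprod.inr).comp x (zero_add n)))
    rw [mk₀_lift_neg_comp, map_sub, rhoP_iotaAbs, rhoP_iotaAbs]
    rfl

end Main

end Groth.Agent.H4.MV
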