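import Mathlib
import Groth.Prelude.Def_EtCore
import Groth.Agent.H4.MVEtale

/-!
# Transfer (corestriction) for étale cohomology of fields (helper4 library)

* étale versions of the `j_!ℤ` toolkit of `H4/MVEtale` (there stated for open immersions);
* `Hpull_via`: functoriality of `EtCore.Hpull` (in the `HpullVia` form);
* Galois descent of sections along `Spec M ⟶ Spec K` for a finite Galois extension `M/K`;
* `exists_transfer`: a map `tr : ℤ ⟶ f_!ℤ` with `tr ≫ ε = [L:K]` for `f : Spec L ⟶ Spec K`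
  finite separable;
* `finrank_nsmul_eq_zero`: a class killed by a finite separable extension is killed by its degree.
-/

set_option autoImplicit false
open CategoryTheory CategoryTheory.Limits AlgebraicGeometry Opposite CategoryTheory.Abelian
universe u

namespace Groth.Agent.H4.Tr

open Groth.Agent.H4 Groth.Agent.H4.ExtTools

attribute [local instance] MV.pullExact

section Defs

variable {T X : Scheme.{u}} (j : T ⟶ X) [Etale j]

/-- The adjunction `j_! ⊣ j^{-1}` for the inverse image functor `EtCoh.pull j`. -/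
noncomputable def adjP : EtShriek.extZero j ⊣ EtCoh.pull j :=
  (EtShriek.extZeroAdj j).ofNatIsoRight (pullIsoRestr j).symm

/-- `j_! ℤ`. -/
noncomputable abbrev PP : EtCoh.Ab X := (EtShriek.extZero j).obj (EtCoh.const T ℤ)

/-- The unit `ℤ_T ⟶ j^{-1} j_! ℤ_T`. -/
noncomputable abbrev uP : EtCoh.const T ℤ ⟶ (EtCoh.pull j).obj (PP j) :=
  (adjP j).unit.app (EtCoh.const T ℤ)

/-- The canonical map `j_! ℤ ⟶ ℤ`. -/
noncomputable def eps : PP j ⟶ EtCoh.const X ℤ :=
  ((adjP j).homEquiv _ _).symm (EtCore.pullConst j ℤ).inv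

theorem uP_eps : uP j ≫ (EtCoh.pull j).map (eps j) = (EtCore.pullConst j ℤ).inv := by
  have h := (adjP j).homEquiv_unit (f := eps j)
  rw [← h, eps, Equiv.apply_symm_apply]

/-- `Ext^n(j_!ℤ, F) → H^n(T, j^{-1}F)`. -/
noncomputable def rhoP (F : EtCoh.Ab X) (n : ℕ) :
    Ext.{u + 1} (PP j) F n →+ EtCoh.H T ((EtCoh.pull j).obj F) n :=
  rho (EtCoh.pull j) (uP j) F n

theorem rhoP_apply (F : EtCoh.Ab X) (n : ℕ) (x : Ext.{u + 1} (PP j) F n) :
    rhoP j F n x = (Ext.mk₀ (uP j)).comp (x.mapExactFunctor (EtCoh.pull j)) (zero_add n) := rfl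

theorem rhoP_bijective (F : EtCoh.Ab X) (n : ℕ) : Function.Bijective (rhoP j F n) :=
  rho_bijective (EtCoh.pull j) (uP j)
    (fun I hI => by
      haveI := hI
      exact injective_pull_of_etale j I)
    (fun F => by
      have h : (fun f : PP j ⟶ F => uP j ≫ (EtCoh.pull j).map f) = ⇑((adjP j).homEquiv _ F) := by
        funext f
        exact ((adjP j).homEquiv_unit _ _ f).symm
      rw [h]
      exact Equiv.bijective _) n F

theorem rhoP_eps (F : EtCoh.Ab X) (n : ℕ) (e : EtCoh.H X F n) :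
    rhoP j F n ((Ext.mk₀ (eps j)).comp e (zero_add n)) = EtCore.Hpull j F n e := by
  simp only [EtCore.Hpull, AddMonoidHom.coe_comp, AddMonoidHom.mk'_apply, Function.comp_apply,
    Functor.mapExtAddHom_apply]
  rw [rhoP_apply, Ext.mapExactFunctor_comp, Ext.mapExactFunctor_mk₀, Ext.mk₀_comp_mk₀_assoc,
    uP_eps]

theorem eps_eq : eps j = (EtShriek.extZero j).map
    ((EtCore.pullConst j ℤ).inv ≫ (pullIsoRestr j).hom.app _) ≫
      (EtShriek.extZeroAdj j).counit.app (EtCoh.const X ℤ) := by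
  rw [eps, adjP, Adjunction.homEquiv_ofNatIsoRight_symm_apply, Adjunction.homEquiv_counit]
  rfl

/-- The universal section of `j_! ℤ` over `T`. -/
noncomputable def sigmaP :
    MV.ZZ.{u} ⟶ (PP j).obj.obj (op ((EtShriek.compEtale j).obj (EtCoh.top T))) :=
  (EtCore.constAdj T).homEquiv MV.ZZ ((EtShriek.restrAlong j).obj (PP j))
    ((EtShriek.extZeroAdj j).unit.app (EtCoh.const T ℤ))

theorem sigmaP_comp {G : EtCoh.Ab X} (h : PP j ⟶ G) :
    sigmaP j ≫ h.hom.app (op ((EtShriek.compEtale j).obj (EtCoh.top T))) =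
      (EtCore.constAdj T).homEquiv MV.ZZ ((EtShriek.restrAlong j).obj G)
        ((EtShriek.extZeroAdj j).homEquiv _ _ h) := by
  rw [Adjunction.homEquiv_unit (adj := EtShriek.extZeroAdj j),
    Adjunction.homEquiv_naturality_right]
  rfl

end Defs

section Rep

variable {X : Scheme.{u}}

theorem isRep_P {T : Scheme.{u}} (j : T ⟶ X) [Etale j] :
    MV.IsRep (PP j) ((EtShriek.compEtale j).obj (EtCoh.top T)) (sigmaP j) := by
  intro G
  have h : (fun h : PP j ⟶ G =>
      sigmaP j ≫ h.hom.app (op ((EtShriek.compEtale j).obj (EtCoh.top T)))) =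
      ⇑(((EtShriek.extZeroAdj j).homEquiv _ G).trans
        ((EtCore.constAdj T).homEquiv MV.ZZ ((EtShriek.restrAlong j).obj G))) := by
    funext h
    exact sigmaP_comp j h
  rw [h]
  exact Equiv.bijective _

theorem sigmaP_eps {T : Scheme.{u}} (j : T ⟶ X) [Etale j]
    (k : (EtShriek.compEtale j).obj (EtCoh.top T) ⟶ EtCoh.top X) :
    sigmaP j ≫ (eps j).hom.app (op ((EtShriek.compEtale j).obj (EtCoh.top T))) =
      (EtCore.constAdj X).unit.app MV.ZZ ≫ (EtCoh.const X ℤ).obj.map k.op := by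
  have h1 : (EtShriek.extZeroAdj j).homEquiv _ _ (eps j) =
      (EtCore.pullConst j ℤ).inv ≫ (pullIsoRestr j).hom.app _ := by
    rw [eps, adjP, Adjunction.homEquiv_ofNatIsoRight_symm_apply, Equiv.apply_symm_apply]
    rfl
  rw [sigmaP_comp, h1, Adjunction.homEquiv_naturality_right, MV.homEquiv_pullConst_inv,
    Category.assoc, MV.secPull_etale j (EtCoh.const X ℤ) k]
  rfl

end Rep

section Via

variable {W T X : Scheme.{u}} (a : W ⟶ T) (j : T ⟶ X) (jW : W ⟶ X) (w : a ≫ j = jW)
  [Etale j] [Etale jW]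

/-- The composition isomorphism `a^{-1} j^{-1} ≅ jW^{-1}` used in `EtCore.HpullVia`. -/
noncomputable def thetaIso : EtCoh.pull j ⋙ EtCoh.pull a ≅ EtCoh.pull jW :=
  (EtCore.pullComp a j).symm ≪≫ EtCore.pullCongr w

/-- The map `jW_! ℤ ⟶ j_! ℤ` adjoint to the transported unit. -/
noncomputable def iotaAbs : PP jW ⟶ PP j :=
  ((adjP jW).homEquiv _ _).symm
    ((EtCore.pullConst a ℤ).inv ≫ (EtCoh.pull a).map (uP j) ≫ (thetaIso a j jW w).hom.app (PP j))

theorem uP_iotaAbs : uP jW ≫ (EtCoh.pull jW).map (iotaAbs a j jW w) =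
    (EtCore.pullConst a ℤ).inv ≫ (EtCoh.pull a).map (uP j) ≫
      (thetaIso a j jW w).hom.app (PP j) := by
  have h := (adjP jW).homEquiv_unit _ _ (iotaAbs a j jW w)
  rw [← h, iotaAbs, Equiv.apply_symm_apply]

theorem rhoP_iotaAbs (F : EtCoh.Ab X) (n : ℕ) (x : Ext.{u + 1} (PP j) F n) :
    EtCore.HpullVia a j jW w F n (rhoP j F n x) =
      rhoP jW F n ((Ext.mk₀ (iotaAbs a j jW w)).comp x (zero_add n)) := by
  have hN := mapExt_comp_nat (EtCoh.pull j) (EtCoh.pull a) (EtCoh.pull jW)
    (thetaIso a j jW w).hom n x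
  show ((Ext.mk₀ (EtCore.pullConst a ℤ).inv).comp
      ((rhoP j F n x).mapExactFunctor (EtCoh.pull a)) (zero_add n)).comp
      (Ext.mk₀ ((thetaIso a j jW w).hom.app F)) (add_zero n) = _
  simp only [rhoP_apply, Ext.mapExactFunctor_comp, Ext.mapExactFunctor_mk₀]
  rw [Ext.mk₀_comp_mk₀_assoc, Ext.mk₀_comp_mk₀_assoc, uP_iotaAbs,
    Ext.comp_assoc_of_third_deg_zero, hN, Ext.mk₀_comp_mk₀_assoc, Category.assoc]

theorem star : (EtCore.pullConst a ℤ).inv ≫ (EtCoh.pull a).map (EtCore.pullConst j ℤ).inv ≫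
    (thetaIso a j jW w).hom.app (EtCoh.const X ℤ) = (EtCore.pullConst jW ℤ).inv := by
  apply ((EtCore.constAdj W).homEquiv MV.ZZ _).injective
  have hu := (EtCore.constAdj T).homEquiv_unit _ _ (EtCore.pullConst j ℤ).inv
  calc (EtCore.constAdj W).homEquiv MV.ZZ _ ((EtCore.pullConst a ℤ).inv ≫
          (EtCoh.pull a).map (EtCore.pullConst j ℤ).inv ≫
          (thetaIso a j jW w).hom.app (EtCoh.const X ℤ))
      = (EtCore.constAdj W).homEquiv MV.ZZ _ (EtCore.pullConst a ℤ).inv ≫
          (EtCore.gsec W).map ((EtCoh.pull a).map (EtCore.pullConst j ℤ).inv ≫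
            (thetaIso a j jW w).hom.app (EtCoh.const X ℤ)) :=
        Adjunction.homEquiv_naturality_right _ _ _
    _ = ((EtCore.constAdj T).unit.app MV.ZZ ≫ MV.secPull a (EtCoh.const T ℤ)) ≫
          (EtCore.gsec W).map ((EtCoh.pull a).map (EtCore.pullConst j ℤ).inv) ≫
          (EtCore.gsec W).map ((thetaIso a j jW w).hom.app (EtCoh.const X ℤ)) := by
        rw [MV.homEquiv_pullConst_inv, Functor.map_comp]
    _ = (EtCore.constAdj T).unit.app MV.ZZ ≫ ((EtCore.gsec T).map (EtCore.pullConst j ℤ).inv ≫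
          MV.secPull a ((EtCoh.pull j).obj (EtCoh.const X ℤ))) ≫
          (EtCore.gsec W).map ((thetaIso a j jW w).hom.app (EtCoh.const X ℤ)) := by
        rw [MV.secPull_naturality]
        simp only [Category.assoc]
    _ = ((EtCore.constAdj T).unit.app MV.ZZ ≫ (EtCore.gsec T).map (EtCore.pullConst j ℤ).inv) ≫
          MV.secPull a ((EtCoh.pull j).obj (EtCoh.const X ℤ)) ≫
          (EtCore.gsec W).map ((thetaIso a j jW w).hom.app (EtCoh.const X ℤ)) := by
        simp only [Category.assoc]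
    _ = ((EtCore.constAdj X).unit.app MV.ZZ ≫ MV.secPull j (EtCoh.const X ℤ)) ≫
          MV.secPull a ((EtCoh.pull j).obj (EtCoh.const X ℤ)) ≫
          (EtCore.gsec W).map ((thetaIso a j jW w).hom.app (EtCoh.const X ℤ)) := by
        rw [← hu, MV.homEquiv_pullConst_inv]
    _ = (EtCore.constAdj X).unit.app MV.ZZ ≫ MV.secPull jW (EtCoh.const X ℤ) := by
        rw [Category.assoc]
        congr 1
        exact MV.secPull_via a j jW w (EtCoh.const X ℤ)
    _ = _ := (MV.homEquiv_pullConst_inv jW).symm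

theorem iotaAbs_eps : iotaAbs a j jW w ≫ eps j = eps jW := by
  apply ((adjP jW).homEquiv _ _).injective
  rw [Adjunction.homEquiv_unit, Adjunction.homEquiv_unit]
  have hn := (thetaIso a j jW w).hom.naturality (eps j)
  simp only [Functor.comp_map] at hn
  calc uP jW ≫ (EtCoh.pull jW).map (iotaAbs a j jW w ≫ eps j)
      = (uP jW ≫ (EtCoh.pull jW).map (iotaAbs a j jW w)) ≫ (EtCoh.pull jW).map (eps j) := by
        rw [Functor.map_comp, Category.assoc]
    _ = (EtCore.pullConst a ℤ).inv ≫ (EtCoh.pull a).map (uP j) ≫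
          ((EtCoh.pull a).map ((EtCoh.pull j).map (eps j)) ≫
            (thetaIso a j jW w).hom.app (EtCoh.const X ℤ)) := by
        rw [uP_iotaAbs, hn]
        simp only [Category.assoc]
    _ = (EtCore.pullConst a ℤ).inv ≫ (EtCoh.pull a).map (uP j ≫ (EtCoh.pull j).map (eps j)) ≫
          (thetaIso a j jW w).hom.app (EtCoh.const X ℤ) := by
        rw [Functor.map_comp]
        simp only [Category.assoc]
    _ = (EtCore.pullConst jW ℤ).inv := by
        rw [uP_eps]
        exact star a j jW w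
    _ = uP jW ≫ (EtCoh.pull jW).map (eps jW) := (uP_eps jW).symm

end Via

section ViaH

variable {W T X : Scheme.{u}} (a : W ⟶ T) (j : T ⟶ X) (jW : W ⟶ X) (w : a ≫ j = jW)
  [Etale j] [Etale jW]

theorem Hpull_via (F : EtCoh.Ab X) (n : ℕ) (e : EtCoh.H X F n) :
    EtCore.HpullVia a j jW w F n (EtCore.Hpull j F n e) = EtCore.Hpull jW F n e := by
  rw [← rhoP_eps j F n e, rhoP_iotaAbs a j jW w F n, ← rhoP_eps jW F n e,
    Ext.mk₀_comp_mk₀_assoc, iotaAbs_eps]

end ViaH

section Algebra

theorem comp_nsmul_app {X : Scheme.{u}} {G G' : EtCoh.Ab X} {Y : X.Etale}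
    {E : AddCommGrpCat.{u + 1}} (σ : E ⟶ G.obj.obj (op Y)) (h : G ⟶ G') (d : ℕ) :
    σ ≫ (d • h).hom.app (op Y) = d • (σ ≫ h.hom.app (op Y)) := by
  induction d with
  | zero =>
    rw [zero_nsmul, zero_nsmul]
    exact comp_zero
  | succ n ih =>
    rw [succ_nsmul, succ_nsmul, Sheaf.Hom.add_app, Preadditive.comp_add, ih]

theorem mk₀_nsmul_id_comp {C : Type*} [Category C] [Abelian C] [HasExt C] {A B : C} {n : ℕ}
    (α : Ext A B n) (d : ℕ) :
    (Ext.mk₀ (d • 𝟙 A)).comp α (zero_add n) = d • α := by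
  induction d with
  | zero => rw [zero_nsmul, zero_nsmul, Ext.mk₀_zero, Ext.zero_comp]
  | succ k ih => rw [succ_nsmul, succ_nsmul, Ext.mk₀_add, Ext.add_comp, ih, Ext.mk₀_id_comp]

end Algebra

section Descent

variable {X : Scheme.{u}}

/-- Two morphisms of étale `X`-schemes into an étale `X`-scheme which agree at a point agree on an
étale (in fact open) neighbourhood of that point. -/
theorem rigid (Mo W : X.Etale) (b b' : W ⟶ Mo) (w : W.left)
    (h : W.left.fromSpecResidueField w ≫ b.left = W.left.fromSpecResidueField w ≫ b'.left) :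
    ∃ (V : X.Etale) (r : V ⟶ W) (v : V.left), r.left.base v = w ∧ r ≫ b = r ≫ b' := by
  haveI : Etale Mo.hom := Mo.prop
  haveI : Etale W.hom := W.prop
  have hbw : b.left ≫ Mo.hom = b'.left ≫ Mo.hom :=
    (MorphismProperty.Over.w b).trans (MorphismProperty.Over.w b').symm
  let c : W.left ⟶ pullback Mo.hom Mo.hom := pullback.lift b.left b'.left hbw
  have hc1 : c ≫ pullback.fst Mo.hom Mo.hom = b.left := pullback.lift_fst _ _ _
  have hc2 : c ≫ pullback.snd Mo.hom Mo.hom = b'.left := pullback.lift_snd _ _ _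
  let r₀ : pullback c (pullback.diagonal Mo.hom) ⟶ W.left := pullback.fst c (pullback.diagonal Mo.hom)
  haveI : IsOpenImmersion r₀ := inferInstance
  have key : r₀ ≫ b.left = r₀ ≫ b'.left := by
    have e : r₀ ≫ c = pullback.snd c (pullback.diagonal Mo.hom) ≫ pullback.diagonal Mo.hom :=
      pullback.condition
    have e1 := congrArg (fun z => z ≫ pullback.fst Mo.hom Mo.hom) e
    have e2 := congrArg (fun z => z ≫ pullback.snd Mo.hom Mo.hom) e
    simp only [Category.assoc, hc1, hc2, pullback.diagonal_fst, pullback.diagonal_snd,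
      Category.comp_id] at e1 e2
    exact e1.trans e2.symm
  let V : X.Etale := Scheme.Etale.mk (r₀ ≫ W.hom)
  let r : V ⟶ W := MorphismProperty.Over.homMk r₀ rfl trivial
  let ℓ : Spec (W.left.residueField w) ⟶ pullback c (pullback.diagonal Mo.hom) :=
    pullback.lift (W.left.fromSpecResidueField w) (W.left.fromSpecResidueField w ≫ b.left) (by
      apply pullback.hom_ext
      · simp only [Category.assoc, hc1, pullback.diagonal_fst, Category.comp_id]
      · simp only [Category.assoc, hc2, pullback.diagonal_snd, Category.comp_id]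
        exact h.symm)
  have hℓ : ℓ ≫ r₀ = W.left.fromSpecResidueField w := pullback.lift_fst _ _ _
  obtain ⟨s⟩ : Nonempty (Spec (W.left.residueField w)) := inferInstance
  refine ⟨V, r, ℓ.base s, ?_, ?_⟩
  · have h1 : (ℓ ≫ r₀).base s = w := by
      rw [hℓ]
      exact Scheme.fromSpecResidueField_apply _ _
    rw [Scheme.Hom.comp_apply] at h1
    exact h1
  · apply MorphismProperty.Over.Hom.ext
    exact key

variable (Mo : X.Etale) {ι : Type*} (aut : ι → (Mo ⟶ Mo))

/-- Any two maps into `Mo` differ, at each point, by one of the given endomorphisms of `Mo`. -/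
def LocTrans : Prop :=
  ∀ (W : X.Etale) (a b : W ⟶ Mo) (w : W.left), ∃ i : ι,
    W.left.fromSpecResidueField w ≫ b.left = W.left.fromSpecResidueField w ≫ (a ≫ aut i).left

variable {Mo aut}

theorem compat_of_invariant (h : LocTrans Mo aut) (G : EtCoh.Ab X) {E : AddCommGrpCat.{u + 1}}
    (x : E ⟶ G.obj.obj (op Mo)) (hx : ∀ i, x ≫ G.obj.map (aut i).op = x)
    {W : X.Etale} (a b : W ⟶ Mo) : x ≫ G.obj.map a.op = x ≫ G.obj.map b.op := by
  let R : Sieve W :=
    { arrows := fun V r => ∃ i, r ≫ b = r ≫ a ≫ aut i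
      downward_closed := by
        rintro V V' r ⟨i, hi⟩ s
        exact ⟨i, by rw [Category.assoc, hi, Category.assoc]⟩ }
  have hR : R ∈ X.smallEtaleTopology W := by
    apply mem_smallEtaleTopology_of_forall
    intro w
    obtain ⟨i, hi⟩ := h W a b w
    obtain ⟨V, r, v, hv, hr⟩ := rigid Mo W b (a ≫ aut i) w hi
    exact ⟨V, r, v, ⟨i, hr⟩, hv⟩
  refine Presheaf.IsSheaf.hom_ext G.property ⟨R, hR⟩ _ _ ?_
  rintro ⟨V, r, i, hi⟩
  show (x ≫ G.obj.map a.op) ≫ G.obj.map r.op = (x ≫ G.obj.map b.op) ≫ G.obj.map r.op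
  have e : x ≫ G.obj.map (r ≫ b).op = x ≫ G.obj.map (r ≫ a).op := by
    rw [hi, ← Category.assoc r a (aut i), op_comp (f := r ≫ a), Functor.map_comp,
      ← Category.assoc, hx i]
  rw [Category.assoc, Category.assoc, ← Functor.map_comp, ← Functor.map_comp, ← op_comp,
    ← op_comp, e]

theorem descend (g : Mo ⟶ EtCoh.top X)
    (hcov : Sieve.ofArrows (fun _ : Unit => Mo) (fun _ => g) ∈
      X.smallEtaleTopology (EtCoh.top X))
    (h : LocTrans Mo aut) (G : EtCoh.Ab X) {E : AddCommGrpCat.{u + 1}}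
    (x : E ⟶ G.obj.obj (op Mo)) (hx : ∀ i, x ≫ G.obj.map (aut i).op = x) :
    ∃ u : E ⟶ G.obj.obj (op (EtCoh.top X)), u ≫ G.obj.map g.op = x := by
  have hx' : ∀ ⦃W' : X.Etale⦄ ⦃i j : Unit⦄ (a' : W' ⟶ Mo) (b' : W' ⟶ Mo),
      a' ≫ g = b' ≫ g → x ≫ G.obj.map a'.op = x ≫ G.obj.map b'.op :=
    fun W' _ _ a' b' _ => compat_of_invariant h G x hx a' b'
  obtain ⟨u, hu, -⟩ := Presheaf.IsSheaf.existsUnique_amalgamation_ofArrows G.property
    (fun _ : Unit => g) hcov (fun _ => x) hx'
  exact ⟨u, hu ()⟩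

end Descent

section Field

variable (K : Type u) [Field K]

/-- The structure morphism `Spec E ⟶ Spec K`. -/
noncomputable abbrev sm (E : Type u) [Field E] [Algebra K E] :
    Spec (CommRingCat.of E) ⟶ Spec (CommRingCat.of K) :=
  Spec.map (CommRingCat.ofHom (algebraMap K E))

theorem etale_sm (E : Type u) [Field E] [Algebra K E] [FiniteDimensional K E]
    [Algebra.IsSeparable K E] : Etale (sm K E) := by
  rw [HasRingHomProperty.Spec_iff (P := @Etale)]
  show (algebraMap K E).Etale
  rw [RingHom.etale_algebraMap]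
  exact ⟨Algebra.FormallyEtale.of_isSeparable K E,
    Algebra.FinitePresentation.of_finiteType.mp inferInstance⟩

variable {K}
variable {E E' E'' : Type u} [Field E] [Field E'] [Field E''] [Algebra K E] [Algebra K E']
  [Algebra K E'']

/-- The morphism of spectra induced by a `K`-algebra map. -/
noncomputable abbrev sa (φ : E →ₐ[K] E') : Spec (CommRingCat.of E') ⟶ Spec (CommRingCat.of E) :=
  Spec.map (CommRingCat.ofHom φ.toRingHom)

theorem sa_sm (φ : E →ₐ[K] E') : sa φ ≫ sm K E = sm K E' := by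
  rw [← Spec.map_comp]
  congr 1
  ext x
  exact φ.commutes x

theorem sa_comp (φ : E →ₐ[K] E') (ψ : E' →ₐ[K] E'') : sa ψ ≫ sa φ = sa (ψ.comp φ) := by
  rw [← Spec.map_comp]
  rfl

variable (K)
variable (L M : Type u) [Field L] [Field M] [Algebra K L] [Algebra K M]
  [FiniteDimensional K M] [Algebra.IsSeparable K M]

/-- `Spec M` as an object of the small étale site of `Spec K`. -/
noncomputable def Mo : (Spec (CommRingCat.of K)).Etale :=
  haveI := etale_sm K M
  Scheme.Etale.mk (sm K M)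

/-- The structure map of `Spec M`. -/
noncomputable def gM : Mo K M ⟶ EtCoh.top (Spec (CommRingCat.of K)) :=
  MorphismProperty.Over.homMk (sm K M) (Category.comp_id _) trivial

/-- The action of the Galois group on `Spec M`. -/
noncomputable def autM (σ : M ≃ₐ[K] M) : Mo K M ⟶ Mo K M :=
  MorphismProperty.Over.homMk (sa (σ : M →ₐ[K] M)) (sa_sm _) trivial

/-- The map `Spec M ⟶ Spec L` of étale `Spec K`-schemes induced by an embedding. -/
noncomputable def embM [Etale (sm K L)] (φ : L →ₐ[K] M) :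
    Mo K M ⟶ (EtShriek.compEtale (sm K L)).obj (EtCoh.top (Spec (CommRingCat.of L))) :=
  MorphismProperty.Over.homMk (sa φ) (by
    show sa φ ≫ (𝟙 _ ≫ sm K L) = sm K M
    rw [Category.id_comp, sa_sm]) trivial

theorem autM_embM [Etale (sm K L)] (σ : M ≃ₐ[K] M) (φ : L →ₐ[K] M) :
    autM K M σ ≫ embM K L M φ = embM K L M ((σ : M →ₐ[K] M).comp φ) := by
  apply MorphismProperty.Over.Hom.ext
  exact sa_comp φ (σ : M →ₐ[K] M)

theorem cover_gM : Sieve.ofArrows (fun _ : Unit => Mo K M) (fun _ => gM K M) ∈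
    (Spec (CommRingCat.of K)).smallEtaleTopology (EtCoh.top (Spec (CommRingCat.of K))) := by
  apply mem_smallEtaleTopology_of_forall
  intro x
  obtain ⟨v⟩ : Nonempty (Spec (CommRingCat.of M)) := inferInstance
  have hs : Subsingleton (Spec (CommRingCat.of K)) :=
    inferInstanceAs (Subsingleton (PrimeSpectrum K))
  exact ⟨Mo K M, gM K M, v,
    Sieve.ofArrows_mk (fun _ : Unit => Mo K M) (fun _ => gM K M) (),
    @Subsingleton.elim (Spec (CommRingCat.of K)) hs _ _⟩

theorem locTrans [Normal K M] : LocTrans (Mo K M) (autM K M) := by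
  intro W a b w
  let pa : CommRingCat.of M ⟶ W.left.residueField w :=
    Spec.preimage (W.left.fromSpecResidueField w ≫ a.left :
      Spec (W.left.residueField w) ⟶ Spec (CommRingCat.of M))
  let pb : CommRingCat.of M ⟶ W.left.residueField w :=
    Spec.preimage (W.left.fromSpecResidueField w ≫ b.left :
      Spec (W.left.residueField w) ⟶ Spec (CommRingCat.of M))
  have hpa : Spec.map pa = W.left.fromSpecResidueField w ≫ a.left := Spec.map_preimage _
  have hpb : Spec.map pb = W.left.fromSpecResidueField w ≫ b.left := Spec.map_preimage _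
  have ea : a.left ≫ sm K M = W.hom := MorphismProperty.Over.w a
  have eb : b.left ≫ sm K M = W.hom := MorphismProperty.Over.w b
  have hK : CommRingCat.ofHom (algebraMap K M) ≫ pa = CommRingCat.ofHom (algebraMap K M) ≫ pb := by
    apply Spec.map_injective
    rw [Spec.map_comp, Spec.map_comp, hpa, hpb]
    have e1 : (W.left.fromSpecResidueField w ≫ a.left) ≫ sm K M =
        W.left.fromSpecResidueField w ≫ W.hom :=
      (Category.assoc _ _ _).trans (congrArg (fun z => W.left.fromSpecResidueField w ≫ z) ea)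
    have e2 : (W.left.fromSpecResidueField w ≫ b.left) ≫ sm K M =
        W.left.fromSpecResidueField w ≫ W.hom :=
      (Category.assoc _ _ _).trans (congrArg (fun z => W.left.fromSpecResidueField w ≫ z) eb)
    exact e1.trans e2.symm
  letI : Algebra M (W.left.residueField w) := pa.hom.toAlgebra
  letI : Algebra K (W.left.residueField w) := (pa.hom.comp (algebraMap K M)).toAlgebra
  haveI : IsScalarTower K M (W.left.residueField w) :=
    IsScalarTower.of_algebraMap_eq (fun _ => rfl)
  let b' : M →ₐ[K] (W.left.residueField w) :=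
    { pb.hom with
      commutes' := fun r => by
        have := congrArg (fun q : CommRingCat.of K ⟶ W.left.residueField w => q.hom r) hK
        exact this.symm }
  let σ : M ≃ₐ[K] M := Normal.algHomEquivAut K (W.left.residueField w) M b'
  have hσ : ∀ x : M, pb.hom x = pa.hom (σ x) := by
    intro x
    have e : (Normal.algHomEquivAut K (W.left.residueField w) M).symm σ = b' :=
      Equiv.symm_apply_apply _ _
    have := congrArg (fun q : M →ₐ[K] (W.left.residueField w) => q x) e
    exact this.symm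
  refine ⟨σ, ?_⟩
  show W.left.fromSpecResidueField w ≫ b.left =
    W.left.fromSpecResidueField w ≫ a.left ≫ sa (σ : M →ₐ[K] M)
  have e3 : Spec.map pb =
      Spec.map (CommRingCat.ofHom ((σ : M →ₐ[K] M).toRingHom) ≫ pa) := by
    congr 1
    ext x
    exact hσ x
  have e4 : W.left.fromSpecResidueField w ≫ a.left ≫ sa (σ : M →ₐ[K] M) =
      Spec.map pa ≫ sa (σ : M →ₐ[K] M) :=
    (Category.assoc _ _ _).symm.trans (congrArg (fun z => z ≫ sa (σ : M →ₐ[K] M)) hpa.symm)
  exact hpb.symm.trans (e3.trans ((Spec.map_comp _ _).trans e4.symm))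

/-- Post-composition with a Galois automorphism permutes the embeddings. -/
def postEquiv (σ : M ≃ₐ[K] M) : (L →ₐ[K] M) ≃ (L →ₐ[K] M) where
  toFun φ := (σ : M →ₐ[K] M).comp φ
  invFun φ := (σ.symm : M →ₐ[K] M).comp φ
  left_inv φ := by ext x; simp
  right_inv φ := by ext x; simp

theorem exists_transfer_aux [FiniteDimensional K L] [Normal K M] [Etale (sm K L)]
    (hcard : Nat.card (L →ₐ[K] M) = Module.finrank K L) :
    ∃ tr : EtCoh.const (Spec (CommRingCat.of K)) ℤ ⟶ PP (sm K L),
      tr ≫ eps (sm K L) = Module.finrank K L • 𝟙 _ := by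
  classical
  let X : Scheme.{u} := Spec (CommRingCat.of K)
  let f := sm K L
  let P : EtCoh.Ab X := PP f
  let Z : EtCoh.Ab X := EtCoh.const X ℤ
  let Tob : X.Etale := (EtShriek.compEtale f).obj (EtCoh.top (Spec (CommRingCat.of L)))
  let η : MV.ZZ.{u} ⟶ Z.obj.obj (op (EtCoh.top X)) := (EtCore.constAdj X).unit.app MV.ZZ
  let sP : MV.ZZ.{u} ⟶ P.obj.obj (op Tob) := sigmaP f
  let k : Tob ⟶ EtCoh.top X := (EtCore.topIsTerminal X).from Tob
  let x : MV.ZZ.{u} ⟶ P.obj.obj (op (Mo K M)) :=
    ∑ φ : L →ₐ[K] M, sP ≫ P.obj.map (embM K L M φ).op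
  have hx : ∀ σ : M ≃ₐ[K] M, x ≫ P.obj.map (autM K M σ).op = x := by
    intro σ
    show (∑ φ : L →ₐ[K] M, sP ≫ P.obj.map (embM K L M φ).op) ≫ P.obj.map (autM K M σ).op = _
    rw [Preadditive.sum_comp]
    refine (Finset.sum_congr rfl (fun φ _ => ?_)).trans
      (Equiv.sum_comp (postEquiv K L M σ) (fun ψ => sP ≫ P.obj.map (embM K L M ψ).op))
    show (sP ≫ P.obj.map (embM K L M φ).op) ≫ P.obj.map (autM K M σ).op =
      sP ≫ P.obj.map (embM K L M ((σ : M →ₐ[K] M).comp φ)).op
    rw [Category.assoc, ← Functor.map_comp, ← op_comp, autM_embM]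
  obtain ⟨u, hu⟩ := descend (gM K M) (cover_gM K M) (locTrans K M) P x hx
  obtain ⟨tr, htr⟩ := (MV.isRep_const X P).2 u
  have htr' : η ≫ tr.hom.app (op (EtCoh.top X)) = u := htr
  refine ⟨tr, ?_⟩
  apply (MV.isRep_const X Z).1
  show η ≫ (tr ≫ eps f).hom.app (op (EtCoh.top X)) =
    η ≫ (Module.finrank K L • 𝟙 Z).hom.app (op (EtCoh.top X))
  apply Presheaf.IsSheaf.hom_ext_ofArrows Z.property (fun _ : Unit => gM K M) (cover_gM K M)
  intro _
  have n1 : P.obj.map (gM K M).op ≫ (eps f).hom.app (op (Mo K M)) =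
      (eps f).hom.app (op (EtCoh.top X)) ≫ Z.obj.map (gM K M).op :=
    (eps f).hom.naturality (gM K M).op
  have n2 : ∀ φ : L →ₐ[K] M, P.obj.map (embM K L M φ).op ≫ (eps f).hom.app (op (Mo K M)) =
      (eps f).hom.app (op Tob) ≫ Z.obj.map (embM K L M φ).op :=
    fun φ => (eps f).hom.naturality (embM K L M φ).op
  have hk : ∀ φ : L →ₐ[K] M, embM K L M φ ≫ k = gM K M :=
    fun φ => (EtCore.topIsTerminal X).hom_ext _ _
  have hterm : ∀ φ : L →ₐ[K] M,
      (sP ≫ P.obj.map (embM K L M φ).op) ≫ (eps f).hom.app (op (Mo K M)) =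
        η ≫ Z.obj.map (gM K M).op := by
    intro φ
    rw [Category.assoc, n2 φ, ← Category.assoc]
    have h3 : sP ≫ (eps f).hom.app (op Tob) = η ≫ Z.obj.map k.op := sigmaP_eps f k
    rw [h3, Category.assoc, ← Functor.map_comp, ← op_comp, hk φ]
  have lhs : (η ≫ (tr ≫ eps f).hom.app (op (EtCoh.top X))) ≫ Z.obj.map (gM K M).op =
      Fintype.card (L →ₐ[K] M) • (η ≫ Z.obj.map (gM K M).op) := by
    rw [ObjectProperty.FullSubcategory.comp_hom, NatTrans.comp_app, ← Category.assoc η, htr',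
      Category.assoc, ← n1, ← Category.assoc, hu]
    show (∑ φ : L →ₐ[K] M, sP ≫ P.obj.map (embM K L M φ).op) ≫
      (eps f).hom.app (op (Mo K M)) = _
    rw [Preadditive.sum_comp, Finset.sum_congr rfl (fun φ _ => hterm φ), Finset.sum_const,
      Finset.card_univ]
  have rhs : (η ≫ (Module.finrank K L • 𝟙 Z).hom.app (op (EtCoh.top X))) ≫
      Z.obj.map (gM K M).op = Module.finrank K L • (η ≫ Z.obj.map (gM K M).op) := by
    rw [comp_nsmul_app, Preadditive.nsmul_comp]
    congr 2
  have hc : Fintype.card (L →ₐ[K] M) = Module.finrank K L := by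
    rw [Fintype.card_eq_nat_card, hcard]
  exact lhs.trans ((congrArg (fun n : ℕ => n • (η ≫ Z.obj.map (gM K M).op)) hc).trans rhs.symm)

end Field

section Main

open IntermediateField in
theorem exists_transfer (K L : Type u) [Field K] [Field L] [Algebra K L] [FiniteDimensional K L]
    [Algebra.IsSeparable K L] [Etale (sm K L)] :
    ∃ tr : EtCoh.const (Spec (CommRingCat.of K)) ℤ ⟶ PP (sm K L),
      tr ≫ eps (sm K L) = Module.finrank K L • 𝟙 _ := by
  haveI : IsAlgClosure K (AlgebraicClosure L) := IsAlgClosure.ofAlgebraic K L (AlgebraicClosure L)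
  haveI : Normal K (AlgebraicClosure L) := inferInstance
  haveI : Normal K (normalClosure K L (AlgebraicClosure L)) := normalClosure.normal K L _
  haveI : FiniteDimensional K (normalClosure K L (AlgebraicClosure L)) :=
    normalClosure.is_finiteDimensional K L _
  haveI : Algebra.IsSeparable K (normalClosure K L (AlgebraicClosure L)) := by
    rw [← le_separableClosure_iff]
    rw [normalClosure_le_iff]
    intro φ y hy
    obtain ⟨x, rfl⟩ := hy
    rw [mem_separableClosure_iff]
    have hx : IsSeparable K x := Algebra.IsSeparable.isSeparable K x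
    show IsSeparable K (φ x)
    exact hx.map φ φ.injective
  refine exists_transfer_aux K L (normalClosure K L (AlgebraicClosure L)) ?_
  rw [Nat.card_congr (normalClosure.algHomEquiv K L (AlgebraicClosure L))]
  exact AlgHom.natCard_of_splits K L (AlgebraicClosure L) (fun _ => IsAlgClosed.splits _)

theorem finrank_nsmul_eq_zero (K : Type u) [Field K] (F : EtCoh.Ab (Spec (CommRingCat.of K)))
    (i : ℕ) (α : EtCoh.H (Spec (CommRingCat.of K)) F i) (L : Type u) [Field L] [Algebra K L]
    [FiniteDimensional K L] [Algebra.IsSeparable K L]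
    (hα : EtCore.Hpull (sm K L) F i α = 0) : Module.finrank K L • α = 0 := by
  haveI := etale_sm K L
  have h1 : (Ext.mk₀ (eps (sm K L))).comp α (zero_add i) = 0 := by
    apply (rhoP_bijective (sm K L) F i).1
    rw [rhoP_eps, hα, map_zero]
  obtain ⟨tr, htr⟩ := exists_transfer K L
  rw [← mk₀_nsmul_id_comp α, ← htr, ← Ext.mk₀_comp_mk₀_assoc, h1, Ext.comp_zero]

end Main

end Groth.Agent.H4.Tr
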