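import Mathlib
import Groth.Prelude.Def_EtCore
import Groth.Agent.H4.Transfer
import Groth.Agent.H4.SiteBasics
import Groth.Agent.H52.ValFinSep

/-!
# Higher étale cohomology classes vanish étale-locally; torsion-ness of Galois cohomology
(helper4 library)
-/

set_option autoImplicit false
open CategoryTheory CategoryTheory.Limits AlgebraicGeometry Opposite CategoryTheory.Abelian
universe u

namespace Groth.Agent.H4.Tr

open Groth.Agent.H4 Groth.Agent.H4.ExtTools

attribute [local instance] MV.pullExact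

/-- The morphism `ℤ ⟶ A` with a given value at `1`. -/
noncomputable def fromZZ {A : AddCommGrpCat.{u + 1}} (a : A) : MV.ZZ.{u} ⟶ A :=
  AddCommGrpCat.ofHom (((zmultiplesHom A) a).comp
    (AddEquiv.ulift.toAddMonoidHom : ULift.{u + 1} ℤ →+ ℤ))

theorem fromZZ_one {A : AddCommGrpCat.{u + 1}} (a : A) : (fromZZ a).hom ⟨1⟩ = a := by
  show (1 : ℤ) • a = a
  exact one_zsmul a

theorem ZZ_hom_ext {A : AddCommGrpCat.{u + 1}} (f g : MV.ZZ.{u} ⟶ A)
    (h : f.hom ⟨1⟩ = g.hom ⟨1⟩) : f = g := by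
  apply AddCommGrpCat.hom_ext
  apply AddMonoidHom.ext
  rintro ⟨n⟩
  have e : (⟨n⟩ : ULift.{u + 1} ℤ) = n • (⟨1⟩ : ULift.{u + 1} ℤ) := by
    apply ULift.ext
    show n = n • (1 : ℤ)
    simp
  rw [e, map_zsmul, map_zsmul, h]

theorem comp_mk₀_nsmul_id {C : Type*} [Category C] [Abelian C] [HasExt C] {A B : C} {n : ℕ}
    (α : Ext A B n) (d : ℕ) :
    α.comp (Ext.mk₀ (d • 𝟙 B)) (add_zero n) = d • α := by
  induction d with
  | zero => rw [zero_nsmul, zero_nsmul, Ext.mk₀_zero, Ext.comp_zero]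
  | succ k ih => rw [succ_nsmul, succ_nsmul, Ext.mk₀_add, Ext.comp_add, ih, Ext.comp_mk₀_id]

/-- A class of positive degree is killed by `ε_j : j_!ℤ ⟶ ℤ` for an étale neighbourhood `j` of any
given point. -/
theorem exists_etale_nbhd_comp_eps_eq_zero {X : Scheme.{u}} (n : ℕ) :
    ∀ (F : EtCoh.Ab X) (α : Ext.{u + 1} (EtCoh.const X ℤ) F (n + 1)) (x : X),
      ∃ (T : Scheme.{u}) (j : T ⟶ X) (_ : Etale j) (t : T), j.base t = x ∧
        (Ext.mk₀ (eps j)).comp α (zero_add (n + 1)) = 0 := by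
  induction n with
  | zero =>
    intro F α x
    let S : ShortComplex (EtCoh.Ab X) :=
      ShortComplex.mk (Injective.ι F) (cokernel.π (Injective.ι F)) (cokernel.condition _)
    have hS : S.ShortExact :=
      { exact := ShortComplex.exact_cokernel _
        mono_f := inferInstanceAs (Mono (Injective.ι F))
        epi_g := inferInstanceAs (Epi (cokernel.π (Injective.ι F))) }
    have hI : α.comp (Ext.mk₀ (Injective.ι F)) (add_zero 1) = 0 := Ext.eq_zero_of_injective _
    obtain ⟨β, hβ⟩ := Ext.covariant_sequence_exact₁ (EtCoh.const X ℤ) hS α hI (zero_add 1)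
    obtain ⟨s, rfl⟩ := (Ext.mk₀_bijective _ _).2 β
    -- the section of `Q` defined by `s`
    let η : MV.ZZ.{u} ⟶ (EtCoh.const X ℤ).obj.obj (op (EtCoh.top X)) :=
      (EtCore.constAdj X).unit.app MV.ZZ
    let t₀ : ToType (S.X₃.obj.obj (op (EtCoh.top X))) :=
      (η ≫ s.hom.app (op (EtCoh.top X))).hom ⟨1⟩
    haveI : Epi S.g := hS.epi_g
    haveI : Sheaf.IsLocallySurjective S.g := (Sheaf.isLocallySurjective_iff_epi' _ _).2 hS.epi_g
    have hIm : Presheaf.imageSieve S.g.hom t₀ ∈ X.smallEtaleTopology (EtCoh.top X) :=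
      Presheaf.imageSieve_mem X.smallEtaleTopology S.g.hom t₀
    obtain ⟨V, k, pt, ⟨sV, hsV⟩, hpt⟩ := exists_of_mem_smallEtaleTopology _ _ hIm x
    haveI hj : Etale V.hom := V.prop
    let Tob : X.Etale := (EtShriek.compEtale V.hom).obj (EtCoh.top V.left)
    let c : Tob ⟶ V := MorphismProperty.Over.homMk (𝟙 V.left) rfl trivial
    let k' : Tob ⟶ EtCoh.top X := c ≫ k
    obtain ⟨l, hl⟩ := (isRep_P V.hom S.X₂).2 (fromZZ (S.X₂.obj.map c.op sV))
    have hl' : sigmaP V.hom ≫ l.hom.app (op Tob) = fromZZ (S.X₂.obj.map c.op sV) := hl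
    have hlift : l ≫ S.g = eps V.hom ≫ s := by
      apply (isRep_P V.hom S.X₃).1
      show sigmaP V.hom ≫ (l ≫ S.g).hom.app (op Tob) =
        sigmaP V.hom ≫ (eps V.hom ≫ s).hom.app (op Tob)
      have hn : (EtCoh.const X ℤ).obj.map k'.op ≫ s.hom.app (op Tob) =
          s.hom.app (op (EtCoh.top X)) ≫ S.X₃.obj.map k'.op := s.hom.naturality k'.op
      have h3 : sigmaP V.hom ≫ (eps V.hom).hom.app (op Tob) =
          η ≫ (EtCoh.const X ℤ).obj.map k'.op := sigmaP_eps V.hom k'
      rw [ObjectProperty.FullSubcategory.comp_hom, NatTrans.comp_app, ← Category.assoc, hl',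
        ObjectProperty.FullSubcategory.comp_hom, NatTrans.comp_app, ← Category.assoc, h3,
        Category.assoc, hn, ← Category.assoc]
      apply ZZ_hom_ext
      show S.g.hom.app (op Tob) ((fromZZ (S.X₂.obj.map c.op sV)).hom ⟨1⟩) =
        S.X₃.obj.map k'.op t₀
      rw [fromZZ_one]
      have h5 : S.g.hom.app (op Tob) (S.X₂.obj.map c.op sV) =
          S.X₃.obj.map c.op (S.g.hom.app (op V) sV) :=
        NatTrans.naturality_apply S.g.hom c.op sV
      rw [h5, hsV]
      show S.X₃.obj.map c.op (S.X₃.obj.map k.op t₀) = S.X₃.obj.map (c ≫ k).op t₀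
      rw [op_comp, Functor.map_comp]
      rfl
    have hk : k.left = V.hom := by
      have := MorphismProperty.Over.w k
      exact (Category.comp_id _).symm.trans this
    refine ⟨V.left, V.hom, hj, pt, ?_, ?_⟩
    · rw [← hk]
      exact hpt
    · rw [← hβ, Ext.mk₀_comp_mk₀_assoc, ← hlift, ← Ext.mk₀_comp_mk₀_assoc, hS.comp_extClass,
        Ext.comp_zero]
  | succ n ih =>
    intro F α x
    let S : ShortComplex (EtCoh.Ab X) :=
      ShortComplex.mk (Injective.ι F) (cokernel.π (Injective.ι F)) (cokernel.condition _)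
    have hS : S.ShortExact :=
      { exact := ShortComplex.exact_cokernel _
        mono_f := inferInstanceAs (Mono (Injective.ι F))
        epi_g := inferInstanceAs (Epi (cokernel.π (Injective.ι F))) }
    have hI : α.comp (Ext.mk₀ (Injective.ι F)) (add_zero (n + 1 + 1)) = 0 :=
      Ext.eq_zero_of_injective _
    obtain ⟨β, hβ⟩ := Ext.covariant_sequence_exact₁ (EtCoh.const X ℤ) hS α hI
      (rfl : n + 1 + 1 = n + 1 + 1)
    obtain ⟨T, j, hj, t, ht, h0⟩ := ih S.X₃ β x
    refine ⟨T, j, hj, t, ht, ?_⟩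
    have e := Ext.comp_assoc (Ext.mk₀ (eps j)) β hS.extClass (zero_add (n + 1))
      (rfl : n + 1 + 1 = n + 1 + 1) (by omega : 0 + (n + 1) + 1 = n + 1 + 1)
    rw [← hβ]
    exact e.symm.trans (by rw [h0, Ext.zero_comp])

theorem isOfFinAddOrder_H_field (k : Type u) [Field k] (F : EtCoh.Ab (Spec (CommRingCat.of k)))
    (i : ℕ) (hi : 0 < i) (x : EtCoh.H (Spec (CommRingCat.of k)) F i) : IsOfFinAddOrder x := by
  obtain ⟨n, rfl⟩ : ∃ n, i = n + 1 := ⟨i - 1, by omega⟩
  obtain ⟨pt⟩ : Nonempty (Spec (CommRingCat.of k)) := inferInstance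
  obtain ⟨T, j, hj, t, -, h0⟩ := exists_etale_nbhd_comp_eps_eq_zero n F x pt
  haveI := hj
  have hH : EtCore.Hpull j F (n + 1) x = 0 := by
    rw [← rhoP_eps, h0, map_zero]
  let ψr : CommRingCat.of k ⟶ T.residueField t :=
    Spec.preimage (T.fromSpecResidueField t ≫ j)
  have hψr : Spec.map ψr = T.fromSpecResidueField t ≫ j := Spec.map_preimage _
  obtain ⟨hfin, hsep⟩ := Groth.Agent.H52.finite_separable_of_etale_field j t ψr hψr
  letI : Algebra k (T.residueField t) := ψr.hom.toAlgebra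
  haveI : FiniteDimensional k (T.residueField t) := hfin
  haveI : Algebra.IsSeparable k (T.residueField t) := hsep
  haveI := etale_sm k (T.residueField t)
  have hw : T.fromSpecResidueField t ≫ j = sm k (T.residueField t) := hψr.symm
  have hL : EtCore.Hpull (sm k (T.residueField t)) F (n + 1) x = 0 := by
    rw [← Hpull_via (T.fromSpecResidueField t) j (sm k (T.residueField t)) hw F (n + 1) x, hH,
      map_zero]
  have hd := finrank_nsmul_eq_zero k F (n + 1) x (T.residueField t) hL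
  exact isOfFinAddOrder_iff_nsmul_eq_zero.2 ⟨_, Module.finrank_pos, hd⟩

theorem subsingleton_H_of_divisible (k : Type u) [Field k]
    (F : EtCoh.Ab (Spec (CommRingCat.of k))) (hdiv : ∀ n : ℕ, 0 < n → IsIso (n • 𝟙 F))
    (i : ℕ) (hi : 0 < i) : Subsingleton (EtCoh.H (Spec (CommRingCat.of k)) F i) := by
  refine ⟨fun a b => ?_⟩
  suffices h : ∀ x : EtCoh.H (Spec (CommRingCat.of k)) F i, x = 0 from (h a).trans (h b).symm
  intro x
  obtain ⟨n, hn, hx⟩ := isOfFinAddOrder_iff_nsmul_eq_zero.1 (isOfFinAddOrder_H_field k F i hi x)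
  haveI := hdiv n hn
  have h1 : x.comp (Ext.mk₀ (n • 𝟙 F)) (add_zero i) = n • x := comp_mk₀_nsmul_id x n
  have h2 : x = (x.comp (Ext.mk₀ (n • 𝟙 F)) (add_zero i)).comp
      (Ext.mk₀ (inv (n • 𝟙 F))) (add_zero i) := by
    rw [Ext.comp_assoc_of_third_deg_zero, Ext.mk₀_comp_mk₀, IsIso.hom_inv_id, Ext.comp_mk₀_id]
  rw [h2, h1, hx, Ext.zero_comp]

end Groth.Agent.H4.Tr
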