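import Mathlib
import Groth.Prelude.Def_EtCore
import Groth.Agent.H4.LocVanish

/-!
# `H^i(k, ℤ) ≃ H^{i-1}(k, ℚ/ℤ)` for `i ≥ 2` (helper4 library)
-/

set_option autoImplicit false
open CategoryTheory CategoryTheory.Limits AlgebraicGeometry Opposite CategoryTheory.Abelian
universe u

namespace Groth.Agent.H4.Tr

/-- A homomorphism of abelian groups, lifted to `AddCommGrpCat.{u+1}`. -/
noncomputable def liftHom {M N : Type} [AddCommGroup M] [AddCommGroup N] (f : M →+ N) :
    AddCommGrpCat.of (ULift.{u + 1} M) ⟶ AddCommGrpCat.of (ULift.{u + 1} N) :=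
  AddCommGrpCat.ofHom ((AddEquiv.ulift.symm.toAddMonoidHom).comp
    (f.comp AddEquiv.ulift.toAddMonoidHom))

theorem liftHom_apply {M N : Type} [AddCommGroup M] [AddCommGroup N] (f : M →+ N)
    (x : ULift.{u + 1} M) : (liftHom.{u} f).hom x = ⟨f x.down⟩ := rfl

/-- The short complex `ℤ → ℚ → ℚ/ℤ` of (lifted) abelian groups. -/
noncomputable def zqSC : ShortComplex AddCommGrpCat.{u + 1} :=
  ShortComplex.mk (liftHom.{u} (Int.castAddHom ℚ))
    (liftHom.{u} (QuotientAddGroup.mk' (AddSubgroup.zmultiples (1 : ℚ)))) (by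
      apply AddCommGrpCat.hom_ext
      apply AddMonoidHom.ext
      intro x
      show (⟨QuotientAddGroup.mk' (AddSubgroup.zmultiples (1 : ℚ)) ((x.down : ℤ) : ℚ)⟩ :
        ULift.{u + 1} (ℚ ⧸ AddSubgroup.zmultiples (1 : ℚ))) = 0
      apply ULift.ext
      show QuotientAddGroup.mk' (AddSubgroup.zmultiples (1 : ℚ)) ((x.down : ℤ) : ℚ) = 0
      rw [QuotientAddGroup.mk'_apply, QuotientAddGroup.eq_zero_iff, AddSubgroup.mem_zmultiples_iff]
      exact ⟨x.down, by simp⟩)

theorem zqSC_shortExact : zqSC.{u}.ShortExact where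
  exact := by
    rw [ShortComplex.ab_exact_iff]
    intro x hx
    have h1 : QuotientAddGroup.mk' (AddSubgroup.zmultiples (1 : ℚ)) x.down = 0 :=
      congrArg ULift.down hx
    rw [QuotientAddGroup.mk'_apply, QuotientAddGroup.eq_zero_iff,
      AddSubgroup.mem_zmultiples_iff] at h1
    obtain ⟨n, hn⟩ := h1
    refine ⟨⟨n⟩, ?_⟩
    apply ULift.ext
    show ((n : ℤ) : ℚ) = x.down
    rw [← hn]
    simp
  mono_f := by
    apply (AddCommGrpCat.mono_iff_injective _).2
    intro a b hab
    have h1 : ((a.down : ℤ) : ℚ) = ((b.down : ℤ) : ℚ) := congrArg ULift.down hab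
    exact ULift.ext _ _ (Int.cast_injective h1)
  epi_g := by
    apply (AddCommGrpCat.epi_iff_surjective _).2
    intro y
    obtain ⟨q, hq⟩ := QuotientAddGroup.mk'_surjective (AddSubgroup.zmultiples (1 : ℚ)) y.down
    exact ⟨⟨q⟩, ULift.ext _ _ hq⟩

section

variable (X : Scheme.{u})

instance constPresFinLim :
    PreservesFiniteLimits (constantSheaf X.smallEtaleTopology AddCommGrpCat.{u + 1}) := by
  unfold constantSheaf
  infer_instance

instance constPresFinColim :
    PreservesFiniteColimits (constantSheaf X.smallEtaleTopology AddCommGrpCat.{u + 1}) := by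
  have := (EtCore.constAdj X).isLeftAdjoint
  infer_instance

instance constAdditive :
    (constantSheaf X.smallEtaleTopology AddCommGrpCat.{u + 1}).Additive := by
  have := preservesBinaryBiproducts_of_preservesBinaryCoproducts
    (constantSheaf X.smallEtaleTopology AddCommGrpCat.{u + 1})
  exact Functor.additive_of_preservesBinaryBiproducts _

/-- The short exact sequence `0 → ℤ → ℚ → ℚ/ℤ → 0` of constant étale sheaves. -/
theorem constZQ_shortExact :
    (zqSC.{u}.map (constantSheaf X.smallEtaleTopology AddCommGrpCat.{u + 1})).ShortExact :=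
  zqSC_shortExact.map_of_exact _

theorem isIso_nsmul_constQ (n : ℕ) (hn : 0 < n) : IsIso (n • 𝟙 (EtCoh.const X ℚ)) := by
  have h0 : IsIso (n • 𝟙 (AddCommGrpCat.of (ULift.{u + 1} ℚ))) := by
    apply (ConcreteCategory.isIso_iff_bijective _).2
    have key : ∀ x : ULift.{u + 1} ℚ,
        (n • 𝟙 (AddCommGrpCat.of (ULift.{u + 1} ℚ))).hom x = n • x := fun x => by simp
    have hn' : (n : ℚ) ≠ 0 := Nat.cast_ne_zero.2 hn.ne'
    constructor
    · intro a b hab
      have h1 : n • a = n • b := (key a).symm.trans (hab.trans (key b))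
      have h2 : n • a.down = n • b.down := congrArg ULift.down h1
      rw [nsmul_eq_mul, nsmul_eq_mul] at h2
      exact ULift.ext _ _ (mul_left_cancel₀ hn' h2)
    · intro y
      refine ⟨⟨y.down / n⟩, ?_⟩
      refine (key _).trans ?_
      apply ULift.ext
      show n • (y.down / n) = y.down
      rw [nsmul_eq_mul]
      field_simp
  have e : n • 𝟙 (EtCoh.const X ℚ) =
      (constantSheaf X.smallEtaleTopology AddCommGrpCat.{u + 1}).map
        (n • 𝟙 (AddCommGrpCat.of (ULift.{u + 1} ℚ))) := by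
    rw [Functor.map_nsmul, CategoryTheory.Functor.map_id]
  rw [e]
  infer_instance

end

theorem nonempty_H_constInt_equiv (k : Type u) [Field k] (i : ℕ) (hi : 2 ≤ i) :
    Nonempty (EtCoh.H (Spec (CommRingCat.of k)) (EtCoh.const (Spec (CommRingCat.of k)) ℤ) i ≃+
      EtCoh.H (Spec (CommRingCat.of k))
        (EtCoh.const (Spec (CommRingCat.of k)) (ℚ ⧸ AddSubgroup.zmultiples (1 : ℚ))) (i - 1)) := by
  obtain ⟨m, rfl⟩ : ∃ m, i = m + 2 := ⟨i - 2, by omega⟩
  have e1 : m + 2 - 1 = m + 1 := by omega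
  rw [e1]
  have hS := constZQ_shortExact (Spec (CommRingCat.of k))
  have hQ : ∀ q : ℕ, 0 < q → Subsingleton (EtCoh.H (Spec (CommRingCat.of k))
      (EtCoh.const (Spec (CommRingCat.of k)) ℚ) q) := fun q hq =>
    subsingleton_H_of_divisible k _ (isIso_nsmul_constQ _) q hq
  have hQ1 := hQ (m + 1) (by omega)
  have hQ2 := hQ (m + 2) (by omega)
  let δ := hS.extClass.postcomp (EtCoh.const (Spec (CommRingCat.of k)) ℤ)
    (rfl : m + 1 + 1 = m + 2)
  have hinj : Function.Injective δ := by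
    refine (injective_iff_map_eq_zero δ).2 (fun a ha => ?_)
    obtain ⟨x₂, hx₂⟩ := Ext.covariant_sequence_exact₃ _ hS a (rfl : m + 1 + 1 = m + 2) ha
    have h0 : x₂ = 0 := @Subsingleton.elim _ hQ1 _ _
    rw [← hx₂, h0, Ext.zero_comp]
  have hsurj : Function.Surjective δ := by
    intro y
    have h0 : y.comp (Ext.mk₀ (zqSC.{u}.map
        (constantSheaf (Spec (CommRingCat.of k)).smallEtaleTopology AddCommGrpCat.{u + 1})).f)
        (add_zero (m + 2)) = 0 := @Subsingleton.elim _ hQ2 _ _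
    obtain ⟨x₃, hx₃⟩ := Ext.covariant_sequence_exact₁ _ hS y h0 (rfl : m + 1 + 1 = m + 2)
    exact ⟨x₃, hx₃⟩
  exact ⟨(AddEquiv.ofBijective δ ⟨hinj, hsurj⟩).symm⟩

end Groth.Agent.H4.Tr
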