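import Mathlib
import Groth.Prelude.Def_EtCore
import Groth.Agent.H4.ConstQZ
import Groth.Agent.H4.GeomPoints
import Groth.Agent.H4.EtaleRes
import Groth.Agent.H4.SiteBasics

/-!
# `H¹(X, f_* F)` injects into `H¹(Y, F)`; `H¹(Spec k, M) = 0` for torsion-free `M`
(helper4 library)

* `ext_one_eq_zero_of_adj`: for an adjunction `L ⊣ R` with `R` preserving injectives,
  `Ext¹(L Z, F) = 0` implies `Ext¹(Z, R F) = 0` (injectivity of the Leray edge map in degree one).
* `exists_eq_etaU`: global sections of a constant sheaf on a one-point scheme are constant.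
* `H1_const_eq_zero`: `H¹(Spec k, M) = 0` for a torsion-free abelian group `M`.
-/

set_option autoImplicit false
open CategoryTheory CategoryTheory.Limits AlgebraicGeometry Opposite CategoryTheory.Abelian
universe u

namespace Groth.Agent.H4.SkyH1

open Groth.Agent.H4

section Abstract

universe v₁ v₂ u₁ u₂ w₁ w₂

variable {𝒜 : Type u₁} [Category.{v₁} 𝒜] [Abelian 𝒜] [HasExt.{w₁} 𝒜]
  {ℬ : Type u₂} [Category.{v₂} ℬ] [Abelian ℬ] [HasExt.{w₂} ℬ] [EnoughInjectives ℬ]
  {L : 𝒜 ⥤ ℬ} {R : ℬ ⥤ 𝒜} (adj : L ⊣ R) [R.Additive] [PreservesFiniteLimits R]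

include adj in
theorem ext_one_eq_zero_of_adj (hR : ∀ I : ℬ, Injective I → Injective (R.obj I)) (Z : 𝒜) (F : ℬ)
    (h : ∀ y : Ext.{w₂} (L.obj Z) F 1, y = 0) (x : Ext.{w₁} Z (R.obj F) 1) : x = 0 := by
  let C : ShortComplex ℬ :=
    ShortComplex.mk (Injective.ι F) (cokernel.π (Injective.ι F)) (cokernel.condition _)
  have hC : C.ShortExact :=
    { exact := ShortComplex.exact_cokernel _
      mono_f := inferInstanceAs (Mono (Injective.ι F))
      epi_g := inferInstanceAs (Epi (cokernel.π (Injective.ι F))) }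
  haveI hI : Injective C.X₂ := inferInstanceAs (Injective (Injective.under F))
  have h30 := (Functor.preservesFiniteLimits_tfae R).out 3 0
  obtain ⟨hex, hmono⟩ := h30.1 inferInstance C hC
  haveI := hmono
  let C' : ShortComplex 𝒜 :=
    ShortComplex.mk (R.map C.f) (cokernel.π (R.map C.f)) (cokernel.condition _)
  have hC' : C'.ShortExact :=
    { exact := ShortComplex.exact_cokernel _
      mono_f := hmono
      epi_g := inferInstanceAs (Epi (cokernel.π (R.map C.f))) }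
  haveI hRI : Injective C'.X₂ := hR C.X₂ hI
  let ιK : cokernel (R.map C.f) ⟶ R.obj C.X₃ :=
    cokernel.desc (R.map C.f) (R.map C.g) (by rw [← R.map_comp, C.zero, R.map_zero])
  haveI hιK : Mono ιK := (ShortComplex.exact_iff_mono_cokernel_desc (C.map R)).1 hex
  have hx' : x.comp (Ext.mk₀ C'.f) (add_zero 1) = 0 := Ext.eq_zero_of_injective _
  obtain ⟨x₀, hx₀⟩ := Ext.covariant_sequence_exact₁ Z hC' x hx' (zero_add 1)
  obtain ⟨q', rfl⟩ := (Ext.mk₀_bijective _ _).2 x₀
  let qt : L.obj Z ⟶ C.X₃ := (adj.homEquiv Z C.X₃).symm (q' ≫ ιK)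
  have h1 : (Ext.mk₀ qt).comp hC.extClass (zero_add 1) = 0 := h _
  obtain ⟨y, hy⟩ := Ext.covariant_sequence_exact₃ (L.obj Z) hC (Ext.mk₀ qt) (zero_add 1) h1
  obtain ⟨pt, rfl⟩ := (Ext.mk₀_bijective _ _).2 y
  have hpt : pt ≫ C.g = qt :=
    (Ext.mk₀_bijective _ _).1 ((Ext.mk₀_comp_mk₀ pt C.g).symm.trans hy)
  let p' : Z ⟶ R.obj C.X₂ := adj.homEquiv Z C.X₂ pt
  have hp1 : p' ≫ R.map C.g = q' ≫ ιK := by
    rw [← Adjunction.homEquiv_naturality_right, hpt]
    exact Equiv.apply_symm_apply _ _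
  have hp2 : p' ≫ cokernel.π (R.map C.f) = q' := by
    apply (cancel_mono ιK).1
    rw [Category.assoc, cokernel.π_desc]
    exact hp1
  have h0 : (Ext.mk₀ C'.g).comp hC'.extClass (zero_add 1) = 0 := hC'.comp_extClass
  have e2 : (Ext.mk₀ (p' ≫ C'.g)).comp hC'.extClass (zero_add 1) = 0 := by
    rw [← Ext.mk₀_comp_mk₀_assoc]
    exact (congrArg (fun z => (Ext.mk₀ p').comp z (zero_add 1)) h0).trans
      (Ext.comp_zero _ _ _ _ _)
  have e3 : (Ext.mk₀ q').comp hC'.extClass (zero_add 1) = 0 := by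
    rw [← hp2]
    exact e2
  exact hx₀.symm.trans e3

end Abstract

section ConstSections

variable {Y : Scheme.{u}}

/-- The canonical map `N ⟶ (const N)(U)`. -/
noncomputable def etaU (N : AddCommGrpCat.{u + 1}) (U : Y.Etale) :
    N ⟶ ((constantSheaf Y.smallEtaleTopology AddCommGrpCat.{u + 1}).obj N).obj.obj (op U) :=
  (toSheafify Y.smallEtaleTopology ((Functor.const (Y.Etale)ᵒᵖ).obj N)).app (op U)

theorem etaU_map (N : AddCommGrpCat.{u + 1}) {U U' : Y.Etale} (g : U' ⟶ U) :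
    etaU N U ≫ ((constantSheaf Y.smallEtaleTopology AddCommGrpCat.{u + 1}).obj N).obj.map g.op =
      etaU N U' := by
  have h := (toSheafify Y.smallEtaleTopology ((Functor.const (Y.Etale)ᵒᵖ).obj N)).naturality g.op
  exact h.symm.trans (Category.id_comp _)

theorem etaU_nat {N N' : AddCommGrpCat.{u + 1}} (φ : N ⟶ N') (U : Y.Etale) :
    etaU N U ≫ ((constantSheaf Y.smallEtaleTopology AddCommGrpCat.{u + 1}).map φ).hom.app (op U) =
      φ ≫ etaU N' U := by
  have h := toSheafify_naturality Y.smallEtaleTopology ((Functor.const (Y.Etale)ᵒᵖ).map φ)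
  exact (congrArg (fun α => α.app (op U)) h).symm

theorem exists_eq_etaU (y₀ : Y) (hY : ∀ y : Y, y = y₀) (N : AddCommGrpCat.{u + 1})
    (t : ToType (((constantSheaf Y.smallEtaleTopology AddCommGrpCat.{u + 1}).obj N).obj.obj
      (op (EtCoh.top Y)))) :
    ∃ n : ToType N, t = (etaU N (EtCoh.top Y)).hom n := by
  have hmem := Presheaf.imageSieve_mem Y.smallEtaleTopology
    (toSheafify Y.smallEtaleTopology ((Functor.const (Y.Etale)ᵒᵖ).obj N)) t
  obtain ⟨V, k, v, ⟨n, hn⟩, hv⟩ := exists_of_mem_smallEtaleTopology _ _ hmem y₀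
  refine ⟨n, ?_⟩
  apply eq_of_locally_eq ((constantSheaf Y.smallEtaleTopology AddCommGrpCat.{u + 1}).obj N)
    (EtCoh.top Y)
  intro b
  refine ⟨V, k, v, (hY _).trans (hY b).symm, ?_⟩
  have h2 := etaU_map N k
  have h3 := congrArg (fun f => f.hom n) h2
  exact hn.symm.trans h3.symm

theorem lift_const (y₀ : Y) (hY : ∀ y : Y, y = y₀) {M₁ M₂ : AddCommGrpCat.{u + 1}}
    (φ : M₁ ⟶ M₂) [Epi φ]
    (s : EtCoh.const Y ℤ ⟶ (constantSheaf Y.smallEtaleTopology AddCommGrpCat.{u + 1}).obj M₂) :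
    ∃ p : EtCoh.const Y ℤ ⟶ (constantSheaf Y.smallEtaleTopology AddCommGrpCat.{u + 1}).obj M₁,
      p ≫ (constantSheaf Y.smallEtaleTopology AddCommGrpCat.{u + 1}).map φ = s := by
  obtain ⟨n₂, hn₂⟩ := exists_eq_etaU y₀ hY M₂
    (((EtCore.constAdj Y).unit.app MV.ZZ ≫ s.hom.app (op (EtCoh.top Y))).hom ⟨1⟩)
  obtain ⟨n₁, hn₁⟩ := (AddCommGrpCat.epi_iff_surjective φ).1 inferInstance n₂
  obtain ⟨p, hp⟩ := (MV.isRep_const Y
    ((constantSheaf Y.smallEtaleTopology AddCommGrpCat.{u + 1}).obj M₁)).2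
    (Tr.fromZZ ((etaU M₁ (EtCoh.top Y)).hom n₁))
  have hp' : (EtCore.constAdj Y).unit.app MV.ZZ ≫ p.hom.app (op (EtCoh.top Y)) =
      Tr.fromZZ ((etaU M₁ (EtCoh.top Y)).hom n₁) := hp
  refine ⟨p, ?_⟩
  apply (MV.isRep_const Y ((constantSheaf Y.smallEtaleTopology AddCommGrpCat.{u + 1}).obj M₂)).1
  show (EtCore.constAdj Y).unit.app MV.ZZ ≫
      (p ≫ (constantSheaf Y.smallEtaleTopology AddCommGrpCat.{u + 1}).map φ).hom.app
        (op (EtCoh.top Y)) =
    (EtCore.constAdj Y).unit.app MV.ZZ ≫ s.hom.app (op (EtCoh.top Y))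
  rw [ObjectProperty.FullSubcategory.comp_hom, NatTrans.comp_app, ← Category.assoc, hp']
  apply Tr.ZZ_hom_ext
  show (((constantSheaf Y.smallEtaleTopology AddCommGrpCat.{u + 1}).map φ).hom.app
    (op (EtCoh.top Y))).hom ((Tr.fromZZ ((etaU M₁ (EtCoh.top Y)).hom n₁)).hom ⟨1⟩) = _
  rw [Tr.fromZZ_one]
  have h4 := congrArg (fun f => f.hom n₁) (etaU_nat φ (EtCoh.top Y))
  exact h4.trans ((congrArg (fun z => (etaU M₂ (EtCoh.top Y)).hom z) hn₁).trans hn₂.symm)

end ConstSections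

section Field

theorem H1_const_eq_zero (k : Type u) [Field k] (M : Type) [AddCommGroup M] [IsAddTorsionFree M]
    (ξ : EtCoh.H (Spec (CommRingCat.of k)) (EtCoh.const (Spec (CommRingCat.of k)) M) 1) :
    ξ = 0 := by
  obtain ⟨n, hn, hξ⟩ := isOfFinAddOrder_iff_nsmul_eq_zero.1
    (Tr.isOfFinAddOrder_H_field k _ 1 Nat.one_pos ξ)
  let M' : AddCommGrpCat.{u + 1} := AddCommGrpCat.of (ULift.{u + 1} M)
  have hmono : Mono (n • 𝟙 M') := by
    apply (AddCommGrpCat.mono_iff_injective _).2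
    intro a b hab
    have key : ∀ x : ULift.{u + 1} M, (n • 𝟙 M').hom x = n • x := fun x => by simp
    have h1 : n • a = n • b := (key a).symm.trans (hab.trans (key b))
    have h2 : n • a.down = n • b.down := congrArg ULift.down h1
    exact ULift.ext _ _ (nsmul_right_injective hn.ne' h2)
  let S₀ : ShortComplex AddCommGrpCat.{u + 1} :=
    ShortComplex.mk (n • 𝟙 M') (cokernel.π (n • 𝟙 M')) (cokernel.condition _)
  have hS₀ : S₀.ShortExact :=
    { exact := ShortComplex.exact_cokernel _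
      mono_f := hmono
      epi_g := inferInstanceAs (Epi (cokernel.π (n • 𝟙 M'))) }
  have hS := hS₀.map_of_exact
    (constantSheaf (Spec (CommRingCat.of k)).smallEtaleTopology AddCommGrpCat.{u + 1})
  have hf : (S₀.map
      (constantSheaf (Spec (CommRingCat.of k)).smallEtaleTopology AddCommGrpCat.{u + 1})).f =
      n • 𝟙 (EtCoh.const (Spec (CommRingCat.of k)) M) := by
    show (constantSheaf (Spec (CommRingCat.of k)).smallEtaleTopology
      AddCommGrpCat.{u + 1}).map (n • 𝟙 M') = _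
    rw [Functor.map_nsmul, CategoryTheory.Functor.map_id]
  have h1 : ξ.comp (Ext.mk₀ (S₀.map
      (constantSheaf (Spec (CommRingCat.of k)).smallEtaleTopology AddCommGrpCat.{u + 1})).f)
      (add_zero 1) = 0 :=
    (congrArg (fun g => ξ.comp (Ext.mk₀ g) (add_zero 1)) hf).trans
      ((Tr.comp_mk₀_nsmul_id ξ n).trans hξ)
  obtain ⟨x₀, hx₀⟩ := Ext.covariant_sequence_exact₁ _ hS ξ h1 (zero_add 1)
  obtain ⟨s, rfl⟩ := (Ext.mk₀_bijective _ _).2 x₀
  obtain ⟨p, hp⟩ := lift_const (Y := Spec (CommRingCat.of k)) default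
    (fun y => Subsingleton.elim _ _) (cokernel.π (n • 𝟙 M')) s
  have h0 : (Ext.mk₀ (S₀.map
      (constantSheaf (Spec (CommRingCat.of k)).smallEtaleTopology AddCommGrpCat.{u + 1})).g).comp
      hS.extClass (zero_add 1) = 0 := hS.comp_extClass
  have e2 : (Ext.mk₀ (p ≫ (S₀.map
      (constantSheaf (Spec (CommRingCat.of k)).smallEtaleTopology AddCommGrpCat.{u + 1})).g)).comp
      hS.extClass (zero_add 1) = 0 := by
    rw [← Ext.mk₀_comp_mk₀_assoc]
    exact (congrArg (fun z => (Ext.mk₀ p).comp z (zero_add 1)) h0).trans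
      (Ext.comp_zero _ _ _ _ _)
  have e3 : (Ext.mk₀ s).comp hS.extClass (zero_add 1) = 0 := by
    rw [← hp]
    exact e2
  exact hx₀.symm.trans e3

end Field

end Groth.Agent.H4.SkyH1
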