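import Mathlib
import Groth.Prelude.Def_EtCore
import Groth.Agent.H4.SkyH1
import Groth.Agent.H4.GeomPoints
import Groth.Agent.H4.SiteBasics

/-!
# Subsheaves of constant sheaves on an irreducible scheme (helper4 library)

* `exists_lift_of_germ`: a section whose germ at a geometric point lies in the image of a stalk
  map lifts on an étale neighbourhood of that point.
* `exists_const_nbhd`: sections of a constant sheaf are étale locally constant.
* `etaU_injective`: constants inject into the sections of a constant sheaf over a nonempty object.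
* `isIso_of_generic_stalk`: on an irreducible scheme, `const N' ↪ G ↪ const N` with the first map
  an isomorphism on the generic geometric stalk is an isomorphism.
-/

set_option autoImplicit false
open CategoryTheory CategoryTheory.Limits AlgebraicGeometry Opposite
universe u w' v' u'

namespace Groth.Agent.H4.GenStalk

open Groth.Agent.H4 Groth.Agent.H4.SkyH1

section Germ

variable {A : Type u'} [Category.{v'} A] [HasColimitsOfSize.{u, u} A]
  {FC : A → A → Type*} {CC : A → Type w'} [∀ X Y, FunLike (FC X Y) (CC X) (CC Y)]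
  [ConcreteCategory.{w'} A FC] [PreservesFilteredColimitsOfSize.{u, u} (forget A)]

theorem exists_lift_of_germ {X : Scheme.{u}} {P Q : X.Etaleᵒᵖ ⥤ A} (f : P ⟶ Q)
    {Ω : Type u} [Field Ω] [IsSepClosed Ω] (ξ : Spec (CommRingCat.of Ω) ⟶ X)
    (hsurj : Function.Surjective ((Scheme.pointSmallEtale ξ).presheafFiber.map f))
    (U : X.Etale) (t : (Scheme.pointSmallEtale ξ).fiber.obj U) (s : ToType (Q.obj (op U))) :
    ∃ (W : X.Etale) (c : W ⟶ U) (_ : (Scheme.pointSmallEtale ξ).fiber.obj W)
      (z : ToType (P.obj (op W))), f.app (op W) z = Q.map c.op s := by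
  obtain ⟨p, hp⟩ := hsurj ((Scheme.pointSmallEtale ξ).toPresheafFiber U t Q s)
  obtain ⟨V, v, z, rfl⟩ := (Scheme.pointSmallEtale ξ).toPresheafFiber_jointly_surjective p
  rw [GrothendieckTopology.Point.toPresheafFiber_naturality_apply] at hp
  let e1 : (Scheme.pointSmallEtale ξ).fiber.Elements := ⟨V, v⟩
  let e2 : (Scheme.pointSmallEtale ξ).fiber.Elements := ⟨U, t⟩
  let m := IsCofiltered.min e1 e2
  let a : m ⟶ e1 := IsCofiltered.minToLeft e1 e2
  let b : m ⟶ e2 := IsCofiltered.minToRight e1 e2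
  have ha : (Scheme.pointSmallEtale ξ).fiber.map a.1 m.2 = v := a.2
  have hb : (Scheme.pointSmallEtale ξ).fiber.map b.1 m.2 = t := b.2
  have h1 : (Scheme.pointSmallEtale ξ).toPresheafFiber m.1 m.2 Q (Q.map a.1.op (f.app _ z)) =
      (Scheme.pointSmallEtale ξ).toPresheafFiber m.1 m.2 Q (Q.map b.1.op s) := by
    rw [GrothendieckTopology.Point.toPresheafFiber_w_apply,
      GrothendieckTopology.Point.toPresheafFiber_w_apply, ha, hb]
    exact hp
  obtain ⟨W', c, w', -, hc⟩ :=
    ((Scheme.pointSmallEtale ξ).toPresheafFiber_eq_iff' m.1 m.2 _ _).1 h1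
  refine ⟨W', c ≫ b.1, w', P.map (c ≫ a.1).op z, ?_⟩
  rw [NatTrans.naturality_apply, op_comp, Q.map_comp, op_comp, Q.map_comp,
    ConcreteCategory.comp_apply, ConcreteCategory.comp_apply]
  exact hc

end Germ

variable {X : Scheme.{u}}

/-- The constant sheaf with value `N`. -/
noncomputable abbrev cs (N : AddCommGrpCat.{u + 1}) : EtCoh.Ab X :=
  (constantSheaf X.smallEtaleTopology AddCommGrpCat.{u + 1}).obj N

theorem exists_const_nbhd (N : AddCommGrpCat.{u + 1}) (U : X.Etale)
    (t : ToType ((cs (X := X) N).obj.obj (op U))) (u₀ : U.left) :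
    ∃ (V : X.Etale) (g : V ⟶ U) (v : V.left) (n : ToType N), g.left.base v = u₀ ∧
      ((cs (X := X) N).obj.map g.op).hom t = (etaU N V).hom n := by
  have hmem := Presheaf.imageSieve_mem X.smallEtaleTopology
    (toSheafify X.smallEtaleTopology ((Functor.const (X.Etale)ᵒᵖ).obj N)) t
  obtain ⟨V, k, v, ⟨n, hn⟩, hv⟩ := exists_of_mem_smallEtaleTopology _ _ hmem u₀
  exact ⟨V, k, v, n, hv, hn.symm⟩

theorem etaU_injective (N : AddCommGrpCat.{u + 1}) (U : X.Etale) (u₀ : U.left) :
    Function.Injective (etaU (Y := X) N U).hom := by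
  intro n₁ n₂ h
  have hmem := Presheaf.equalizerSieve_mem X.smallEtaleTopology
    (toSheafify X.smallEtaleTopology ((Functor.const (X.Etale)ᵒᵖ).obj N)) (X := op U) n₁ n₂ h
  obtain ⟨V, g, v, hg, -⟩ := exists_of_mem_smallEtaleTopology _ _ hmem u₀
  exact hg

theorem map_comp_apply (F : X.Etaleᵒᵖ ⥤ AddCommGrpCat.{u + 1}) {U U₁ W : X.Etale}
    (g₁ : U₁ ⟶ U) (c : W ⟶ U₁) (s : ToType (F.obj (op U))) :
    (F.map c.op).hom ((F.map g₁.op).hom s) = (F.map (c ≫ g₁).op).hom s := by
  have h : F.map (c ≫ g₁).op = F.map g₁.op ≫ F.map c.op := by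
    rw [op_comp, F.map_comp]
  exact (congrArg (fun f => f.hom s) h).symm

theorem isIso_of_generic_stalk [IrreducibleSpace ↥X]
    {Ω : Type u} [Field Ω] [IsSepClosed Ω] (ξ : Spec (CommRingCat.of Ω) ⟶ X)
    (hξ : ξ.base default = genericPoint ↥X)
    {N' N : AddCommGrpCat.{u + 1}} (ι : N' ⟶ N) (G : EtCoh.Ab X)
    (a : cs N' ⟶ G) (b : G ⟶ cs N) [Mono a] [Mono b]
    (hab : a ≫ b = (constantSheaf X.smallEtaleTopology AddCommGrpCat.{u + 1}).map ι)
    (hst : IsIso ((EtCoh.stalk ξ).map a)) : IsIso a := by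
  have hsurj : Function.Surjective ((Scheme.pointSmallEtale ξ).presheafFiber.map a.hom) := by
    haveI : IsIso ((Scheme.pointSmallEtale ξ).presheafFiber.map a.hom) := hst
    exact (AddCommGrpCat.epi_iff_surjective _).1 inferInstance
  have habV : ∀ V : X.Etale, a.hom.app (op V) ≫ b.hom.app (op V) =
      ((constantSheaf X.smallEtaleTopology AddCommGrpCat.{u + 1}).map ι).hom.app (op V) :=
    fun V => congrArg (fun t : cs N' ⟶ cs N => t.hom.app (op V)) hab
  have hbinj : ∀ V : X.Etale, Function.Injective (b.hom.app (op V)).hom := by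
    intro V
    let E : EtCoh.Ab X ⥤ AddCommGrpCat.{u + 1} :=
      sheafToPresheaf X.smallEtaleTopology AddCommGrpCat.{u + 1} ⋙ (evaluation _ _).obj (op V)
    haveI : Mono (E.map b) := inferInstance
    exact (AddCommGrpCat.mono_iff_injective (E.map b)).1 inferInstance
  -- `b (a (const n')) = const (ι n')`
  have e1 : ∀ (V : X.Etale) (n' : ToType N'), (etaU N V).hom (ι.hom n') =
      (b.hom.app (op V)).hom ((a.hom.app (op V)).hom ((etaU N' V).hom n')) := by
    intro V n'
    have h := congrArg (fun f => f.hom n') (etaU_nat ι V)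
    have h' := congrArg (fun f => f.hom ((etaU N' V).hom n')) (habV V)
    exact h.symm.trans h'.symm
  haveI : Sheaf.IsLocallySurjective a := by
    constructor
    intro U s
    apply mem_smallEtaleTopology_of_forall
    intro u₀
    obtain ⟨U₁, g₁, u₁, n, hu₁, hn⟩ := exists_const_nbhd N U ((b.hom.app (op U)).hom s) u₀
    have hopen : IsOpen (Set.range U₁.hom.base) := U₁.hom.isOpenMap.isOpen_range
    have hgen : genericPoint ↥X ∈ Set.range U₁.hom.base := by
      rw [(genericPoint_spec ↥X).mem_open_set_iff hopen]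
      exact ⟨U₁.hom.base u₁, trivial, ⟨u₁, rfl⟩⟩
    obtain ⟨uη, huη⟩ := hgen
    obtain ⟨l, hl1, -⟩ :=
      Scheme.exists_fac_of_etale_of_isSepClosed U₁.hom ξ uη (huη.trans hξ.symm)
    let τ' : (Over.mk ξ : Over X) ⟶ (Scheme.Etale.forget X).obj U₁ := Over.homMk l hl1
    let s₁ : ToType (G.obj.obj (op U₁)) := (G.obj.map g₁.op).hom s
    -- `b s₁ = const n`
    have hbs₁ : (b.hom.app (op U₁)).hom s₁ = (etaU N U₁).hom n := by
      have h := congrArg (fun f => f.hom s) (b.hom.naturality g₁.op)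
      exact h.trans hn
    obtain ⟨W, c, w, z, hz⟩ := exists_lift_of_germ a.hom ξ hsurj U₁ τ' s₁
    obtain ⟨W₂, g₂, w₂, n', -, hn'⟩ := exists_const_nbhd N' W z (w.left.base (default : Spec (CommRingCat.of Ω)))
    have hιn : ι.hom n' = n := by
      apply etaU_injective N W₂ w₂
      rw [e1 W₂ n']
      -- `a (const n') = s₁ |_{W₂}`
      have e2 : (a.hom.app (op W₂)).hom ((etaU N' W₂).hom n') =
          (G.obj.map (g₂ ≫ c).op).hom s₁ := by
        rw [← hn']
        have h := congrArg (fun f => f.hom z) (a.hom.naturality g₂.op)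
        refine h.trans ?_
        have hz' : (a.hom.app (op W)).hom z = (G.obj.map c.op).hom s₁ := hz
        show (G.obj.map g₂.op).hom ((a.hom.app (op W)).hom z) = _
        rw [hz']
        exact map_comp_apply G.obj c g₂ s₁
      rw [e2]
      have h := congrArg (fun f => f.hom s₁) (b.hom.naturality (g₂ ≫ c).op)
      refine h.trans ?_
      show ((cs N).obj.map (g₂ ≫ c).op).hom ((b.hom.app (op U₁)).hom s₁) = _
      rw [hbs₁]
      exact congrArg (fun f => f.hom n) (etaU_map N (g₂ ≫ c))
    refine ⟨U₁, g₁, u₁, ⟨(etaU N' U₁).hom n', ?_⟩, hu₁⟩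
    apply hbinj U₁
    show (b.hom.app (op U₁)).hom ((a.hom.app (op U₁)).hom ((etaU N' U₁).hom n')) =
      (b.hom.app (op U₁)).hom s₁
    rw [← e1 U₁ n', hιn, hbs₁]
  haveI : Epi a := Sheaf.epi_of_isLocallySurjective a
  exact isIso_of_mono_of_epi a

end Groth.Agent.H4.GenStalk
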