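import Mathlib
import Groth.Prelude.Def_EtCore
import Groth.Agent.H4.SkyH1
import Groth.Agent.H4.GenStalk
import Groth.Agent.H4.EtaleRes
import Groth.Agent.H4.SiteBasics
import Groth.Agent.H4.GeomPoints

/-!
# Restriction of sheaves to `Over W` and constant sheaves (helper4 library)

* `resHom g θ`, `resIso g e`: restriction of morphisms/isomorphisms `P.over W ⟶ Q.over W` along
  `g : W' ⟶ W`.
* `constOverIso W M`: the constant sheaf on `Over W` is the restriction of the constant sheaf.
* `exists_common_nbhd`: finitely many sections of a constant sheaf are simultaneously constant on an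
  étale neighbourhood of a given point.
* `LCmap`: a morphism between restrictions of constant sheaves (finite source) is étale locally induced
  by a group homomorphism.
* `prodEt`, `prodFst`, `prodSnd`: explicit binary products in `X.Etale`.
-/

set_option autoImplicit false
open CategoryTheory CategoryTheory.Limits AlgebraicGeometry Opposite
universe u v' u'

namespace Groth.Agent.H4.OverConst

open Groth.Agent.H4 Groth.Agent.H4.SkyH1 Groth.Agent.H4.GenStalk

variable {X : Scheme.{u}}

section Res

variable {A : Type u'} [Category.{v'} A]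

/-- Restriction of a morphism between restricted sheaves along `g : W' ⟶ W`. -/
def resHom {P Q : Sheaf X.smallEtaleTopology A} {W W' : X.Etale} (g : W' ⟶ W)
    (θ : P.over W ⟶ Q.over W) : P.over W' ⟶ Q.over W' :=
  ObjectProperty.homMk (Functor.whiskerLeft (Over.map g).op θ.hom)

theorem resHom_app {P Q : Sheaf X.smallEtaleTopology A} {W W' : X.Etale} (g : W' ⟶ W)
    (θ : P.over W ⟶ Q.over W) (T : Over W') :
    (resHom g θ).hom.app (op T) = θ.hom.app (op ((Over.map g).obj T)) := rfl

theorem resHom_comp {P Q R : Sheaf X.smallEtaleTopology A} {W W' : X.Etale} (g : W' ⟶ W)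
    (θ : P.over W ⟶ Q.over W) (θ' : Q.over W ⟶ R.over W) :
    resHom g (θ ≫ θ') = resHom g θ ≫ resHom g θ' := by
  apply Sheaf.hom_ext
  rfl

theorem resHom_id {P : Sheaf X.smallEtaleTopology A} {W W' : X.Etale} (g : W' ⟶ W) :
    resHom g (𝟙 (P.over W)) = 𝟙 (P.over W') := by
  apply Sheaf.hom_ext
  rfl

/-- Restriction of an isomorphism between restricted sheaves along `g : W' ⟶ W`. -/
def resIso {P Q : Sheaf X.smallEtaleTopology A} {W W' : X.Etale} (g : W' ⟶ W)
    (e : P.over W ≅ Q.over W) : P.over W' ≅ Q.over W' where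
  hom := resHom g e.hom
  inv := resHom g e.inv
  hom_inv_id := by rw [← resHom_comp, e.hom_inv_id, resHom_id]
  inv_hom_id := by rw [← resHom_comp, e.inv_hom_id, resHom_id]

theorem resHom_overPullback_map {P Q : Sheaf X.smallEtaleTopology A} {W W' : X.Etale} (g : W' ⟶ W)
    (φ : P ⟶ Q) :
    resHom g ((X.smallEtaleTopology.overPullback A W).map φ) =
      (X.smallEtaleTopology.overPullback A W').map φ := by
  apply Sheaf.hom_ext
  rfl

end Res

section Prod

/-- An explicit binary product in `X.Etale`. -/
noncomputable def prodEt (U V : X.Etale) : X.Etale :=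
  Scheme.Etale.mk (pullback.fst U.hom V.hom ≫ U.hom)

noncomputable def prodFst (U V : X.Etale) : prodEt U V ⟶ U :=
  MorphismProperty.Over.homMk (pullback.fst U.hom V.hom) rfl trivial

noncomputable def prodSnd (U V : X.Etale) : prodEt U V ⟶ V :=
  MorphismProperty.Over.homMk (pullback.snd U.hom V.hom) pullback.condition.symm trivial

theorem exists_prod_point (U V : X.Etale) (y : U.left) (z : V.left)
    (h : U.hom.base y = V.hom.base z) :
    ∃ w : (prodEt U V).left, (prodEt U V).hom.base w = U.hom.base y := by
  obtain ⟨w, hw1, -⟩ := Scheme.Pullback.exists_preimage_pullback (f := U.hom) (g := V.hom) y z h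
  refine ⟨w, ?_⟩
  show (pullback.fst U.hom V.hom ≫ U.hom).base w = _
  rw [Scheme.Hom.comp_apply, hw1]

end Prod

section Const

/-- The constant sheaf on `Over W` is the restriction of the constant sheaf. -/
noncomputable def constOverIso (W : X.Etale) (M : AddCommGrpCat.{u + 1}) :
    (constantSheaf (X.smallEtaleTopology.over W) AddCommGrpCat.{u + 1}).obj M ≅
      (cs (X := X) M).over W :=
  ((Over.forget W).pushforwardContinuousSheafificationCompatibility AddCommGrpCat.{u + 1}
    (X.smallEtaleTopology.over W) X.smallEtaleTopology).app ((Functor.const _).obj M)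

theorem constOverIso_naturality (W : X.Etale) {M N : AddCommGrpCat.{u + 1}} (h : M ⟶ N) :
    (constantSheaf (X.smallEtaleTopology.over W) AddCommGrpCat.{u + 1}).map h ≫
        (constOverIso W N).hom =
      (constOverIso W M).hom ≫ (X.smallEtaleTopology.overPullback AddCommGrpCat.{u + 1} W).map
        ((constantSheaf X.smallEtaleTopology AddCommGrpCat.{u + 1}).map h) :=
  ((Over.forget W).pushforwardContinuousSheafificationCompatibility AddCommGrpCat.{u + 1}
    (X.smallEtaleTopology.over W) X.smallEtaleTopology).hom.naturality ((Functor.const _).map h)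

theorem constOverIso_inv_naturality (W : X.Etale) {M N : AddCommGrpCat.{u + 1}} (h : M ⟶ N) :
    (constOverIso W M).inv ≫
        (constantSheaf (X.smallEtaleTopology.over W) AddCommGrpCat.{u + 1}).map h =
      (X.smallEtaleTopology.overPullback AddCommGrpCat.{u + 1} W).map
        ((constantSheaf X.smallEtaleTopology AddCommGrpCat.{u + 1}).map h) ≫
          (constOverIso W N).inv := by
  rw [Iso.inv_comp_eq, ← Category.assoc, Iso.eq_comp_inv]
  exact constOverIso_naturality W h

theorem exists_common_nbhd {M : Type*} [Finite M] (N : AddCommGrpCat.{u + 1}) (W : X.Etale)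
    (w : W.left) (t : M → ToType ((cs (X := X) N).obj.obj (op W))) :
    ∃ (W' : X.Etale) (g : W' ⟶ W) (w' : W'.left) (n : M → ToType N), g.left.base w' = w ∧
      ∀ m, ((cs (X := X) N).obj.map g.op).hom (t m) = (etaU N W').hom (n m) := by
  classical
  cases nonempty_fintype M
  have key : ∀ s : Finset M, ∃ (W' : X.Etale) (g : W' ⟶ W) (w' : W'.left),
      g.left.base w' = w ∧ ∀ m ∈ s, ∃ n : ToType N,
        ((cs (X := X) N).obj.map g.op).hom (t m) = (etaU N W').hom n := by
    intro s
    induction s using Finset.induction_on with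
    | empty => exact ⟨W, 𝟙 W, w, rfl, fun m hm => absurd hm (Finset.notMem_empty m)⟩
    | insert a s ha ih =>
      obtain ⟨W', g, w', hw', hs⟩ := ih
      obtain ⟨V, k, v, n, hv, hn⟩ :=
        exists_const_nbhd N W' (((cs (X := X) N).obj.map g.op).hom (t a)) w'
      refine ⟨V, k ≫ g, v, ?_, ?_⟩
      · show (k.left ≫ g.left).base v = w
        rw [Scheme.Hom.comp_apply, hv, hw']
      · intro m hm
        rcases Finset.mem_insert.1 hm with rfl | hm
        · exact ⟨n, (map_comp_apply _ g k (t m)).symm.trans hn⟩
        · obtain ⟨n', hn'⟩ := hs m hm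
          refine ⟨n', (map_comp_apply _ g k (t m)).symm.trans ?_⟩
          rw [hn']
          exact congrArg (fun f => f.hom n') (etaU_map N k)
  obtain ⟨W', g, w', hw', hs⟩ := key Finset.univ
  choose n hn using fun m => hs m (Finset.mem_univ m)
  exact ⟨W', g, w', n, hw', hn⟩

/-- A morphism between restrictions of constant sheaves, with finite source, is étale locally induced by
a homomorphism of groups. -/
theorem LCmap (M N : Type (u + 1)) [AddCommGroup M] [AddCommGroup N] [Finite M] (W : X.Etale)
    (w : W.left)
    (ψ : (cs (X := X) (AddCommGrpCat.of M)).over W ⟶ (cs (X := X) (AddCommGrpCat.of N)).over W) :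
    ∃ (W' : X.Etale) (g : W' ⟶ W) (w' : W'.left) (h : M →+ N), g.left.base w' = w ∧
      resHom g ψ = (X.smallEtaleTopology.overPullback AddCommGrpCat.{u + 1} W').map
        ((constantSheaf X.smallEtaleTopology AddCommGrpCat.{u + 1}).map (AddCommGrpCat.ofHom h)) := by
  let MM : AddCommGrpCat.{u + 1} := AddCommGrpCat.of M
  let NN : AddCommGrpCat.{u + 1} := AddCommGrpCat.of N
  let ψ₀ : (cs (X := X) MM).obj.obj (op W) ⟶ (cs (X := X) NN).obj.obj (op W) :=
    ψ.hom.app (op (Over.mk (𝟙 W)))
  let t : M → ToType ((cs (X := X) NN).obj.obj (op W)) := fun m => ψ₀.hom ((etaU MM W).hom m)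
  obtain ⟨W', g, w', n, hw', hn⟩ := exists_common_nbhd NN W w t
  -- naturality of `ψ` against constants
  have hnat : ∀ (V : X.Etale) (k : V ⟶ W) (m : M),
      (ψ.hom.app (op (Over.mk k))).hom ((etaU MM V).hom m) =
        ((cs (X := X) NN).obj.map k.op).hom (t m) := by
    intro V k m
    have h1 := ψ.hom.naturality
      (Over.homMk k (Category.comp_id k) : Over.mk k ⟶ Over.mk (𝟙 W)).op
    have h2 := congrArg (fun f => f.hom ((etaU MM W).hom m)) h1
    have h3 := congrArg (fun f => f.hom m) (etaU_map MM k)
    exact (congrArg (fun z => (ψ.hom.app (op (Over.mk k))).hom z) h3).symm.trans h2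
  have hinj := etaU_injective NN W' w'
  let Φ : M →+ ToType ((cs (X := X) NN).obj.obj (op W')) :=
    ((ψ.hom.app (op (Over.mk g))).hom).comp (etaU MM W').hom
  have hg_t : ∀ m, (etaU NN W').hom (n m) = Φ m :=
    fun m => (hn m).symm.trans (hnat W' g m).symm
  let h : M →+ N := AddMonoidHom.mk' n (fun a b => by
    apply hinj
    rw [(etaU NN W').hom.map_add, hg_t, hg_t, hg_t, Φ.map_add])
  refine ⟨W', g, w', h, hw', ?_⟩
  apply Sheaf.hom_ext
  ext T : 2
  induction T using Opposite.rec with
  | _ T =>
    apply AddCommGrpCat.hom_ext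
    ext s
    apply eq_of_locally_eq (cs (X := X) NN) T.left
    intro b
    obtain ⟨V, k, v, m, hv, hm⟩ := exists_const_nbhd MM T.left s b
    refine ⟨V, k, v, hv, ?_⟩
    -- left hand side
    have hL1 := ψ.hom.naturality
      (Over.homMk k rfl : Over.mk ((k ≫ T.hom) ≫ g) ⟶ (Over.map g).obj T).op
    have hL2 := congrArg (fun f => f.hom s) hL1
    have hL3 : (ψ.hom.app (op (Over.mk ((k ≫ T.hom) ≫ g)))).hom ((etaU MM V).hom m) =
        (etaU NN V).hom (n m) := by
      rw [hnat V ((k ≫ T.hom) ≫ g) m]
      refine (map_comp_apply _ g (k ≫ T.hom) (t m)).symm.trans ?_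
      rw [hn m]
      exact congrArg (fun f => f.hom (n m)) (etaU_map NN (k ≫ T.hom))
    have hL : ((cs (X := X) NN).obj.map k.op).hom
        ((ψ.hom.app (op ((Over.map g).obj T))).hom s) = (etaU NN V).hom (n m) := by
      refine hL2.symm.trans ?_
      refine (congrArg (fun z => (ψ.hom.app (op (Over.mk ((k ≫ T.hom) ≫ g)))).hom z) hm).trans hL3
    -- right hand side
    have hR1 := ((constantSheaf X.smallEtaleTopology AddCommGrpCat.{u + 1}).map
      (AddCommGrpCat.ofHom h)).hom.naturality k.op
    have hR2 := congrArg (fun f => f.hom s) hR1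
    have hR3 := congrArg (fun f => f.hom m) (etaU_nat (Y := X) (AddCommGrpCat.ofHom h) V)
    have hR : ((cs (X := X) NN).obj.map k.op).hom
        ((((constantSheaf X.smallEtaleTopology AddCommGrpCat.{u + 1}).map
          (AddCommGrpCat.ofHom h)).hom.app (op T.left)).hom s) = (etaU NN V).hom (n m) := by
      refine hR2.symm.trans ?_
      refine (congrArg (fun z => (((constantSheaf X.smallEtaleTopology AddCommGrpCat.{u + 1}).map
          (AddCommGrpCat.ofHom h)).hom.app (op V)).hom z) hm).trans hR3
    exact hL.trans hR.symm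

end Const

end Groth.Agent.H4.OverConst
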