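import Mathlib
import Groth.Prelude.Def_EtCore
import Groth.Agent.H4.OverConst

/-!
# Finite locally constant sheaves form a weak Serre subcategory (helper4 library)

* `cst a g`: the "constant sections" of a sheaf trivialised over `W` by `a : F.over W ≅ (cs M).over W`.
* `injective_of_mono`, `exact_sections`, `locally_surj_of_epi`: sectionwise consequences of exactness.
* `exists_common_refinement`: finitely many étale-local properties hold on a common neighbourhood.
* `exists_iso_of_sections`: a criterion for `F.over W ≅ (cs B).over W`.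
-/

set_option autoImplicit false
open CategoryTheory CategoryTheory.Limits AlgebraicGeometry Opposite
universe u

namespace Groth.Agent.H4.LocConstSerre

open Groth.Agent.H4 Groth.Agent.H4.SkyH1 Groth.Agent.H4.GenStalk Groth.Agent.H4.OverConst

variable {X : Scheme.{u}}

section Cst

variable {F : EtCoh.Ab X} {W : X.Etale} {M : AddCommGrpCat.{u + 1}}

/-- The constant sections of a sheaf trivialised over `W`. -/
noncomputable def cst (a : F.over W ≅ (cs (X := X) M).over W) {V : X.Etale} (g : V ⟶ W) :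
    M ⟶ F.obj.obj (op V) :=
  etaU M V ≫ a.inv.hom.app (op (Over.mk g))

theorem cst_map_apply (a : F.over W ≅ (cs (X := X) M).over W) {V V' : X.Etale} (g : V ⟶ W)
    (k : V' ⟶ V) (m : ToType M) :
    (F.obj.map k.op).hom ((cst a g).hom m) = (cst a (k ≫ g)).hom m := by
  have h1 := a.inv.hom.naturality (Over.homMk k rfl : Over.mk (k ≫ g) ⟶ Over.mk g).op
  have h2 := congrArg (fun f => f.hom ((etaU M V).hom m)) h1
  have h3 := congrArg (fun f => f.hom m) (etaU_map M k)
  exact h2.symm.trans (congrArg (fun z => (a.inv.hom.app (op (Over.mk (k ≫ g)))).hom z) h3)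

theorem cst_injective (a : F.over W ≅ (cs (X := X) M).over W) {V : X.Etale} (g : V ⟶ W)
    (v : V.left) : Function.Injective (cst a g).hom := by
  intro m m' h
  apply etaU_injective M V v
  have h2 : a.inv.hom.app (op (Over.mk g)) ≫ a.hom.hom.app (op (Over.mk g)) = 𝟙 _ :=
    congrArg (fun θ : (cs (X := X) M).over W ⟶ (cs (X := X) M).over W =>
      θ.hom.app (op (Over.mk g))) a.inv_hom_id
  have h3 := congrArg (fun z => (a.hom.hom.app (op (Over.mk g))).hom z) h
  have h4 : ∀ x, (a.hom.hom.app (op (Over.mk g))).hom ((cst a g).hom x) = (etaU M V).hom x :=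
    fun x => congrArg (fun f => f.hom ((etaU M V).hom x)) h2
  exact (h4 m).symm.trans (h3.trans (h4 m'))

theorem cst_locally_surj (a : F.over W ≅ (cs (X := X) M).over W) {V : X.Etale} (g : V ⟶ W)
    (s : ToType (F.obj.obj (op V))) (v : V.left) :
    ∃ (V' : X.Etale) (k : V' ⟶ V) (v' : V'.left) (m : ToType M), k.left.base v' = v ∧
      (F.obj.map k.op).hom s = (cst a (k ≫ g)).hom m := by
  obtain ⟨V', k, v', m, hv', hm⟩ :=
    exists_const_nbhd M V ((a.hom.hom.app (op (Over.mk g))).hom s) v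
  refine ⟨V', k, v', m, hv', ?_⟩
  have h1 := a.hom.hom.naturality (Over.homMk k rfl : Over.mk (k ≫ g) ⟶ Over.mk g).op
  have h2 := congrArg (fun f => f.hom s) h1
  have h3 : a.hom.hom.app (op (Over.mk (k ≫ g))) ≫ a.inv.hom.app (op (Over.mk (k ≫ g))) = 𝟙 _ :=
    congrArg (fun θ : F.over W ⟶ F.over W => θ.hom.app (op (Over.mk (k ≫ g)))) a.hom_inv_id
  have h4 := congrArg (fun f => f.hom ((F.obj.map k.op).hom s)) h3
  refine h4.symm.trans ?_
  exact congrArg (fun z => (a.inv.hom.app (op (Over.mk (k ≫ g)))).hom z) (h2.trans hm)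

theorem cst_resIso (a : F.over W ≅ (cs (X := X) M).over W) {W' V : X.Etale} (g : W' ⟶ W)
    (k : V ⟶ W') : cst (resIso g a) k = cst a (k ≫ g) := rfl

end Cst

section Exact

theorem injective_of_mono {F G : EtCoh.Ab X} (i : F ⟶ G) [Mono i] (V : X.Etale) :
    Function.Injective (i.hom.app (op V)).hom := by
  let E : EtCoh.Ab X ⥤ AddCommGrpCat.{u + 1} :=
    sheafToPresheaf X.smallEtaleTopology AddCommGrpCat.{u + 1} ⋙ (evaluation _ _).obj (op V)
  haveI : Mono (E.map i) := inferInstance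
  exact (AddCommGrpCat.mono_iff_injective (E.map i)).1 inferInstance

theorem exact_sections (S : ShortComplex (EtCoh.Ab X)) (hS : S.ShortExact) (V : X.Etale)
    (t : ToType (S.X₂.obj.obj (op V))) (ht : (S.g.hom.app (op V)).hom t = 0) :
    ∃ s : ToType (S.X₁.obj.obj (op V)), (S.f.hom.app (op V)).hom s = t := by
  let E : EtCoh.Ab X ⥤ AddCommGrpCat.{u + 1} :=
    sheafToPresheaf X.smallEtaleTopology AddCommGrpCat.{u + 1} ⋙ (evaluation _ _).obj (op V)
  have hex : (S.map E).Exact :=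
    hS.exact.map_of_mono_of_preservesKernel E hS.mono_f inferInstance
  rw [ShortComplex.ab_exact_iff] at hex
  exact hex t ht

theorem locally_surj_of_epi {F G : EtCoh.Ab X} (p : F ⟶ G) [Epi p] (V : X.Etale)
    (t : ToType (G.obj.obj (op V))) (v : V.left) :
    ∃ (V' : X.Etale) (k : V' ⟶ V) (v' : V'.left) (s : ToType (F.obj.obj (op V'))),
      k.left.base v' = v ∧ (p.hom.app (op V')).hom s = (G.obj.map k.op).hom t := by
  haveI : Sheaf.IsLocallySurjective p := (Sheaf.isLocallySurjective_iff_epi' _ _).2 inferInstance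
  have hIm := Presheaf.imageSieve_mem X.smallEtaleTopology p.hom t
  obtain ⟨V', k, v', ⟨s, hs⟩, hv'⟩ := exists_of_mem_smallEtaleTopology _ _ hIm v
  exact ⟨V', k, v', s, hv', hs⟩

end Exact

theorem exists_common_refinement {I : Type*} [Finite I] (W : X.Etale) (w : W.left)
    (P : I → ∀ (V : X.Etale), (V ⟶ W) → Prop)
    (hP : ∀ (i : I) (V : X.Etale) (g : V ⟶ W) (V' : X.Etale) (k : V' ⟶ V),
      P i V g → P i V' (k ≫ g))
    (hloc : ∀ (i : I) (V : X.Etale) (g : V ⟶ W) (v : V.left),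
      ∃ (V' : X.Etale) (k : V' ⟶ V) (v' : V'.left), k.left.base v' = v ∧ P i V' (k ≫ g)) :
    ∃ (W' : X.Etale) (g : W' ⟶ W) (w' : W'.left), g.left.base w' = w ∧ ∀ i, P i W' g := by
  classical
  cases nonempty_fintype I
  have key : ∀ s : Finset I, ∃ (W' : X.Etale) (g : W' ⟶ W) (w' : W'.left),
      g.left.base w' = w ∧ ∀ i ∈ s, P i W' g := by
    intro s
    induction s using Finset.induction_on with
    | empty => exact ⟨W, 𝟙 W, w, rfl, fun i hi => absurd hi (Finset.notMem_empty i)⟩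
    | insert a s ha ih =>
      obtain ⟨W', g, w', hw', hs⟩ := ih
      obtain ⟨V, k, v, hv, hPa⟩ := hloc a W' g w'
      refine ⟨V, k ≫ g, v, ?_, ?_⟩
      · show (k.left ≫ g.left).base v = w
        rw [Scheme.Hom.comp_apply, hv, hw']
      · intro i hi
        rcases Finset.mem_insert.1 hi with rfl | hi
        · exact hPa
        · exact hP i W' g V k (hs i hi)
  obtain ⟨W', g, w', hw', hs⟩ := key Finset.univ
  exact ⟨W', g, w', hw', fun i => hs i (Finset.mem_univ i)⟩

/-- A criterion for a sheaf to be constant over `W`: a group `B` of sections over `W` which restricts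
injectively to every nonempty `V ⟶ W` and such that every section is locally a restriction of an
element of `B`. -/
theorem exists_iso_of_sections (F : EtCoh.Ab X) (W : X.Etale) (B : AddCommGrpCat.{u + 1})
    (ι : B ⟶ F.obj.obj (op W))
    (hinj : ∀ (V : X.Etale) (g : V ⟶ W) (_ : V.left) (b : ToType B),
      (F.obj.map g.op).hom (ι.hom b) = 0 → b = 0)
    (hsurj : ∀ (V : X.Etale) (g : V ⟶ W) (s : ToType (F.obj.obj (op V))) (v : V.left),
      ∃ (V' : X.Etale) (k : V' ⟶ V) (v' : V'.left) (b : ToType B), k.left.base v' = v ∧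
        (F.obj.map k.op).hom s = (F.obj.map (k ≫ g).op).hom (ι.hom b)) :
    Nonempty (F.over W ≅ (cs (X := X) B).over W) := by
  let η : (Functor.const (Over W)ᵒᵖ).obj B ⟶ (F.over W).obj :=
    { app := fun T => ι ≫ F.obj.map T.unop.hom.op
      naturality := fun T T' f => by
        show 𝟙 B ≫ ι ≫ F.obj.map T'.unop.hom.op =
          (ι ≫ F.obj.map T.unop.hom.op) ≫ F.obj.map f.unop.left.op
        rw [Category.id_comp, Category.assoc, ← F.obj.map_comp, ← op_comp, Over.w f.unop] }
  let Θ₀ : sheafify (X.smallEtaleTopology.over W) ((Functor.const (Over W)ᵒᵖ).obj B) ⟶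
      (F.over W).obj :=
    sheafifyLift (X.smallEtaleTopology.over W) η (F.over W).property
  let Θ₁ : (constantSheaf (X.smallEtaleTopology.over W) AddCommGrpCat.{u + 1}).obj B ⟶ F.over W :=
    ObjectProperty.homMk Θ₀
  let Θ : (cs (X := X) B).over W ⟶ F.over W := (constOverIso W B).inv ≫ Θ₁
  have hΘ : ∀ {V : X.Etale} (g : V ⟶ W) (b : ToType B),
      (Θ.hom.app (op (Over.mk g))).hom ((etaU B V).hom b) = (F.obj.map g.op).hom (ι.hom b) := by
    intro V g b
    have key1 := Functor.toSheafify_pullbackSheafificationCompatibility (Over.forget W)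
      AddCommGrpCat.{u + 1} (X.smallEtaleTopology.over W) X.smallEtaleTopology
      ((Functor.const _).obj B)
    have key2 := congrArg (fun θ => θ.app (op (Over.mk g))) key1
    have key3 : (constOverIso W B).hom.hom.app (op (Over.mk g)) ≫
        (constOverIso W B).inv.hom.app (op (Over.mk g)) = 𝟙 _ :=
      congrArg (fun θ : (constantSheaf (X.smallEtaleTopology.over W) AddCommGrpCat.{u + 1}).obj B ⟶
        (constantSheaf (X.smallEtaleTopology.over W) AddCommGrpCat.{u + 1}).obj B =>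
          θ.hom.app (op (Over.mk g))) (constOverIso W B).hom_inv_id
    have key4 : toSheafify (X.smallEtaleTopology.over W) ((Functor.const (Over W)ᵒᵖ).obj B) ≫ Θ₀ = η :=
      toSheafify_sheafifyLift (X.smallEtaleTopology.over W) η _
    have key5 := congrArg (fun θ => θ.app (op (Over.mk g))) key4
    let y := ((toSheafify (X.smallEtaleTopology.over W)
      ((Functor.const (Over W)ᵒᵖ).obj B)).app (op (Over.mk g))).hom b
    have e1 : ((constOverIso W B).hom.hom.app (op (Over.mk g))).hom y = (etaU B V).hom b :=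
      congrArg (fun f => f.hom b) key2
    have e2 : ((constOverIso W B).inv.hom.app (op (Over.mk g))).hom
        (((constOverIso W B).hom.hom.app (op (Over.mk g))).hom y) = y :=
      congrArg (fun f => f.hom y) key3
    have e3 : (Θ₀.app (op (Over.mk g))).hom y = (F.obj.map g.op).hom (ι.hom b) :=
      congrArg (fun f => f.hom b) key5
    have e4 : (Θ.hom.app (op (Over.mk g))).hom ((etaU B V).hom b) =
        (Θ₀.app (op (Over.mk g))).hom (((constOverIso W B).inv.hom.app (op (Over.mk g))).hom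
          ((etaU B V).hom b)) := rfl
    rw [e4, ← e1, e2]
    exact e3
  have hΘnat : ∀ {V V' : X.Etale} (g : V ⟶ W) (k : V' ⟶ V)
      (x : ToType ((cs (X := X) B).obj.obj (op V))),
      (Θ.hom.app (op (Over.mk (k ≫ g)))).hom (((cs (X := X) B).obj.map k.op).hom x) =
        (F.obj.map k.op).hom ((Θ.hom.app (op (Over.mk g))).hom x) := by
    intro V V' g k x
    have h1 := Θ.hom.naturality (Over.homMk k rfl : Over.mk (k ≫ g) ⟶ Over.mk g).op
    exact congrArg (fun f => f.hom x) h1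
  haveI : Mono Θ := by
    haveI : ∀ T, Mono (Θ.hom.app T) := by
      intro T
      induction T using Opposite.rec with
      | _ T =>
        apply (AddCommGrpCat.mono_iff_injective _).2
        apply (injective_iff_map_eq_zero _).2
        intro x hx
        apply eq_of_locally_eq (cs (X := X) B) T.left
        intro t
        obtain ⟨V, k, v, b, hv, hb⟩ := exists_const_nbhd B T.left x t
        refine ⟨V, k, v, hv, ?_⟩
        have h1 := hΘnat T.hom k x
        have hx' : (Θ.hom.app (op (Over.mk T.hom))).hom x =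
            (0 : ToType (F.obj.obj (op T.left))) := hx
        have h2 : (Θ.hom.app (op (Over.mk (k ≫ T.hom)))).hom ((etaU B V).hom b) = 0 := by
          rw [← hb]
          refine h1.trans ?_
          rw [hx']
          exact map_zero _
        rw [hΘ] at h2
        have hb0 : b = 0 := hinj V (k ≫ T.hom) v b h2
        show ((cs (X := X) B).obj.map k.op).hom x = ((cs (X := X) B).obj.map k.op).hom 0
        rw [hb, hb0, map_zero, map_zero]
    haveI : Mono Θ.hom := NatTrans.mono_of_mono_app Θ.hom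
    exact Sheaf.Hom.mono_of_presheaf_mono _ _ Θ
  haveI : Sheaf.IsLocallySurjective Θ := by
    constructor
    intro T s
    rw [GrothendieckTopology.mem_over_iff]
    apply mem_smallEtaleTopology_of_forall
    intro t
    obtain ⟨V', k, v', b, hv', hb⟩ := hsurj T.left T.hom s t
    refine ⟨V', k, v', ?_, hv'⟩
    rw [Sieve.overEquiv_iff]
    exact ⟨(etaU B V').hom b, (hΘ (k ≫ T.hom) b).trans hb.symm⟩
  haveI : Epi Θ := Sheaf.epi_of_isLocallySurjective Θ
  haveI : IsIso Θ := isIso_of_mono_of_epi Θ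
  exact ⟨(asIso Θ).symm⟩

section Ext

theorem nat_apply {F G : EtCoh.Ab X} (φ : F ⟶ G) {V V' : X.Etale} (k : V' ⟶ V)
    (x : ToType (F.obj.obj (op V))) :
    (φ.hom.app (op V')).hom ((F.obj.map k.op).hom x) =
      (G.obj.map k.op).hom ((φ.hom.app (op V)).hom x) :=
  congrArg (fun f => f.hom x) (φ.hom.naturality k.op)

theorem ext_stage3 (S : ShortComplex (EtCoh.Ab X)) (hS : S.ShortExact) {W : X.Etale}
    (A C : AddCommGrpCat.{u + 1}) [Finite A] [Finite C]
    (a₁ : S.X₁.over W ≅ (cs (X := X) A).over W) (a₃ : S.X₃.over W ≅ (cs (X := X) C).over W)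
    (s : C → ToType (S.X₂.obj.obj (op W)))
    (hs : ∀ c, (S.g.hom.app (op W)).hom (s c) = (cst a₃ (𝟙 W)).hom c)
    (f : C → C → A)
    (hf : ∀ c c', s c + s c' - s (c + c') =
      (S.f.hom.app (op W)).hom ((cst a₁ (𝟙 W)).hom (f c c'))) :
    ∃ (B : AddCommGrpCat.{u + 1}), Finite B ∧ Nonempty (S.X₂.over W ≅ (cs (X := X) B).over W) := by
  haveI := hS.mono_f
  let σ : A × C → ToType (S.X₂.obj.obj (op W)) := fun q =>
    (S.f.hom.app (op W)).hom ((cst a₁ (𝟙 W)).hom q.1) + s q.2
  have hsub : ∀ c c', s c = s (c - c') -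
      (S.f.hom.app (op W)).hom ((cst a₁ (𝟙 W)).hom (f (c - c') c')) + s c' := by
    intro c c'
    have h := hf (c - c') c'
    rw [sub_add_cancel] at h
    rw [← h]
    abel
  have hclosed : ∀ x ∈ Set.range σ, ∀ y ∈ Set.range σ, x + -y ∈ Set.range σ := by
    rintro _ ⟨⟨a, c⟩, rfl⟩ _ ⟨⟨a', c'⟩, rfl⟩
    refine ⟨(a - a' - f (c - c') c', c - c'), ?_⟩
    show (S.f.hom.app (op W)).hom ((cst a₁ (𝟙 W)).hom (a - a' - f (c - c') c')) + s (c - c') =
      (S.f.hom.app (op W)).hom ((cst a₁ (𝟙 W)).hom a) + s c +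
        -((S.f.hom.app (op W)).hom ((cst a₁ (𝟙 W)).hom a') + s c')
    rw [map_sub, map_sub, map_sub, map_sub, hsub c c']
    abel
  let B : AddSubgroup (ToType (S.X₂.obj.obj (op W))) :=
    AddSubgroup.ofSub (Set.range σ) ⟨σ (0, 0), ⟨(0, 0), rfl⟩⟩ hclosed
  haveI : Finite ↥B := by
    show Finite ↥(Set.range σ)
    infer_instance
  have hs0 : s 0 = (S.f.hom.app (op W)).hom ((cst a₁ (𝟙 W)).hom (f 0 0)) := by
    have h := hf 0 0
    rw [add_zero, add_sub_cancel_right] at h
    exact h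
  refine ⟨AddCommGrpCat.of ↥B, inferInstanceAs (Finite ↥B), ?_⟩
  apply exists_iso_of_sections S.X₂ W (AddCommGrpCat.of ↥B) (AddCommGrpCat.ofHom B.subtype)
  · -- injectivity
    intro V g v b hb
    obtain ⟨⟨a, c⟩, hac⟩ : b.1 ∈ Set.range σ := b.2
    have hb' : (S.X₂.obj.map g.op).hom (σ (a, c)) = 0 := by
      rw [hac]
      exact hb
    -- apply `p`
    have h1 : (S.g.hom.app (op V)).hom ((S.X₂.obj.map g.op).hom (σ (a, c))) = 0 := by
      rw [hb', map_zero]
    have hzero : ∀ (z : ToType (S.X₁.obj.obj (op W))),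
        (S.g.hom.app (op W)).hom ((S.f.hom.app (op W)).hom z) = 0 := fun z =>
      congrArg (fun θ : S.X₁ ⟶ S.X₃ => (θ.hom.app (op W)).hom z) S.zero
    have h2 : (S.g.hom.app (op W)).hom (σ (a, c)) = (cst a₃ (𝟙 W)).hom c := by
      show (S.g.hom.app (op W)).hom
        ((S.f.hom.app (op W)).hom ((cst a₁ (𝟙 W)).hom a) + s c) = _
      rw [map_add, hzero, zero_add, hs]
    rw [nat_apply S.g g, h2, cst_map_apply a₃ (𝟙 W) g c] at h1
    have hc0 : c = 0 := by
      apply cst_injective a₃ (g ≫ 𝟙 W) v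
      rw [h1, map_zero]
    -- now `a`
    have h3 : σ (a, c) = (S.f.hom.app (op W)).hom ((cst a₁ (𝟙 W)).hom (a + f 0 0)) := by
      show (S.f.hom.app (op W)).hom ((cst a₁ (𝟙 W)).hom a) + s c = _
      rw [hc0, hs0, map_add, map_add]
    have h4 : (S.f.hom.app (op V)).hom ((cst a₁ (g ≫ 𝟙 W)).hom (a + f 0 0)) = 0 := by
      rw [← cst_map_apply a₁ (𝟙 W) g, nat_apply S.f g, ← h3]
      exact hb'
    have h5 : (cst a₁ (g ≫ 𝟙 W)).hom (a + f 0 0) = 0 := by
      apply injective_of_mono S.f V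
      rw [h4, map_zero]
    have h6 : a + f 0 0 = 0 := by
      apply cst_injective a₁ (g ≫ 𝟙 W) v
      rw [h5, map_zero]
    apply Subtype.ext
    show b.1 = 0
    rw [← hac, h3, h6, map_zero, map_zero]
  · -- local surjectivity
    intro V g t v
    obtain ⟨V₁, k₁, v₁, c, hv₁, hc⟩ := cst_locally_surj a₃ g ((S.g.hom.app (op V)).hom t) v
    let g₁ : V₁ ⟶ W := k₁ ≫ g
    let d : ToType (S.X₂.obj.obj (op V₁)) :=
      (S.X₂.obj.map k₁.op).hom t - (S.X₂.obj.map g₁.op).hom (s c)
    have hd : (S.g.hom.app (op V₁)).hom d = 0 := by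
      show (S.g.hom.app (op V₁)).hom
        ((S.X₂.obj.map k₁.op).hom t - (S.X₂.obj.map g₁.op).hom (s c)) = 0
      rw [map_sub, nat_apply S.g k₁ t, nat_apply S.g g₁ (s c), hc, hs c,
        cst_map_apply a₃ (𝟙 W) g₁ c, Category.comp_id, sub_self]
    obtain ⟨y, hy⟩ := exact_sections S hS V₁ d hd
    obtain ⟨V₂, k₂, v₂, a, hv₂, ha⟩ := cst_locally_surj a₁ g₁ y v₁
    refine ⟨V₂, k₂ ≫ k₁, v₂, ⟨σ (a, c), ⟨(a, c), rfl⟩⟩, ?_, ?_⟩
    · show (k₂.left ≫ k₁.left).base v₂ = v
      rw [Scheme.Hom.comp_apply, hv₂, hv₁]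
    · have e1 : (S.X₂.obj.map k₁.op).hom t =
          (S.f.hom.app (op V₁)).hom y + (S.X₂.obj.map g₁.op).hom (s c) := by
        rw [hy]
        show _ = ((S.X₂.obj.map k₁.op).hom t - (S.X₂.obj.map g₁.op).hom (s c)) + _
        abel
      have e2 : (S.X₂.obj.map (k₂ ≫ k₁).op).hom t =
          (S.X₂.obj.map k₂.op).hom ((S.X₂.obj.map k₁.op).hom t) :=
        (map_comp_apply S.X₂.obj k₁ k₂ t).symm
      rw [e2, e1, map_add, ← nat_apply S.f k₂ y, ha, map_comp_apply S.X₂.obj g₁ k₂ (s c)]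
      show _ = (S.X₂.obj.map ((k₂ ≫ k₁) ≫ g).op).hom
        ((S.f.hom.app (op W)).hom ((cst a₁ (𝟙 W)).hom a) + s c)
      rw [map_add, ← nat_apply S.f ((k₂ ≫ k₁) ≫ g) _, cst_map_apply a₁ (𝟙 W) ((k₂ ≫ k₁) ≫ g) a,
        Category.comp_id, Category.assoc]

theorem ext_stage2 (S : ShortComplex (EtCoh.Ab X)) (hS : S.ShortExact) {W : X.Etale} (w : W.left)
    (A C : AddCommGrpCat.{u + 1}) [Finite A] [Finite C]
    (a₁ : S.X₁.over W ≅ (cs (X := X) A).over W) (a₃ : S.X₃.over W ≅ (cs (X := X) C).over W)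
    (s : C → ToType (S.X₂.obj.obj (op W)))
    (hs : ∀ c, (S.g.hom.app (op W)).hom (s c) = (cst a₃ (𝟙 W)).hom c) :
    ∃ (W' : X.Etale) (g : W' ⟶ W) (w' : W'.left) (B : AddCommGrpCat.{u + 1}),
      g.left.base w' = w ∧ Finite B ∧ Nonempty (S.X₂.over W' ≅ (cs (X := X) B).over W') := by
  haveI := hS.mono_f
  let z : C × C → ToType (S.X₂.obj.obj (op W)) := fun q => s q.1 + s q.2 - s (q.1 + q.2)
  have hz : ∀ q, (S.g.hom.app (op W)).hom (z q) = 0 := by
    intro q
    show (S.g.hom.app (op W)).hom (s q.1 + s q.2 - s (q.1 + q.2)) = 0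
    rw [map_sub, map_add, hs, hs, hs, map_add, sub_self]
  obtain ⟨W', g, w', hw', hall⟩ := exists_common_refinement (I := C × C) W w
    (fun q V g => ∃ a : A, (S.X₂.obj.map g.op).hom (z q) =
      (S.f.hom.app (op V)).hom ((cst a₁ g).hom a))
    (by
      rintro q V g V' k ⟨a, ha⟩
      refine ⟨a, ?_⟩
      rw [← map_comp_apply S.X₂.obj g k (z q), ha, ← nat_apply S.f k, cst_map_apply a₁ g k a])
    (by
      intro q V g v
      obtain ⟨y, hy⟩ := exact_sections S hS W (z q) (hz q)
      obtain ⟨V', k, v', a, hv', ha⟩ := cst_locally_surj a₁ g ((S.X₁.obj.map g.op).hom y) v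
      refine ⟨V', k, v', hv', a, ?_⟩
      rw [← hy, ← nat_apply S.f (k ≫ g) y, ← map_comp_apply S.X₁.obj g k y, ha])
  choose f hf using hall
  obtain ⟨B, hB, hiso⟩ := ext_stage3 S hS A C (resIso g a₁) (resIso g a₃)
    (fun c => (S.X₂.obj.map g.op).hom (s c))
    (by
      intro c
      show (S.g.hom.app (op W')).hom ((S.X₂.obj.map g.op).hom (s c)) = _
      rw [nat_apply S.g g (s c), hs c, cst_map_apply a₃ (𝟙 W) g c, cst_resIso,
        Category.comp_id, Category.id_comp])
    (fun c c' => f (c, c'))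
    (by
      intro c c'
      have h := hf (c, c')
      show (S.X₂.obj.map g.op).hom (s c) + (S.X₂.obj.map g.op).hom (s c') -
          (S.X₂.obj.map g.op).hom (s (c + c')) =
        (S.f.hom.app (op W')).hom ((cst (resIso g a₁) (𝟙 W')).hom (f (c, c')))
      rw [cst_resIso, Category.id_comp, ← h, ← map_add, ← map_sub])
  exact ⟨W', g, w', B, hw', hB, hiso⟩

/-- Extensions of finite locally constant sheaves are locally constant (local form). -/
theorem ext_local (S : ShortComplex (EtCoh.Ab X)) (hS : S.ShortExact) {W : X.Etale} (w : W.left)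
    (A C : AddCommGrpCat.{u + 1}) [Finite A] [Finite C]
    (a₁ : S.X₁.over W ≅ (cs (X := X) A).over W) (a₃ : S.X₃.over W ≅ (cs (X := X) C).over W) :
    ∃ (W' : X.Etale) (g : W' ⟶ W) (w' : W'.left) (B : AddCommGrpCat.{u + 1}),
      g.left.base w' = w ∧ Finite B ∧ Nonempty (S.X₂.over W' ≅ (cs (X := X) B).over W') := by
  haveI := hS.epi_g
  obtain ⟨W₁, g₁, w₁, hw₁, hall⟩ := exists_common_refinement (I := C) W w
    (fun c V g => ∃ t : ToType (S.X₂.obj.obj (op V)),
      (S.g.hom.app (op V)).hom t = (cst a₃ g).hom c)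
    (by
      rintro c V g V' k ⟨t, ht⟩
      refine ⟨(S.X₂.obj.map k.op).hom t, ?_⟩
      rw [nat_apply S.g k t, ht, cst_map_apply a₃ g k c])
    (by
      intro c V g v
      obtain ⟨V', k, v', t, hv', ht⟩ := locally_surj_of_epi S.g V ((cst a₃ g).hom c) v
      refine ⟨V', k, v', hv', t, ?_⟩
      rw [ht, cst_map_apply a₃ g k c])
  choose s hs using hall
  obtain ⟨W₂, g₂, w₂, B, hw₂, hB, hiso⟩ :=
    ext_stage2 S hS w₁ A C (resIso g₁ a₁) (resIso g₁ a₃) s
      (by
        intro c
        rw [hs c, cst_resIso, Category.id_comp])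
  refine ⟨W₂, g₂ ≫ g₁, w₂, B, ?_, hB, hiso⟩
  show (g₂.left ≫ g₁.left).base w₂ = w
  rw [Scheme.Hom.comp_apply, hw₂, hw₁]

end Ext

section FLC

theorem flc_of_local (F : EtCoh.Ab X)
    (h : ∀ x : X, ∃ (W : X.Etale) (w : W.left) (B : AddCommGrpCat.{u + 1}),
      W.hom.base w = x ∧ Finite B ∧ Nonempty (F.over W ≅ (cs (X := X) B).over W)) :
    EtCoh.IsFiniteLocallyConstant F := by
  choose W w B hw hfin hiso using h
  refine ⟨↥X, W, fun x => ⟨x, w x, hw x⟩, fun x => ?_⟩
  haveI := hfin x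
  obtain ⟨e⟩ := hiso x
  let eq : (B x) ≃+ ULift.{u + 1} (Shrink.{0} (B x)) :=
    ((AddEquiv.ulift).trans (Shrink.addEquiv)).symm
  let eI : B x ≅ AddCommGrpCat.of (ULift.{u + 1} (Shrink.{0} (B x))) :=
    AddEquiv.toAddCommGrpIso eq
  refine ⟨Shrink.{0} (B x), inferInstance, Finite.of_equiv _ (equivShrink _), ⟨?_⟩⟩
  exact e ≪≫ (constOverIso (W x) (B x)).symm ≪≫
    (constantSheaf (X.smallEtaleTopology.over (W x)) AddCommGrpCat.{u + 1}).mapIso eI

theorem exists_common_triv (F G : EtCoh.Ab X) (hF : EtCoh.IsFiniteLocallyConstant F)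
    (hG : EtCoh.IsFiniteLocallyConstant G) (x : X) :
    ∃ (W : X.Etale) (w : W.left) (M N : AddCommGrpCat.{u + 1}), W.hom.base w = x ∧
      Finite M ∧ Finite N ∧ Nonempty (F.over W ≅ (cs (X := X) M).over W) ∧
        Nonempty (G.over W ≅ (cs (X := X) N).over W) := by
  obtain ⟨ι₁, U, hU, hF'⟩ := hF
  obtain ⟨ι₂, V, hV, hG'⟩ := hG
  obtain ⟨i, y, hy⟩ := hU x
  obtain ⟨j, z, hz⟩ := hV x
  obtain ⟨w, hw⟩ := exists_prod_point (U i) (V j) y z (hy.trans hz.symm)
  obtain ⟨M₀, _, _, ⟨α₀⟩⟩ := hF' i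
  obtain ⟨N₀, _, _, ⟨β₀⟩⟩ := hG' j
  exact ⟨prodEt (U i) (V j), w, AddCommGrpCat.of (ULift.{u + 1} M₀),
    AddCommGrpCat.of (ULift.{u + 1} N₀), hw.trans hy,
    inferInstanceAs (Finite (ULift.{u + 1} M₀)), inferInstanceAs (Finite (ULift.{u + 1} N₀)),
    ⟨resIso (prodFst (U i) (V j)) (α₀ ≪≫ constOverIso (U i) _)⟩,
    ⟨resIso (prodSnd (U i) (V j)) (β₀ ≪≫ constOverIso (V j) _)⟩⟩

end FLC

section KerCoker

instance preservesColimits_overPullback (W : X.Etale) :
    PreservesColimitsOfSize.{0, 0} (X.smallEtaleTopology.overPullback AddCommGrpCat.{u + 1} W) :=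
  ((Over.forget W).sheafAdjunctionCocontinuous AddCommGrpCat.{u + 1}
    (X.smallEtaleTopology.over W) X.smallEtaleTopology).leftAdjoint_preservesColimits

instance preservesFiniteLimits_constantSheaf :
    PreservesFiniteLimits (constantSheaf X.smallEtaleTopology AddCommGrpCat.{u + 1}) := by
  unfold constantSheaf
  infer_instance

theorem finite_of_mono {K M : AddCommGrpCat.{u + 1}} (i : K ⟶ M) [Mono i] [Finite M] : Finite K :=
  Finite.of_injective _ ((AddCommGrpCat.mono_iff_injective i).1 inferInstance)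

theorem finite_of_epi {N Q : AddCommGrpCat.{u + 1}} (p : N ⟶ Q) [Epi p] [Finite N] : Finite Q :=
  Finite.of_surjective _ ((AddCommGrpCat.epi_iff_surjective p).1 inferInstance)

/-- Kernels and cokernels of maps of finite locally constant sheaves are locally constant
(local form). -/
theorem ker_coker_local (F G : EtCoh.Ab X) (φ : F ⟶ G) {W : X.Etale} (w : W.left)
    (M N : AddCommGrpCat.{u + 1}) [Finite M] [Finite N]
    (a : F.over W ≅ (cs (X := X) M).over W) (b : G.over W ≅ (cs (X := X) N).over W) :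
    ∃ (W' : X.Etale) (g : W' ⟶ W) (w' : W'.left) (K Q : AddCommGrpCat.{u + 1}),
      g.left.base w' = w ∧ Finite K ∧ Finite Q ∧
      Nonempty ((kernel φ).over W' ≅ (cs (X := X) K).over W') ∧
      Nonempty ((cokernel φ).over W' ≅ (cs (X := X) Q).over W') := by
  let ψ : (cs (X := X) (AddCommGrpCat.of M)).over W ⟶ (cs (X := X) (AddCommGrpCat.of N)).over W :=
    a.inv ≫ (X.smallEtaleTopology.overPullback AddCommGrpCat.{u + 1} W).map φ ≫ b.hom
  obtain ⟨W', g, w', h, hgw, hψ⟩ := LCmap M N W w ψ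
  let hh : M ⟶ N := AddCommGrpCat.ofHom h
  let G' := X.smallEtaleTopology.overPullback AddCommGrpCat.{u + 1} W'
  let cS := constantSheaf X.smallEtaleTopology AddCommGrpCat.{u + 1}
  have sq : G'.map φ ≫ (resIso g b).hom = (resIso g a).hom ≫ G'.map (cS.map hh) := by
    show G'.map φ ≫ resHom g b.hom = resHom g a.hom ≫ G'.map (cS.map hh)
    have e : resHom g ψ = G'.map (cS.map hh) := hψ
    rw [← e, ← resHom_comp, ← resHom_overPullback_map g φ, ← resHom_comp]
    congr 1
    show _ = a.hom ≫ a.inv ≫ _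
    rw [Iso.hom_inv_id_assoc]
  haveI : Finite (kernel hh : AddCommGrpCat.{u + 1}) := finite_of_mono (kernel.ι hh)
  haveI : Finite (cokernel hh : AddCommGrpCat.{u + 1}) := finite_of_epi (cokernel.π hh)
  refine ⟨W', g, w', kernel hh, cokernel hh, hgw, inferInstance, inferInstance, ⟨?_⟩, ⟨?_⟩⟩
  · exact PreservesKernel.iso G' φ ≪≫
      kernel.mapIso (G'.map φ) (G'.map (cS.map hh)) (resIso g a) (resIso g b) sq ≪≫
      (PreservesKernel.iso G' (cS.map hh)).symm ≪≫
      G'.mapIso (PreservesKernel.iso cS hh).symm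
  · exact PreservesCokernel.iso G' φ ≪≫
      cokernel.mapIso (G'.map φ) (G'.map (cS.map hh)) (resIso g a) (resIso g b) sq ≪≫
      (PreservesCokernel.iso G' (cS.map hh)).symm ≪≫
      G'.mapIso (PreservesCokernel.iso cS hh).symm

end KerCoker

end Groth.Agent.H4.LocConstSerre
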