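import Mathlib
import Groth.Prelude.Def_EtBase
import Groth.Agent.S0100

/-!
Germ-level description of the identification of the stalk of an inverse image sheaf:
`(f^* G)_ξ ≅ G_{ξ ≫ f}` sends the germ of `s` at `τ` to the germ of the unit image of `s` at the
lifted point.
-/

set_option autoImplicit false
open CategoryTheory CategoryTheory.Limits Opposite GrothendieckTopology
universe w v u

namespace Groth.Agent.H4

section
variable {C : Type*} [Category C] {J : GrothendieckTopology C} (Φ : Point.{w} J)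
  {A : Type*} [Category.{v} A] [HasProducts.{w} A] [HasColimitsOfSize.{w, w} A]

theorem skyscraper_unit_π (P : Sheaf J A) (Y : C) (y : Φ.fiber.obj Y) :
    (Φ.skyscraperSheafAdjunction.unit.app P).hom.app (op Y) ≫
      Pi.π (fun (_ : Φ.fiber.obj Y) => Φ.presheafFiber.obj P.obj) y =
      Φ.toPresheafFiber Y y P.obj := by
  have h1 : Φ.skyscraperSheafAdjunction.unit.app P =
      (Φ.skyscraperSheafAdjunction.homEquiv P _) (𝟙 _) :=
    (Adjunction.homEquiv_id _ _).symm
  have h2 : ((Φ.skyscraperSheafAdjunction.homEquiv P (Φ.presheafFiber.obj P.obj))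
      (𝟙 (Φ.presheafFiber.obj P.obj))).hom = Φ.skyscraperPresheafHomEquiv (𝟙 _) :=
    Φ.skyscraperSheafAdjunction_homEquiv_apply_hom (F := P) (𝟙 _)
  have h3 : (Φ.skyscraperSheafAdjunction.unit.app P).hom = Φ.skyscraperPresheafHomEquiv (𝟙 _) := by
    rw [h1]
    exact h2
  have h4 := Φ.skyscraperPresheafHomEquiv_app_π (P := P.obj) (𝟙 (Φ.presheafFiber.obj P.obj)) Y y
  rw [Category.comp_id] at h4
  rw [← h4]
  exact congrArg (fun q => q.app (op Y) ≫ Pi.π _ y) h3

end

section

variable {C D : Type*} [Category C] [Category D] {K : GrothendieckTopology D}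
  (Φ : Point.{w} K) (F : C ⥤ D) [RepresentablyFlat F] {J : GrothendieckTopology C}
  (hF : CoverPreserving J K F) [InitiallySmall (F ⋙ Φ.fiber).Elements]
  (A : Type*) [Category.{v} A] [HasProducts.{w} A] [Functor.IsContinuous F J K]
  [(F.sheafPushforwardContinuous A J K).IsRightAdjoint] [HasColimitsOfSize.{w, w} A]

theorem toPresheafFiber_comapIso (G : Sheaf J A) (X : C) (x : Φ.fiber.obj (F.obj X)) :
    (Φ.comap F hF).toPresheafFiber X x G.obj ≫ (Φ.sheafFiberComapIso F hF A).hom.app G =
      ((F.sheafAdjunctionContinuous A J K).unit.app G).hom.app (op X) ≫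
        Φ.toPresheafFiber (F.obj X) x ((F.sheafPullback A J K).obj G).obj := by
  let adj₁ := (F.sheafAdjunctionContinuous A J K).comp (Φ.skyscraperSheafAdjunction (A := A))
  let adj₂ := (Φ.comap F hF).skyscraperSheafAdjunction (A := A)
  have key := unit_conjugateEquiv_symm adj₁ adj₂
    (Φ.skyscraperSheafFunctorCompSheafPushforwardContinuous F hF A).hom G
  have hβ : ((conjugateEquiv adj₁ adj₂).symm
      (Φ.skyscraperSheafFunctorCompSheafPushforwardContinuous F hF A).hom) =
      (Φ.sheafFiberComapIso F hF A).hom := rfl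
  rw [hβ] at key
  have key' : adj₁.unit.app G = adj₂.unit.app G ≫
      (Φ.comap F hF).skyscraperSheafFunctor.map ((Φ.sheafFiberComapIso F hF A).hom.app G) := by
    rw [← key]
    exact (Category.comp_id _).symm
  have e1 : adj₁.unit.app G = (F.sheafAdjunctionContinuous A J K).unit.app G ≫
      (F.sheafPushforwardContinuous A J K).map
        (Φ.skyscraperSheafAdjunction.unit.app ((F.sheafPullback A J K).obj G)) :=
    Adjunction.comp_unit_app _ _ _
  have e3 : ((F.sheafAdjunctionContinuous A J K).unit.app G).hom.app (op X) ≫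
      (Φ.skyscraperSheafAdjunction.unit.app ((F.sheafPullback A J K).obj G)).hom.app
        (op (F.obj X)) =
      (adj₂.unit.app G).hom.app (op X) ≫
        ((Φ.comap F hF).skyscraperSheafFunctor.map
          ((Φ.sheafFiberComapIso F hF A).hom.app G)).hom.app (op X) :=
    congrArg (fun q => q.hom.app (op X)) (e1.symm.trans key')
  let β := (Φ.sheafFiberComapIso F hF A).hom.app G
  let πx := Pi.π (fun (_ : Φ.fiber.obj (F.obj X)) =>
    Φ.presheafFiber.obj ((F.sheafPullback A J K).obj G).obj) x
  let πx' := Pi.π (fun (_ : (Φ.comap F hF).fiber.obj X) =>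
    (Φ.comap F hF).presheafFiber.obj G.obj) x
  have R1 : (adj₂.unit.app G).hom.app (op X) ≫ πx' = (Φ.comap F hF).toPresheafFiber X x G.obj :=
    skyscraper_unit_π (Φ.comap F hF) G X x
  have R2 : ((Φ.comap F hF).skyscraperSheafFunctor.map β).hom.app (op X) ≫ πx = πx' ≫ β :=
    by
      show Limits.Pi.map (fun (_ : Φ.fiber.obj (F.obj X)) => β) ≫ πx = πx' ≫ β
      exact Pi.map_π _ _
  have L1 : (Φ.skyscraperSheafAdjunction.unit.app ((F.sheafPullback A J K).obj G)).hom.app
      (op (F.obj X)) ≫ πx = Φ.toPresheafFiber (F.obj X) x ((F.sheafPullback A J K).obj G).obj :=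
    skyscraper_unit_π Φ ((F.sheafPullback A J K).obj G) (F.obj X) x
  calc (Φ.comap F hF).toPresheafFiber X x G.obj ≫ β
      = ((adj₂.unit.app G).hom.app (op X) ≫ πx') ≫ β := congrArg (fun q => q ≫ β) R1.symm
    _ = (adj₂.unit.app G).hom.app (op X) ≫ (πx' ≫ β) := Category.assoc _ _ _
    _ = (adj₂.unit.app G).hom.app (op X) ≫
          (((Φ.comap F hF).skyscraperSheafFunctor.map β).hom.app (op X) ≫ πx) :=
        congrArg (fun q => (adj₂.unit.app G).hom.app (op X) ≫ q) R2.symm
    _ = ((adj₂.unit.app G).hom.app (op X) ≫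
          ((Φ.comap F hF).skyscraperSheafFunctor.map β).hom.app (op X)) ≫ πx :=
        (Category.assoc _ _ _).symm
    _ = (((F.sheafAdjunctionContinuous A J K).unit.app G).hom.app (op X) ≫
          (Φ.skyscraperSheafAdjunction.unit.app ((F.sheafPullback A J K).obj G)).hom.app
            (op (F.obj X))) ≫ πx := congrArg (fun q => q ≫ πx) e3.symm
    _ = ((F.sheafAdjunctionContinuous A J K).unit.app G).hom.app (op X) ≫
          ((Φ.skyscraperSheafAdjunction.unit.app ((F.sheafPullback A J K).obj G)).hom.app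
            (op (F.obj X)) ≫ πx) := Category.assoc _ _ _
    _ = _ := congrArg (fun q => ((F.sheafAdjunctionContinuous A J K).unit.app G).hom.app (op X) ≫ q) L1

end


section etale

open AlgebraicGeometry Groth.Agent.S0100 Groth.Agent.S19885

variable {X Y : Scheme.{u}} (f : X ⟶ Y) {Ω : Type u} [Field Ω] [IsSepClosed Ω]
  (ξ : Spec (CommRingCat.of Ω) ⟶ X)

instance initiallySmall_bc_fiber :
    InitiallySmall.{u} (EtCoh.bc f ⋙ (Scheme.pointSmallEtale ξ).fiber).Elements :=
  initiallySmall_elements_of_iso (fiberIso f ξ)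

/-- The point of the small etale site of `Y` obtained from `ξ` by composing fibre functors. -/
noncomputable def comapPt : Y.smallEtaleTopology.Point :=
  (Scheme.pointSmallEtale ξ).comap (EtCoh.bc f) (EtCoh.coverPreserving_bc f)

/-- The comap point is the point of the composite geometric point. -/
noncomputable def ptIso : comapPt f ξ ≅ Scheme.pointSmallEtale (ξ ≫ f) where
  hom := ⟨(fiberIso f ξ).hom⟩
  inv := ⟨(fiberIso f ξ).inv⟩
  hom_inv_id := by
    apply Point.hom_ext
    exact (fiberIso f ξ).inv_hom_id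
  inv_hom_id := by
    apply Point.hom_ext
    exact (fiberIso f ξ).hom_inv_id

variable (A : Type*) [Category.{v} A] [HasProducts.{u} A] [HasColimitsOfSize.{u, u} A]
  [((EtCoh.bc f).sheafPushforwardContinuous A Y.smallEtaleTopology
    X.smallEtaleTopology).IsRightAdjoint]

/-- The stalk at `ξ ≫ f` is the stalk at the comap point. -/
noncomputable def stalkIsoComap :
    (Scheme.pointSmallEtale (ξ ≫ f)).sheafFiber (A := A) ≅ (comapPt f ξ).sheafFiber where
  hom := Point.Hom.sheafFiber (ptIso f ξ).hom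
  inv := Point.Hom.sheafFiber (ptIso f ξ).inv
  hom_inv_id := by
    rw [← Point.Hom.sheafFiber_comp, Iso.inv_hom_id, Point.Hom.sheafFiber_id]
  inv_hom_id := by
    rw [← Point.Hom.sheafFiber_comp, Iso.hom_inv_id, Point.Hom.sheafFiber_id]

/-- The stalk of `G` at `ξ ≫ f` is the stalk of `f^* G` at `ξ`, naturally in `G`. -/
noncomputable def stalkPullIso :
    (Scheme.pointSmallEtale (ξ ≫ f)).sheafFiber (A := A) ≅
      (EtCoh.bc f).sheafPullback A Y.smallEtaleTopology X.smallEtaleTopology ⋙
        (Scheme.pointSmallEtale ξ).sheafFiber :=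
  stalkIsoComap f ξ A ≪≫
    (Scheme.pointSmallEtale ξ).sheafFiberComapIso (EtCoh.bc f) (EtCoh.coverPreserving_bc f) A

theorem toPresheafFiber_stalkPullIso (G : Sheaf Y.smallEtaleTopology A) (U : Y.Etale)
    (τ : (Scheme.pointSmallEtale (ξ ≫ f)).fiber.obj U) :
    (Scheme.pointSmallEtale (ξ ≫ f)).toPresheafFiber U τ G.obj ≫
        (stalkPullIso f ξ A).hom.app G =
      (((EtCoh.bc f).sheafAdjunctionContinuous A Y.smallEtaleTopology
        X.smallEtaleTopology).unit.app G).hom.app (op U) ≫
        (Scheme.pointSmallEtale ξ).toPresheafFiber ((EtCoh.bc f).obj U) (liftPt f ξ U τ)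
          (((EtCoh.bc f).sheafPullback A Y.smallEtaleTopology X.smallEtaleTopology).obj G).obj := by
  have h1 : (Scheme.pointSmallEtale (ξ ≫ f)).toPresheafFiber U τ G.obj ≫
      (stalkIsoComap f ξ A).hom.app G =
      (comapPt f ξ).toPresheafFiber U (liftPt f ξ U τ) G.obj := by
    show (Scheme.pointSmallEtale (ξ ≫ f)).toPresheafFiber U τ G.obj ≫
      (Point.Hom.presheafFiber (ptIso f ξ).hom).app G.obj = _
    rw [Point.Hom.presheafFiber_app]
    exact Point.toPresheafFiber_presheafFiberDesc _ _ _ _ _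
  have h2 := toPresheafFiber_comapIso (Scheme.pointSmallEtale ξ) (EtCoh.bc f)
    (EtCoh.coverPreserving_bc f) A G U (liftPt f ξ U τ)
  calc (Scheme.pointSmallEtale (ξ ≫ f)).toPresheafFiber U τ G.obj ≫
        (stalkPullIso f ξ A).hom.app G
      = ((Scheme.pointSmallEtale (ξ ≫ f)).toPresheafFiber U τ G.obj ≫
          (stalkIsoComap f ξ A).hom.app G) ≫
          ((Scheme.pointSmallEtale ξ).sheafFiberComapIso (EtCoh.bc f)
            (EtCoh.coverPreserving_bc f) A).hom.app G := (Category.assoc _ _ _).symm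
    _ = (comapPt f ξ).toPresheafFiber U (liftPt f ξ U τ) G.obj ≫
          ((Scheme.pointSmallEtale ξ).sheafFiberComapIso (EtCoh.bc f)
            (EtCoh.coverPreserving_bc f) A).hom.app G :=
        congrArg (fun q => q ≫ ((Scheme.pointSmallEtale ξ).sheafFiberComapIso (EtCoh.bc f)
            (EtCoh.coverPreserving_bc f) A).hom.app G) h1
    _ = _ := h2

end etale

end Groth.Agent.H4
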