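import Mathlib
import Groth.Prelude.Def_EtCore
import Groth.Agent.H4.StalkPull
import Groth.Agent.H4.GeomPoints

/-!
# Local structure of sections of an inverse image sheaf on the small étale site (helper4 library)

For `f : X ⟶ Y`, `G` a sheaf on `Y_et` with values in a concrete category `A` and `F' = f⁻¹ G`:

* `exists_refine`: refine an étale neighbourhood `V' ⟶ U₁ ×_Y X` along `U₂ ⟶ U₁`.
* `exists_local_rep`: every section of `F'` over `V ⟶ U ×_Y X` is, étale locally on `V`, the unit image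
  of a section of `G` over some `U₁ ⟶ U`.
* `exists_eq_of_unit_eq`: if the unit images of two sections of `G` over `U` agree on `V ⟶ U ×_Y X`,
  then the two sections agree on an étale neighbourhood in `U` of the image of any point of `V`.
-/

set_option autoImplicit false
open CategoryTheory CategoryTheory.Limits AlgebraicGeometry Opposite GrothendieckTopology
universe u v' u' w'

namespace Groth.Agent.H4.PullLocal

open Groth.Agent.H4 Groth.Agent.S0100 Groth.Agent.S19885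

variable {X Y : Scheme.{u}} (f : X ⟶ Y)

theorem exists_refine {U₁ U₂ : Y.Etale} (k₂ : U₂ ⟶ U₁) (V' : X.Etale)
    (φ : V' ⟶ (EtCoh.bc f).obj U₁) (v' : V'.left) (u₂ : U₂.left)
    (hu : k₂.left.base u₂ = (pullback.fst U₁.hom f).base (φ.left.base v')) :
    ∃ (V'' : X.Etale) (c : V'' ⟶ V') (v'' : V''.left) (φ₂ : V'' ⟶ (EtCoh.bc f).obj U₂),
      c.left.base v'' = v' ∧ φ₂ ≫ (EtCoh.bc f).map k₂ = c ≫ φ := by
  obtain ⟨Ω, _, _, ξ, t, ht⟩ := exists_geometric_point V' v'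
  let Φ := Scheme.pointSmallEtale ξ
  let Ψ := Scheme.pointSmallEtale (ξ ≫ f)
  let σ : Φ.fiber.obj ((EtCoh.bc f).obj U₁) := Φ.fiber.map φ t
  let τ₁ : Ψ.fiber.obj U₁ := downPt f ξ U₁ σ
  have hτ₁ : k₂.left.base u₂ = τ₁.left.base (default : Spec (CommRingCat.of Ω)) := by
    rw [hu, ← ht]
    rfl
  obtain ⟨τ₂, hτ₂, -⟩ := exists_fiber_lift (ξ ≫ f) k₂ τ₁ u₂ hτ₁
  let σ₂ : Φ.fiber.obj ((EtCoh.bc f).obj U₂) := liftPt f ξ U₂ τ₂
  have hσ₂ : Φ.fiber.map ((EtCoh.bc f).map k₂) σ₂ = σ := by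
    show Φ.fiber.map ((EtCoh.bc f).map k₂) (liftPt f ξ U₂ τ₂) = σ
    rw [liftPt_map, hτ₂]
    exact liftPt_downPt f ξ U₁ σ
  let e₁ : Φ.fiber.Elements := ⟨V', t⟩
  let e₂ : Φ.fiber.Elements := ⟨(EtCoh.bc f).obj U₂, σ₂⟩
  let e₀ : Φ.fiber.Elements := ⟨(EtCoh.bc f).obj U₁, σ⟩
  let m₁ : e₁ ⟶ e₀ := ⟨φ, rfl⟩
  let m₂ : e₂ ⟶ e₀ := ⟨(EtCoh.bc f).map k₂, hσ₂⟩
  obtain ⟨e, c, φ₂, hc⟩ := IsCofiltered.cospan m₁ m₂
  refine ⟨e.1, c.1, e.2.left.base (default : Spec (CommRingCat.of Ω)), φ₂.1, ?_, ?_⟩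
  · have h1 : Φ.fiber.map c.1 e.2 = t := c.2
    have h2 := congrArg (fun q : Φ.fiber.obj V' =>
      q.left.base (default : Spec (CommRingCat.of Ω))) h1
    exact h2.trans ht
  · exact (congrArg Subtype.val hc).symm

section Sheaves

variable (A : Type u') [Category.{v'} A] [HasProducts.{u} A] [HasColimitsOfSize.{u, u} A]
  {FC : A → A → Type*} {CC : A → Type w'} [∀ X Y, FunLike (FC X Y) (CC X) (CC Y)]
  [ConcreteCategory.{w'} A FC] [PreservesFilteredColimitsOfSize.{u, u} (forget A)]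
  [((EtCoh.bc f).sheafPushforwardContinuous A Y.smallEtaleTopology
    X.smallEtaleTopology).IsRightAdjoint]

theorem germ_unit {Ω : Type u} [Field Ω] [IsSepClosed Ω] (ξ : Spec (CommRingCat.of Ω) ⟶ X)
    (G : Sheaf Y.smallEtaleTopology A) (U : Y.Etale)
    (τ : (Scheme.pointSmallEtale (ξ ≫ f)).fiber.obj U) (a : ToType (G.obj.obj (op U))) :
    (stalkPullIso f ξ A).hom.app G
        ((Scheme.pointSmallEtale (ξ ≫ f)).toPresheafFiber U τ G.obj a) =
      (Scheme.pointSmallEtale ξ).toPresheafFiber ((EtCoh.bc f).obj U) (liftPt f ξ U τ)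
        (((EtCoh.bc f).sheafPullback A Y.smallEtaleTopology X.smallEtaleTopology).obj G).obj
        ((((EtCoh.bc f).sheafAdjunctionContinuous A Y.smallEtaleTopology
          X.smallEtaleTopology).unit.app G).hom.app (op U) a) := by
  have h2 := toPresheafFiber_stalkPullIso f ξ A G U τ
  have h3 := congrArg (fun q => (ConcreteCategory.hom q) a) h2
  exact (ConcreteCategory.comp_apply _ _ a).symm.trans
    (h3.trans (ConcreteCategory.comp_apply _ _ a))

theorem iso_hom_inv {Ω : Type u} [Field Ω] [IsSepClosed Ω] (ξ : Spec (CommRingCat.of Ω) ⟶ X)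
    (G : Sheaf Y.smallEtaleTopology A)
    (p : ToType ((Scheme.pointSmallEtale ξ).presheafFiber.obj
      (((EtCoh.bc f).sheafPullback A Y.smallEtaleTopology X.smallEtaleTopology).obj G).obj)) :
    (stalkPullIso f ξ A).hom.app G ((stalkPullIso f ξ A).inv.app G p) = p := by
  have h5 := congrArg (fun q => (ConcreteCategory.hom q) p)
    ((stalkPullIso f ξ A).inv_hom_id_app G)
  exact (ConcreteCategory.comp_apply _ _ p).symm.trans
    (h5.trans (ConcreteCategory.id_apply p))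

theorem iso_inv_hom {Ω : Type u} [Field Ω] [IsSepClosed Ω] (ξ : Spec (CommRingCat.of Ω) ⟶ X)
    (G : Sheaf Y.smallEtaleTopology A)
    (z : ToType ((Scheme.pointSmallEtale (ξ ≫ f)).presheafFiber.obj G.obj)) :
    (stalkPullIso f ξ A).inv.app G ((stalkPullIso f ξ A).hom.app G z) = z := by
  have h5 := congrArg (fun q => (ConcreteCategory.hom q) z)
    ((stalkPullIso f ξ A).hom_inv_id_app G)
  exact (ConcreteCategory.comp_apply _ _ z).symm.trans
    (h5.trans (ConcreteCategory.id_apply z))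

theorem exists_local_rep (G : Sheaf Y.smallEtaleTopology A) (U : Y.Etale) (V : X.Etale)
    (g : V ⟶ (EtCoh.bc f).obj U)
    (s : ToType ((((EtCoh.bc f).sheafPullback A Y.smallEtaleTopology
      X.smallEtaleTopology).obj G).obj.obj (op V))) (v : V.left) :
    ∃ (V' : X.Etale) (k : V' ⟶ V) (v' : V'.left) (U₁ : Y.Etale) (h : U₁ ⟶ U)
      (φ : V' ⟶ (EtCoh.bc f).obj U₁) (a : ToType (G.obj.obj (op U₁))),
      k.left.base v' = v ∧ φ ≫ (EtCoh.bc f).map h = k ≫ g ∧
      (((EtCoh.bc f).sheafPullback A Y.smallEtaleTopology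
        X.smallEtaleTopology).obj G).obj.map k.op s =
      (((EtCoh.bc f).sheafPullback A Y.smallEtaleTopology
        X.smallEtaleTopology).obj G).obj.map φ.op
        ((((EtCoh.bc f).sheafAdjunctionContinuous A Y.smallEtaleTopology
          X.smallEtaleTopology).unit.app G).hom.app (op U₁) a) := by
  obtain ⟨Ω, _, _, ξ, t, ht⟩ := exists_geometric_point V v
  let Φ := Scheme.pointSmallEtale ξ
  let Ψ := Scheme.pointSmallEtale (ξ ≫ f)
  let F' := ((EtCoh.bc f).sheafPullback A Y.smallEtaleTopology X.smallEtaleTopology).obj G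
  let un := ((EtCoh.bc f).sheafAdjunctionContinuous A Y.smallEtaleTopology
    X.smallEtaleTopology).unit.app G
  let σ : Φ.fiber.obj ((EtCoh.bc f).obj U) := Φ.fiber.map g t
  let τ₀ : Ψ.fiber.obj U := downPt f ξ U σ
  let p : ToType (Φ.presheafFiber.obj F'.obj) := Φ.toPresheafFiber V t F'.obj s
  let p' : ToType (Ψ.presheafFiber.obj G.obj) := (stalkPullIso f ξ A).inv.app G p
  obtain ⟨U₀, τ, a₀, ha₀⟩ := Ψ.toPresheafFiber_jointly_surjective p'
  let d₁ : Ψ.fiber.Elements := ⟨U₀, τ⟩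
  let d₂ : Ψ.fiber.Elements := ⟨U, τ₀⟩
  let d := IsCofiltered.min d₁ d₂
  let r₁ : d ⟶ d₁ := IsCofiltered.minToLeft d₁ d₂
  let r₂ : d ⟶ d₂ := IsCofiltered.minToRight d₁ d₂
  have hr₁ : Ψ.fiber.map r₁.1 d.2 = τ := r₁.2
  have hr₂ : Ψ.fiber.map r₂.1 d.2 = τ₀ := r₂.2
  let a : ToType (G.obj.obj (op d.1)) := G.obj.map r₁.1.op a₀
  have ha : Ψ.toPresheafFiber d.1 d.2 G.obj a = p' := by
    show Ψ.toPresheafFiber d.1 d.2 G.obj (G.obj.map r₁.1.op a₀) = p'
    rw [GrothendieckTopology.Point.toPresheafFiber_w_apply, hr₁]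
    exact ha₀
  have h1 : Φ.toPresheafFiber ((EtCoh.bc f).obj d.1) (liftPt f ξ d.1 d.2) F'.obj
      (un.hom.app (op d.1) a) = p := by
    have h3 := germ_unit f A ξ G d.1 d.2 a
    rw [← h3, ha]
    exact iso_hom_inv f A ξ G p
  have hσ : Φ.fiber.map ((EtCoh.bc f).map r₂.1) (liftPt f ξ d.1 d.2) = σ := by
    rw [liftPt_map, hr₂]
    exact liftPt_downPt f ξ U σ
  let e₁ : Φ.fiber.Elements := ⟨(EtCoh.bc f).obj d.1, liftPt f ξ d.1 d.2⟩
  let e₂ : Φ.fiber.Elements := ⟨V, t⟩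
  let e₀ : Φ.fiber.Elements := ⟨(EtCoh.bc f).obj U, σ⟩
  let m₁ : e₁ ⟶ e₀ := ⟨(EtCoh.bc f).map r₂.1, hσ⟩
  let m₂ : e₂ ⟶ e₀ := ⟨g, rfl⟩
  obtain ⟨e, c₁, c₂, hc⟩ := IsCofiltered.cospan m₁ m₂
  have hc₁ : Φ.fiber.map c₁.1 e.2 = liftPt f ξ d.1 d.2 := c₁.2
  have hc₂ : Φ.fiber.map c₂.1 e.2 = t := c₂.2
  have h6 : Φ.toPresheafFiber e.1 e.2 F'.obj (F'.obj.map c₁.1.op (un.hom.app (op d.1) a)) =
      Φ.toPresheafFiber e.1 e.2 F'.obj (F'.obj.map c₂.1.op s) := by
    rw [GrothendieckTopology.Point.toPresheafFiber_w_apply,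
      GrothendieckTopology.Point.toPresheafFiber_w_apply, hc₁, hc₂]
    exact h1
  obtain ⟨W', c, w', hw', hcw⟩ := (Φ.toPresheafFiber_eq_iff' e.1 e.2 _ _).1 h6
  refine ⟨W', c ≫ c₂.1, w'.left.base (default : Spec (CommRingCat.of Ω)), d.1, r₂.1,
    c ≫ c₁.1, a, ?_, ?_, ?_⟩
  · have e3 : Φ.fiber.map (c ≫ c₂.1) w' = t := by
      rw [Φ.fiber.map_comp]
      show Φ.fiber.map c₂.1 (Φ.fiber.map c w') = t
      rw [hw', hc₂]
    have h7 := congrArg (fun q : Φ.fiber.obj V =>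
      q.left.base (default : Spec (CommRingCat.of Ω))) e3
    exact h7.trans ht
  · have h8 : c₁.1 ≫ (EtCoh.bc f).map r₂.1 = c₂.1 ≫ g := congrArg Subtype.val hc
    rw [Category.assoc, h8, Category.assoc]
  · rw [op_comp, F'.obj.map_comp, op_comp, F'.obj.map_comp, ConcreteCategory.comp_apply,
      ConcreteCategory.comp_apply]
    exact hcw.symm

theorem exists_eq_of_unit_eq (G : Sheaf Y.smallEtaleTopology A) (U : Y.Etale)
    (a₁ a₂ : ToType (G.obj.obj (op U))) (V : X.Etale) (φ : V ⟶ (EtCoh.bc f).obj U) (v : V.left)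
    (h : (((EtCoh.bc f).sheafPullback A Y.smallEtaleTopology
        X.smallEtaleTopology).obj G).obj.map φ.op
        ((((EtCoh.bc f).sheafAdjunctionContinuous A Y.smallEtaleTopology
          X.smallEtaleTopology).unit.app G).hom.app (op U) a₁) =
      (((EtCoh.bc f).sheafPullback A Y.smallEtaleTopology
        X.smallEtaleTopology).obj G).obj.map φ.op
        ((((EtCoh.bc f).sheafAdjunctionContinuous A Y.smallEtaleTopology
          X.smallEtaleTopology).unit.app G).hom.app (op U) a₂)) :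
    ∃ (U' : Y.Etale) (g : U' ⟶ U) (_ : U'.left), G.obj.map g.op a₁ = G.obj.map g.op a₂ := by
  obtain ⟨Ω, _, _, ξ, t, -⟩ := exists_geometric_point V v
  let Φ := Scheme.pointSmallEtale ξ
  let Ψ := Scheme.pointSmallEtale (ξ ≫ f)
  let F' := ((EtCoh.bc f).sheafPullback A Y.smallEtaleTopology X.smallEtaleTopology).obj G
  let un := ((EtCoh.bc f).sheafAdjunctionContinuous A Y.smallEtaleTopology
    X.smallEtaleTopology).unit.app G
  let σ : Φ.fiber.obj ((EtCoh.bc f).obj U) := Φ.fiber.map φ t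
  let τ : Ψ.fiber.obj U := downPt f ξ U σ
  have hl : liftPt f ξ U τ = σ := liftPt_downPt f ξ U σ
  have h5 : Φ.toPresheafFiber ((EtCoh.bc f).obj U) σ F'.obj (un.hom.app (op U) a₁) =
      Φ.toPresheafFiber ((EtCoh.bc f).obj U) σ F'.obj (un.hom.app (op U) a₂) := by
    have e1 := GrothendieckTopology.Point.toPresheafFiber_w_apply Φ φ t F'.obj
      (un.hom.app (op U) a₁)
    have e2 := GrothendieckTopology.Point.toPresheafFiber_w_apply Φ φ t F'.obj
      (un.hom.app (op U) a₂)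
    exact e1.symm.trans ((congrArg (fun z => Φ.toPresheafFiber V t F'.obj z) h).trans e2)
  have key : ∀ a : ToType (G.obj.obj (op U)),
      (stalkPullIso f ξ A).hom.app G (Ψ.toPresheafFiber U τ G.obj a) =
        Φ.toPresheafFiber ((EtCoh.bc f).obj U) σ F'.obj (un.hom.app (op U) a) := by
    intro a
    have h3 := germ_unit f A ξ G U τ a
    rw [hl] at h3
    exact h3
  have h6 : Ψ.toPresheafFiber U τ G.obj a₁ = Ψ.toPresheafFiber U τ G.obj a₂ := by
    have h7 : (stalkPullIso f ξ A).hom.app G (Ψ.toPresheafFiber U τ G.obj a₁) =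
        (stalkPullIso f ξ A).hom.app G (Ψ.toPresheafFiber U τ G.obj a₂) := by
      rw [key, key]
      exact h5
    have h8 := congrArg (fun z => (stalkPullIso f ξ A).inv.app G z) h7
    have h9 : ∀ z, (stalkPullIso f ξ A).inv.app G ((stalkPullIso f ξ A).hom.app G z) = z :=
      fun z => iso_inv_hom f A ξ G z
    exact (h9 _).symm.trans (h8.trans (h9 _))
  obtain ⟨U', g, y, -, hg⟩ := (Ψ.toPresheafFiber_eq_iff' U τ a₁ a₂).1 h6
  exact ⟨U', g, y.left.base (default : Spec (CommRingCat.of Ω)), hg⟩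

end Sheaves

end Groth.Agent.H4.PullLocal
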