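import Mathlib
import Groth.Prelude.Def_EtMod2
import Groth.Agent.H4.GenStalk

/-!
# Subsheaves of constant sheaves of modules on an irreducible scheme (helper4 library)
Module version of `Groth.Agent.H4.GenStalk`.
-/

set_option autoImplicit false
open CategoryTheory CategoryTheory.Limits AlgebraicGeometry Opposite
universe u

namespace Groth.Agent.H4.GenStalkMod

open Groth.Agent.H4 Groth.Agent.H4.GenStalk

instance preservesFilteredColimits_forget_moduleCat_succ (Λ : Type (u + 1)) [CommRing Λ] :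
    PreservesFilteredColimitsOfSize.{u, u} (forget (ModuleCat.{u + 1} Λ)) :=
  preservesFilteredColimitsOfSize_shrink.{u, u + 1, u, u + 1} _

section Eta

variable {Y : Scheme.{u}} {Λ : Type (u + 1)} [CommRing Λ]

/-- The canonical map `N ⟶ (const N)(U)`. -/
noncomputable def etaM (N : ModuleCat.{u + 1} Λ) (U : Y.Etale) :
    N ⟶ ((constantSheaf Y.smallEtaleTopology (ModuleCat.{u + 1} Λ)).obj N).obj.obj (op U) :=
  (toSheafify Y.smallEtaleTopology ((Functor.const (Y.Etale)ᵒᵖ).obj N)).app (op U)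

theorem etaM_map (N : ModuleCat.{u + 1} Λ) {U U' : Y.Etale} (g : U' ⟶ U) :
    etaM N U ≫ ((constantSheaf Y.smallEtaleTopology (ModuleCat.{u + 1} Λ)).obj N).obj.map g.op =
      etaM N U' := by
  have h := (toSheafify Y.smallEtaleTopology ((Functor.const (Y.Etale)ᵒᵖ).obj N)).naturality g.op
  exact h.symm.trans (Category.id_comp _)

theorem etaM_nat {N N' : ModuleCat.{u + 1} Λ} (φ : N ⟶ N') (U : Y.Etale) :
    etaM N U ≫ ((constantSheaf Y.smallEtaleTopology (ModuleCat.{u + 1} Λ)).map φ).hom.app (op U) =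
      φ ≫ etaM N' U := by
  have h := toSheafify_naturality Y.smallEtaleTopology ((Functor.const (Y.Etale)ᵒᵖ).map φ)
  exact (congrArg (fun α => α.app (op U)) h).symm

end Eta

variable {X : Scheme.{u}} {Λ : Type (u + 1)} [CommRing Λ]

/-- The constant sheaf with value `N`. -/
noncomputable abbrev cs (N : (ModuleCat.{u + 1} Λ)) : EtModW.Mod Λ X :=
  (constantSheaf X.smallEtaleTopology (ModuleCat.{u + 1} Λ)).obj N

theorem exists_const_nbhd (N : (ModuleCat.{u + 1} Λ)) (U : X.Etale)
    (t : ToType ((cs (X := X) N).obj.obj (op U))) (u₀ : U.left) :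
    ∃ (V : X.Etale) (g : V ⟶ U) (v : V.left) (n : ToType N), g.left.base v = u₀ ∧
      ((cs (X := X) N).obj.map g.op).hom t = (etaM N V).hom n := by
  have hmem := Presheaf.imageSieve_mem X.smallEtaleTopology
    (toSheafify X.smallEtaleTopology ((Functor.const (X.Etale)ᵒᵖ).obj N)) t
  obtain ⟨V, k, v, ⟨n, hn⟩, hv⟩ := exists_of_mem_smallEtaleTopology _ _ hmem u₀
  exact ⟨V, k, v, n, hv, hn.symm⟩

theorem etaM_injective (N : (ModuleCat.{u + 1} Λ)) (U : X.Etale) (u₀ : U.left) :
    Function.Injective (etaM (Y := X) N U).hom := by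
  intro n₁ n₂ h
  have hmem := Presheaf.equalizerSieve_mem X.smallEtaleTopology
    (toSheafify X.smallEtaleTopology ((Functor.const (X.Etale)ᵒᵖ).obj N)) (X := op U) n₁ n₂ h
  obtain ⟨V, g, v, hg, -⟩ := exists_of_mem_smallEtaleTopology _ _ hmem u₀
  exact hg

theorem map_comp_apply (F : X.Etaleᵒᵖ ⥤ (ModuleCat.{u + 1} Λ)) {U U₁ W : X.Etale}
    (g₁ : U₁ ⟶ U) (c : W ⟶ U₁) (s : ToType (F.obj (op U))) :
    (F.map c.op).hom ((F.map g₁.op).hom s) = (F.map (c ≫ g₁).op).hom s := by
  have h : F.map (c ≫ g₁).op = F.map g₁.op ≫ F.map c.op := by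
    rw [op_comp, F.map_comp]
  exact (congrArg (fun f => f.hom s) h).symm

theorem isIso_of_generic_stalk [IrreducibleSpace ↥X]
    {Ω : Type u} [Field Ω] [IsSepClosed Ω] (ξ : Spec (CommRingCat.of Ω) ⟶ X)
    (hξ : ξ.base default = genericPoint ↥X)
    {N' N : (ModuleCat.{u + 1} Λ)} (ι : N' ⟶ N) (G : EtModW.Mod Λ X)
    (a : cs N' ⟶ G) (b : G ⟶ cs N) [Mono a] [Mono b]
    (hab : a ≫ b = (constantSheaf X.smallEtaleTopology (ModuleCat.{u + 1} Λ)).map ι)
    (hst : IsIso ((EtModW.stalk Λ ξ).map a)) : IsIso a := by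
  have hsurj : Function.Surjective ((Scheme.pointSmallEtale ξ).presheafFiber.map a.hom) := by
    haveI : IsIso ((Scheme.pointSmallEtale ξ).presheafFiber.map a.hom) := hst
    exact (ModuleCat.epi_iff_surjective _).1 inferInstance
  have habV : ∀ V : X.Etale, a.hom.app (op V) ≫ b.hom.app (op V) =
      ((constantSheaf X.smallEtaleTopology (ModuleCat.{u + 1} Λ)).map ι).hom.app (op V) :=
    fun V => congrArg (fun t : cs N' ⟶ cs N => t.hom.app (op V)) hab
  have hbinj : ∀ V : X.Etale, Function.Injective (b.hom.app (op V)).hom := by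
    intro V
    let E : EtModW.Mod Λ X ⥤ (ModuleCat.{u + 1} Λ) :=
      sheafToPresheaf X.smallEtaleTopology (ModuleCat.{u + 1} Λ) ⋙ (evaluation _ _).obj (op V)
    haveI : Mono (E.map b) := inferInstance
    exact (ModuleCat.mono_iff_injective (E.map b)).1 inferInstance
  -- `b (a (const n')) = const (ι n')`
  have e1 : ∀ (V : X.Etale) (n' : ToType N'), (etaM N V).hom (ι.hom n') =
      (b.hom.app (op V)).hom ((a.hom.app (op V)).hom ((etaM N' V).hom n')) := by
    intro V n'
    have h := congrArg (fun f => f.hom n') (etaM_nat ι V)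
    have h' := congrArg (fun f => f.hom ((etaM N' V).hom n')) (habV V)
    exact h.symm.trans h'.symm
  haveI : Sheaf.IsLocallySurjective a := by
    constructor
    intro U s
    apply mem_smallEtaleTopology_of_forall
    intro u₀
    obtain ⟨U₁, g₁, u₁, n, hu₁, hn⟩ := exists_const_nbhd N U ((b.hom.app (op U)).hom s) u₀
    have hopen : IsOpen (Set.range U₁.hom.base) := U₁.hom.isOpenMap.isOpen_range
    have hgen : genericPoint ↥X ∈ Set.range U₁.hom.base := by
      rw [(genericPoint_spec ↥X).mem_open_set_iff hopen]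
      exact ⟨U₁.hom.base u₁, trivial, ⟨u₁, rfl⟩⟩
    obtain ⟨uη, huη⟩ := hgen
    obtain ⟨l, hl1, -⟩ :=
      Scheme.exists_fac_of_etale_of_isSepClosed U₁.hom ξ uη (huη.trans hξ.symm)
    let τ' : (Over.mk ξ : Over X) ⟶ (Scheme.Etale.forget X).obj U₁ := Over.homMk l hl1
    let s₁ : ToType (G.obj.obj (op U₁)) := (G.obj.map g₁.op).hom s
    -- `b s₁ = const n`
    have hbs₁ : (b.hom.app (op U₁)).hom s₁ = (etaM N U₁).hom n := by
      have h := congrArg (fun f => f.hom s) (b.hom.naturality g₁.op)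
      exact h.trans hn
    obtain ⟨W, c, w, z, hz⟩ := exists_lift_of_germ a.hom ξ hsurj U₁ τ' s₁
    obtain ⟨W₂, g₂, w₂, n', -, hn'⟩ := exists_const_nbhd N' W z (w.left.base (default : Spec (CommRingCat.of Ω)))
    have hιn : ι.hom n' = n := by
      apply etaM_injective N W₂ w₂
      rw [e1 W₂ n']
      -- `a (const n') = s₁ |_{W₂}`
      have e2 : (a.hom.app (op W₂)).hom ((etaM N' W₂).hom n') =
          (G.obj.map (g₂ ≫ c).op).hom s₁ := by
        rw [← hn']
        have h := congrArg (fun f => f.hom z) (a.hom.naturality g₂.op)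
        refine h.trans ?_
        have hz' : (a.hom.app (op W)).hom z = (G.obj.map c.op).hom s₁ := hz
        show (G.obj.map g₂.op).hom ((a.hom.app (op W)).hom z) = _
        rw [hz']
        exact map_comp_apply G.obj c g₂ s₁
      rw [e2]
      have h := congrArg (fun f => f.hom s₁) (b.hom.naturality (g₂ ≫ c).op)
      refine h.trans ?_
      show ((cs N).obj.map (g₂ ≫ c).op).hom ((b.hom.app (op U₁)).hom s₁) = _
      rw [hbs₁]
      exact congrArg (fun f => f.hom n) (etaM_map N (g₂ ≫ c))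
    refine ⟨U₁, g₁, u₁, ⟨(etaM N' U₁).hom n', ?_⟩, hu₁⟩
    apply hbinj U₁
    show (b.hom.app (op U₁)).hom ((a.hom.app (op U₁)).hom ((etaM N' U₁).hom n')) =
      (b.hom.app (op U₁)).hom s₁
    rw [← e1 U₁ n', hιn, hbs₁]
  haveI : Epi a := Sheaf.epi_of_isLocallySurjective a
  exact isIso_of_mono_of_epi a



end Groth.Agent.H4.GenStalkMod
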