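import Mathlib
import Groth.Prelude.Def_EtMod2
import Groth.Agent.H4.GenStalkMod
import Groth.Agent.H4.OverConst

/-!
# Restriction to `Over W` and constant sheaves of modules (helper4 library)
Module version of the second half of `Groth.Agent.H4.OverConst`.
-/

set_option autoImplicit false
open CategoryTheory CategoryTheory.Limits AlgebraicGeometry Opposite
universe u

namespace Groth.Agent.H4.OverConstMod

open Groth.Agent.H4 Groth.Agent.H4.GenStalkMod Groth.Agent.H4.OverConst

variable {X : Scheme.{u}} {Λ : Type (u + 1)} [CommRing Λ]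

/-- Sections of a sheaf of modules that agree etale-locally around every point agree. -/
theorem eq_of_locally_eq_mod (G : EtModW.Mod Λ X) (B : X.Etale)
    (x y : G.obj.obj (op B))
    (h : ∀ b : B.left, ∃ (Y : X.Etale) (f : Y ⟶ B) (v : Y.left), f.left.base v = b ∧
      G.obj.map f.op x = G.obj.map f.op y) : x = y := by
  have hsep : Presieve.IsSeparated X.smallEtaleTopology
      (G.obj ⋙ forget (ModuleCat.{u + 1} Λ)) := by
    apply Presieve.IsSheaf.isSeparated
    rw [← isSheaf_iff_isSheaf_of_type]
    exact ((sheafCompose X.smallEtaleTopology (forget (ModuleCat.{u + 1} Λ))).obj G).2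
  have hcov : Presheaf.equalizerSieve (F := G.obj) (X := op B) x y ∈
      X.smallEtaleTopology B := by
    apply mem_smallEtaleTopology_of_forall
    intro b
    obtain ⟨Y, f, v, hv, hf⟩ := h b
    exact ⟨Y, f, v, hf, hv⟩
  exact (hsep _ hcov).ext (fun _ _ hf => hf)

/-- The constant sheaf on `Over W` is the restriction of the constant sheaf. -/
noncomputable def constOverIso (W : X.Etale) (M : ModuleCat.{u + 1} Λ) :
    (constantSheaf (X.smallEtaleTopology.over W) (ModuleCat.{u + 1} Λ)).obj M ≅
      (cs (X := X) M).over W :=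
  ((Over.forget W).pushforwardContinuousSheafificationCompatibility (ModuleCat.{u + 1} Λ)
    (X.smallEtaleTopology.over W) X.smallEtaleTopology).app ((Functor.const _).obj M)

theorem constOverIso_naturality (W : X.Etale) {M N : ModuleCat.{u + 1} Λ} (h : M ⟶ N) :
    (constantSheaf (X.smallEtaleTopology.over W) (ModuleCat.{u + 1} Λ)).map h ≫
        (constOverIso W N).hom =
      (constOverIso W M).hom ≫ (X.smallEtaleTopology.overPullback (ModuleCat.{u + 1} Λ) W).map
        ((constantSheaf X.smallEtaleTopology (ModuleCat.{u + 1} Λ)).map h) :=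
  ((Over.forget W).pushforwardContinuousSheafificationCompatibility (ModuleCat.{u + 1} Λ)
    (X.smallEtaleTopology.over W) X.smallEtaleTopology).hom.naturality ((Functor.const _).map h)

theorem constOverIso_inv_naturality (W : X.Etale) {M N : ModuleCat.{u + 1} Λ} (h : M ⟶ N) :
    (constOverIso W M).inv ≫
        (constantSheaf (X.smallEtaleTopology.over W) (ModuleCat.{u + 1} Λ)).map h =
      (X.smallEtaleTopology.overPullback (ModuleCat.{u + 1} Λ) W).map
        ((constantSheaf X.smallEtaleTopology (ModuleCat.{u + 1} Λ)).map h) ≫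
          (constOverIso W N).inv := by
  rw [Iso.inv_comp_eq, ← Category.assoc, Iso.eq_comp_inv]
  exact constOverIso_naturality W h

theorem exists_common_nbhd {M : Type*} [Finite M] (N : ModuleCat.{u + 1} Λ) (W : X.Etale)
    (w : W.left) (t : M → ToType ((cs (X := X) N).obj.obj (op W))) :
    ∃ (W' : X.Etale) (g : W' ⟶ W) (w' : W'.left) (n : M → ToType N), g.left.base w' = w ∧
      ∀ m, ((cs (X := X) N).obj.map g.op).hom (t m) = (etaM N W').hom (n m) := by
  classical
  cases nonempty_fintype M
  have key : ∀ s : Finset M, ∃ (W' : X.Etale) (g : W' ⟶ W) (w' : W'.left),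
      g.left.base w' = w ∧ ∀ m ∈ s, ∃ n : ToType N,
        ((cs (X := X) N).obj.map g.op).hom (t m) = (etaM N W').hom n := by
    intro s
    induction s using Finset.induction_on with
    | empty => exact ⟨W, 𝟙 W, w, rfl, fun m hm => absurd hm (Finset.notMem_empty m)⟩
    | insert a s ha ih =>
      obtain ⟨W', g, w', hw', hs⟩ := ih
      obtain ⟨V, k, v, n, hv, hn⟩ :=
        exists_const_nbhd N W' (((cs (X := X) N).obj.map g.op).hom (t a)) w'
      refine ⟨V, k ≫ g, v, ?_, ?_⟩
      · show (k.left ≫ g.left).base v = w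
        rw [Scheme.Hom.comp_apply, hv, hw']
      · intro m hm
        rcases Finset.mem_insert.1 hm with rfl | hm
        · exact ⟨n, (map_comp_apply _ g k (t m)).symm.trans hn⟩
        · obtain ⟨n', hn'⟩ := hs m hm
          refine ⟨n', (map_comp_apply _ g k (t m)).symm.trans ?_⟩
          rw [hn']
          exact congrArg (fun f => f.hom n') (etaM_map N k)
  obtain ⟨W', g, w', hw', hs⟩ := key Finset.univ
  choose n hn using fun m => hs m (Finset.mem_univ m)
  exact ⟨W', g, w', n, hw', hn⟩

/-- A morphism between restrictions of constant sheaves of modules, with finitely generated source, is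
étale locally induced by a linear map. -/
theorem LCmap (M N : Type (u + 1)) [AddCommGroup M] [AddCommGroup N] [Module Λ M] [Module Λ N]
    [Module.Finite Λ M] (W : X.Etale) (w : W.left)
    (ψ : (cs (X := X) (ModuleCat.of Λ M)).over W ⟶ (cs (X := X) (ModuleCat.of Λ N)).over W) :
    ∃ (W' : X.Etale) (g : W' ⟶ W) (w' : W'.left) (h : M →ₗ[Λ] N), g.left.base w' = w ∧
      resHom g ψ = (X.smallEtaleTopology.overPullback (ModuleCat.{u + 1} Λ) W').map
        ((constantSheaf X.smallEtaleTopology (ModuleCat.{u + 1} Λ)).map (ModuleCat.ofHom h)) := by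
  let MM : ModuleCat.{u + 1} Λ := ModuleCat.of Λ M
  let NN : ModuleCat.{u + 1} Λ := ModuleCat.of Λ N
  let ψ₀ : (cs (X := X) MM).obj.obj (op W) ⟶ (cs (X := X) NN).obj.obj (op W) :=
    ψ.hom.app (op (Over.mk (𝟙 W)))
  let t : M → ToType ((cs (X := X) NN).obj.obj (op W)) := fun m => ψ₀.hom ((etaM MM W).hom m)
  obtain ⟨S, hS⟩ := (Module.Finite.fg_top : (⊤ : Submodule Λ M).FG)
  obtain ⟨W', g, w', n₀, hw', hn₀⟩ := exists_common_nbhd NN W w (fun m : ↥S => t m.1)
  -- naturality of `ψ` against constants
  have hnat : ∀ (V : X.Etale) (k : V ⟶ W) (m : M),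
      (ψ.hom.app (op (Over.mk k))).hom ((etaM MM V).hom m) =
        ((cs (X := X) NN).obj.map k.op).hom (t m) := by
    intro V k m
    have h1 := ψ.hom.naturality
      (Over.homMk k (Category.comp_id k) : Over.mk k ⟶ Over.mk (𝟙 W)).op
    have h2 := congrArg (fun f => f.hom ((etaM MM W).hom m)) h1
    have h3 := congrArg (fun f => f.hom m) (etaM_map MM k)
    exact (congrArg (fun z => (ψ.hom.app (op (Over.mk k))).hom z) h3).symm.trans h2
  have hinj := etaM_injective NN W' w'
  let Φ : M →ₗ[Λ] ToType ((cs (X := X) NN).obj.obj (op W')) :=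
    ((ψ.hom.app (op (Over.mk g))).hom).comp (etaM MM W').hom
  let E : N →ₗ[Λ] ToType ((cs (X := X) NN).obj.obj (op W')) := (etaM NN W').hom
  have hΦ : ∀ m, Φ m = ((cs (X := X) NN).obj.map g.op).hom (t m) := fun m => hnat W' g m
  have hle : Submodule.span Λ (S : Set M) ≤ (LinearMap.range E).comap Φ := by
    apply Submodule.span_le.2
    intro m hm
    exact ⟨n₀ ⟨m, hm⟩, ((hΦ m).trans (hn₀ ⟨m, hm⟩)).symm⟩
  have hall : ∀ m : M, ∃ n : N, E n = Φ m := by
    intro m
    have hm : m ∈ Submodule.span Λ (S : Set M) := by rw [hS]; exact Submodule.mem_top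
    exact hle hm
  choose n hg_t using hall
  have hn : ∀ m, ((cs (X := X) NN).obj.map g.op).hom (t m) = (etaM NN W').hom (n m) :=
    fun m => (hΦ m).symm.trans (hg_t m).symm
  let h : M →ₗ[Λ] N :=
    { toFun := n
      map_add' := fun a b => by
        apply hinj
        show E (n (a + b)) = E (n a + n b)
        rw [E.map_add, hg_t, hg_t, hg_t, Φ.map_add]
      map_smul' := fun r a => by
        apply hinj
        show E (n (r • a)) = E (r • n a)
        rw [E.map_smul, hg_t, hg_t, Φ.map_smul] }
  refine ⟨W', g, w', h, hw', ?_⟩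
  apply Sheaf.hom_ext
  ext T : 2
  induction T using Opposite.rec with
  | _ T =>
    apply ModuleCat.hom_ext
    ext s
    apply eq_of_locally_eq_mod (cs (X := X) NN) T.left
    intro b
    obtain ⟨V, k, v, m, hv, hm⟩ := exists_const_nbhd MM T.left s b
    refine ⟨V, k, v, hv, ?_⟩
    -- left hand side
    have hL1 := ψ.hom.naturality
      (Over.homMk k rfl : Over.mk ((k ≫ T.hom) ≫ g) ⟶ (Over.map g).obj T).op
    have hL2 := congrArg (fun f => f.hom s) hL1
    have hL3 : (ψ.hom.app (op (Over.mk ((k ≫ T.hom) ≫ g)))).hom ((etaM MM V).hom m) =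
        (etaM NN V).hom (n m) := by
      rw [hnat V ((k ≫ T.hom) ≫ g) m]
      refine (map_comp_apply _ g (k ≫ T.hom) (t m)).symm.trans ?_
      rw [hn m]
      exact congrArg (fun f => f.hom (n m)) (etaM_map NN (k ≫ T.hom))
    have hL : ((cs (X := X) NN).obj.map k.op).hom
        ((ψ.hom.app (op ((Over.map g).obj T))).hom s) = (etaM NN V).hom (n m) := by
      refine hL2.symm.trans ?_
      refine (congrArg (fun z => (ψ.hom.app (op (Over.mk ((k ≫ T.hom) ≫ g)))).hom z) hm).trans hL3
    -- right hand side
    have hR1 := ((constantSheaf X.smallEtaleTopology (ModuleCat.{u + 1} Λ)).map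
      (ModuleCat.ofHom h)).hom.naturality k.op
    have hR2 := congrArg (fun f => f.hom s) hR1
    have hR3 := congrArg (fun f => f.hom m) (etaM_nat (Y := X) (ModuleCat.ofHom h) V)
    have hR : ((cs (X := X) NN).obj.map k.op).hom
        ((((constantSheaf X.smallEtaleTopology (ModuleCat.{u + 1} Λ)).map
          (ModuleCat.ofHom h)).hom.app (op T.left)).hom s) = (etaM NN V).hom (n m) := by
      refine hR2.symm.trans ?_
      refine (congrArg (fun z => (((constantSheaf X.smallEtaleTopology (ModuleCat.{u + 1} Λ)).map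
          (ModuleCat.ofHom h)).hom.app (op V)).hom z) hm).trans hR3
    exact hL.trans hR.symm

end Groth.Agent.H4.OverConstMod
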