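import Mathlib
import Groth.Prelude.Def_EtCore
import Groth.Prelude.Def_EtMod2
import Groth.Agent.H4.OverConstMod
import Groth.Agent.H4.LocConstSerre

/-!
# Finite type locally constant sheaves of modules form a weak Serre subcategory (helper4 library)
Module version of `Groth.Agent.H4.LocConstSerre`.

* `cst a g`: the "constant sections" of a sheaf trivialised over `W` by `a : F.over W ≅ (cs M).over W`.
* `injective_of_mono`, `exact_sections`, `locally_surj_of_epi`: sectionwise consequences of exactness.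
* `exists_common_refinement`: finitely many étale-local properties hold on a common neighbourhood.
* `exists_iso_of_sections`: a criterion for `F.over W ≅ (cs B).over W`.
-/

set_option autoImplicit false
open CategoryTheory CategoryTheory.Limits AlgebraicGeometry Opposite
universe u

namespace Groth.Agent.H4.LocConstSerreMod

open Groth.Agent.H4 Groth.Agent.H4.GenStalkMod Groth.Agent.H4.OverConst Groth.Agent.H4.OverConstMod

variable {X : Scheme.{u}} {Λ : Type (u + 1)} [CommRing Λ]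

section Cst

variable {F : EtModW.Mod Λ X} {W : X.Etale} {M : (ModuleCat.{u + 1} Λ)}

/-- The constant sections of a sheaf trivialised over `W`. -/
noncomputable def cst (a : F.over W ≅ (cs (X := X) M).over W) {V : X.Etale} (g : V ⟶ W) :
    M ⟶ F.obj.obj (op V) :=
  etaM M V ≫ a.inv.hom.app (op (Over.mk g))

theorem cst_map_apply (a : F.over W ≅ (cs (X := X) M).over W) {V V' : X.Etale} (g : V ⟶ W)
    (k : V' ⟶ V) (m : ToType M) :
    (F.obj.map k.op).hom ((cst a g).hom m) = (cst a (k ≫ g)).hom m := by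
  have h1 := a.inv.hom.naturality (Over.homMk k rfl : Over.mk (k ≫ g) ⟶ Over.mk g).op
  have h2 := congrArg (fun f => f.hom ((etaM M V).hom m)) h1
  have h3 := congrArg (fun f => f.hom m) (etaM_map M k)
  exact h2.symm.trans (congrArg (fun z => (a.inv.hom.app (op (Over.mk (k ≫ g)))).hom z) h3)

theorem cst_injective (a : F.over W ≅ (cs (X := X) M).over W) {V : X.Etale} (g : V ⟶ W)
    (v : V.left) : Function.Injective (cst a g).hom := by
  intro m m' h
  apply etaM_injective M V v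
  have h2 : a.inv.hom.app (op (Over.mk g)) ≫ a.hom.hom.app (op (Over.mk g)) = 𝟙 _ :=
    congrArg (fun θ : (cs (X := X) M).over W ⟶ (cs (X := X) M).over W =>
      θ.hom.app (op (Over.mk g))) a.inv_hom_id
  have h3 := congrArg (fun z => (a.hom.hom.app (op (Over.mk g))).hom z) h
  have h4 : ∀ x, (a.hom.hom.app (op (Over.mk g))).hom ((cst a g).hom x) = (etaM M V).hom x :=
    fun x => congrArg (fun f => f.hom ((etaM M V).hom x)) h2
  exact (h4 m).symm.trans (h3.trans (h4 m'))

theorem cst_locally_surj (a : F.over W ≅ (cs (X := X) M).over W) {V : X.Etale} (g : V ⟶ W)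
    (s : ToType (F.obj.obj (op V))) (v : V.left) :
    ∃ (V' : X.Etale) (k : V' ⟶ V) (v' : V'.left) (m : ToType M), k.left.base v' = v ∧
      (F.obj.map k.op).hom s = (cst a (k ≫ g)).hom m := by
  obtain ⟨V', k, v', m, hv', hm⟩ :=
    exists_const_nbhd M V ((a.hom.hom.app (op (Over.mk g))).hom s) v
  refine ⟨V', k, v', m, hv', ?_⟩
  have h1 := a.hom.hom.naturality (Over.homMk k rfl : Over.mk (k ≫ g) ⟶ Over.mk g).op
  have h2 := congrArg (fun f => f.hom s) h1
  have h3 : a.hom.hom.app (op (Over.mk (k ≫ g))) ≫ a.inv.hom.app (op (Over.mk (k ≫ g))) = 𝟙 _ :=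
    congrArg (fun θ : F.over W ⟶ F.over W => θ.hom.app (op (Over.mk (k ≫ g)))) a.hom_inv_id
  have h4 := congrArg (fun f => f.hom ((F.obj.map k.op).hom s)) h3
  refine h4.symm.trans ?_
  exact congrArg (fun z => (a.inv.hom.app (op (Over.mk (k ≫ g)))).hom z) (h2.trans hm)

theorem cst_resIso (a : F.over W ≅ (cs (X := X) M).over W) {W' V : X.Etale} (g : W' ⟶ W)
    (k : V ⟶ W') : cst (resIso g a) k = cst a (k ≫ g) := rfl

end Cst

section Exact

theorem injective_of_mono {F G : EtModW.Mod Λ X} (i : F ⟶ G) [Mono i] (V : X.Etale) :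
    Function.Injective (i.hom.app (op V)).hom := by
  let E : EtModW.Mod Λ X ⥤ (ModuleCat.{u + 1} Λ) :=
    sheafToPresheaf X.smallEtaleTopology (ModuleCat.{u + 1} Λ) ⋙ (evaluation _ _).obj (op V)
  haveI : Mono (E.map i) := inferInstance
  exact (ModuleCat.mono_iff_injective (E.map i)).1 inferInstance

theorem exact_sections (S : ShortComplex (EtModW.Mod Λ X)) (hS : S.ShortExact) (V : X.Etale)
    (t : ToType (S.X₂.obj.obj (op V))) (ht : (S.g.hom.app (op V)).hom t = 0) :
    ∃ s : ToType (S.X₁.obj.obj (op V)), (S.f.hom.app (op V)).hom s = t := by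
  let E : EtModW.Mod Λ X ⥤ (ModuleCat.{u + 1} Λ) :=
    sheafToPresheaf X.smallEtaleTopology (ModuleCat.{u + 1} Λ) ⋙ (evaluation _ _).obj (op V)
  have hex : (S.map E).Exact :=
    hS.exact.map_of_mono_of_preservesKernel E hS.mono_f inferInstance
  rw [ShortComplex.moduleCat_exact_iff] at hex
  exact hex t ht

theorem locally_surj_of_epi {F G : EtModW.Mod Λ X} (p : F ⟶ G) [Epi p] (V : X.Etale)
    (t : ToType (G.obj.obj (op V))) (v : V.left) :
    ∃ (V' : X.Etale) (k : V' ⟶ V) (v' : V'.left) (s : ToType (F.obj.obj (op V'))),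
      k.left.base v' = v ∧ (p.hom.app (op V')).hom s = (G.obj.map k.op).hom t := by
  haveI : Sheaf.IsLocallySurjective p := (Sheaf.isLocallySurjective_iff_epi' _ _).2 inferInstance
  have hIm := Presheaf.imageSieve_mem X.smallEtaleTopology p.hom t
  obtain ⟨V', k, v', ⟨s, hs⟩, hv'⟩ := exists_of_mem_smallEtaleTopology _ _ hIm v
  exact ⟨V', k, v', s, hv', hs⟩

end Exact

/-- A criterion for a sheaf to be constant over `W`: a group `B` of sections over `W` which restricts
injectively to every nonempty `V ⟶ W` and such that every section is locally a restriction of an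
element of `B`. -/
theorem exists_iso_of_sections (F : EtModW.Mod Λ X) (W : X.Etale) (B : (ModuleCat.{u + 1} Λ))
    (ι : B ⟶ F.obj.obj (op W))
    (hinj : ∀ (V : X.Etale) (g : V ⟶ W) (_ : V.left) (b : ToType B),
      (F.obj.map g.op).hom (ι.hom b) = 0 → b = 0)
    (hsurj : ∀ (V : X.Etale) (g : V ⟶ W) (s : ToType (F.obj.obj (op V))) (v : V.left),
      ∃ (V' : X.Etale) (k : V' ⟶ V) (v' : V'.left) (b : ToType B), k.left.base v' = v ∧
        (F.obj.map k.op).hom s = (F.obj.map (k ≫ g).op).hom (ι.hom b)) :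
    Nonempty (F.over W ≅ (cs (X := X) B).over W) := by
  let η : (Functor.const (Over W)ᵒᵖ).obj B ⟶ (F.over W).obj :=
    { app := fun T => ι ≫ F.obj.map T.unop.hom.op
      naturality := fun T T' f => by
        show 𝟙 B ≫ ι ≫ F.obj.map T'.unop.hom.op =
          (ι ≫ F.obj.map T.unop.hom.op) ≫ F.obj.map f.unop.left.op
        rw [Category.id_comp, Category.assoc, ← F.obj.map_comp, ← op_comp, Over.w f.unop] }
  let Θ₀ : sheafify (X.smallEtaleTopology.over W) ((Functor.const (Over W)ᵒᵖ).obj B) ⟶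
      (F.over W).obj :=
    sheafifyLift (X.smallEtaleTopology.over W) η (F.over W).property
  let Θ₁ : (constantSheaf (X.smallEtaleTopology.over W) (ModuleCat.{u + 1} Λ)).obj B ⟶ F.over W :=
    ObjectProperty.homMk Θ₀
  let Θ : (cs (X := X) B).over W ⟶ F.over W := (constOverIso W B).inv ≫ Θ₁
  have hΘ : ∀ {V : X.Etale} (g : V ⟶ W) (b : ToType B),
      (Θ.hom.app (op (Over.mk g))).hom ((etaM B V).hom b) = (F.obj.map g.op).hom (ι.hom b) := by
    intro V g b
    have key1 := Functor.toSheafify_pullbackSheafificationCompatibility (Over.forget W)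
      (ModuleCat.{u + 1} Λ) (X.smallEtaleTopology.over W) X.smallEtaleTopology
      ((Functor.const _).obj B)
    have key2 := congrArg (fun θ => θ.app (op (Over.mk g))) key1
    have key3 : (constOverIso W B).hom.hom.app (op (Over.mk g)) ≫
        (constOverIso W B).inv.hom.app (op (Over.mk g)) = 𝟙 _ :=
      congrArg (fun θ : (constantSheaf (X.smallEtaleTopology.over W) (ModuleCat.{u + 1} Λ)).obj B ⟶
        (constantSheaf (X.smallEtaleTopology.over W) (ModuleCat.{u + 1} Λ)).obj B =>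
          θ.hom.app (op (Over.mk g))) (constOverIso W B).hom_inv_id
    have key4 : toSheafify (X.smallEtaleTopology.over W) ((Functor.const (Over W)ᵒᵖ).obj B) ≫ Θ₀ = η :=
      toSheafify_sheafifyLift (X.smallEtaleTopology.over W) η _
    have key5 := congrArg (fun θ => θ.app (op (Over.mk g))) key4
    let y := ((toSheafify (X.smallEtaleTopology.over W)
      ((Functor.const (Over W)ᵒᵖ).obj B)).app (op (Over.mk g))).hom b
    have e1 : ((constOverIso W B).hom.hom.app (op (Over.mk g))).hom y = (etaM B V).hom b :=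
      congrArg (fun f => f.hom b) key2
    have e2 : ((constOverIso W B).inv.hom.app (op (Over.mk g))).hom
        (((constOverIso W B).hom.hom.app (op (Over.mk g))).hom y) = y :=
      congrArg (fun f => f.hom y) key3
    have e3 : (Θ₀.app (op (Over.mk g))).hom y = (F.obj.map g.op).hom (ι.hom b) :=
      congrArg (fun f => f.hom b) key5
    have e4 : (Θ.hom.app (op (Over.mk g))).hom ((etaM B V).hom b) =
        (Θ₀.app (op (Over.mk g))).hom (((constOverIso W B).inv.hom.app (op (Over.mk g))).hom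
          ((etaM B V).hom b)) := rfl
    rw [e4, ← e1, e2]
    exact e3
  have hΘnat : ∀ {V V' : X.Etale} (g : V ⟶ W) (k : V' ⟶ V)
      (x : ToType ((cs (X := X) B).obj.obj (op V))),
      (Θ.hom.app (op (Over.mk (k ≫ g)))).hom (((cs (X := X) B).obj.map k.op).hom x) =
        (F.obj.map k.op).hom ((Θ.hom.app (op (Over.mk g))).hom x) := by
    intro V V' g k x
    have h1 := Θ.hom.naturality (Over.homMk k rfl : Over.mk (k ≫ g) ⟶ Over.mk g).op
    exact congrArg (fun f => f.hom x) h1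
  haveI : Mono Θ := by
    haveI : ∀ T, Mono (Θ.hom.app T) := by
      intro T
      induction T using Opposite.rec with
      | _ T =>
        apply (ModuleCat.mono_iff_injective _).2
        apply (injective_iff_map_eq_zero _).2
        intro x hx
        apply eq_of_locally_eq_mod (cs (X := X) B) T.left
        intro t
        obtain ⟨V, k, v, b, hv, hb⟩ := exists_const_nbhd B T.left x t
        refine ⟨V, k, v, hv, ?_⟩
        have h1 := hΘnat T.hom k x
        have hx' : (Θ.hom.app (op (Over.mk T.hom))).hom x =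
            (0 : ToType (F.obj.obj (op T.left))) := hx
        have h2 : (Θ.hom.app (op (Over.mk (k ≫ T.hom)))).hom ((etaM B V).hom b) = 0 := by
          rw [← hb]
          refine h1.trans ?_
          rw [hx']
          exact map_zero _
        rw [hΘ] at h2
        have hb0 : b = 0 := hinj V (k ≫ T.hom) v b h2
        show ((cs (X := X) B).obj.map k.op).hom x = ((cs (X := X) B).obj.map k.op).hom 0
        rw [hb, hb0, map_zero, map_zero]
    haveI : Mono Θ.hom := NatTrans.mono_of_mono_app Θ.hom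
    exact Sheaf.Hom.mono_of_presheaf_mono _ _ Θ
  haveI : Sheaf.IsLocallySurjective Θ := by
    constructor
    intro T s
    rw [GrothendieckTopology.mem_over_iff]
    apply mem_smallEtaleTopology_of_forall
    intro t
    obtain ⟨V', k, v', b, hv', hb⟩ := hsurj T.left T.hom s t
    refine ⟨V', k, v', ?_, hv'⟩
    rw [Sieve.overEquiv_iff]
    exact ⟨(etaM B V').hom b, (hΘ (k ≫ T.hom) b).trans hb.symm⟩
  haveI : Epi Θ := Sheaf.epi_of_isLocallySurjective Θ
  haveI : IsIso Θ := isIso_of_mono_of_epi Θ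
  exact ⟨(asIso Θ).symm⟩

section Ext

theorem nat_apply {F G : EtModW.Mod Λ X} (φ : F ⟶ G) {V V' : X.Etale} (k : V' ⟶ V)
    (x : ToType (F.obj.obj (op V))) :
    (φ.hom.app (op V')).hom ((F.obj.map k.op).hom x) =
      (G.obj.map k.op).hom ((φ.hom.app (op V)).hom x) :=
  congrArg (fun f => f.hom x) (φ.hom.naturality k.op)

theorem ext_stage3 (S : ShortComplex (EtModW.Mod Λ X)) (hS : S.ShortExact) {W : X.Etale}
    (A C : ModuleCat.{u + 1} Λ) [Module.Finite Λ A]
    (a₁ : S.X₁.over W ≅ (cs (X := X) A).over W) (a₃ : S.X₃.over W ≅ (cs (X := X) C).over W)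
    {n m : ℕ} (π : (Fin n → Λ) →ₗ[Λ] C) (hπ : Function.Surjective π)
    (ρ : (Fin m → Λ) →ₗ[Λ] (Fin n → Λ)) (hρ : ∀ x, π x = 0 → ∃ x', ρ x' = x)
    (s : (Fin n → Λ) →ₗ[Λ] ToType (S.X₂.obj.obj (op W)))
    (hs : ∀ x, (S.g.hom.app (op W)).hom (s x) = (cst a₃ (𝟙 W)).hom (π x))
    (α : (Fin m → Λ) →ₗ[Λ] A)
    (hα : ∀ x', s (ρ x') = (S.f.hom.app (op W)).hom ((cst a₁ (𝟙 W)).hom (α x'))) :
    ∃ (B : ModuleCat.{u + 1} Λ), Module.Finite Λ B ∧
      Nonempty (S.X₂.over W ≅ (cs (X := X) B).over W) := by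
  haveI := hS.mono_f
  let σ : (A × (Fin n → Λ)) →ₗ[Λ] ToType (S.X₂.obj.obj (op W)) :=
    ((S.f.hom.app (op W)).hom.comp (cst a₁ (𝟙 W)).hom).coprod s
  have hσ : ∀ a x, σ (a, x) = (S.f.hom.app (op W)).hom ((cst a₁ (𝟙 W)).hom a) + s x :=
    fun a x => rfl
  let B : Submodule Λ (ToType (S.X₂.obj.obj (op W))) := LinearMap.range σ
  haveI : Module.Finite Λ ↥B := inferInstanceAs (Module.Finite Λ ↥(LinearMap.range σ))
  refine ⟨ModuleCat.of Λ ↥B, inferInstanceAs (Module.Finite Λ ↥B), ?_⟩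
  apply exists_iso_of_sections S.X₂ W (ModuleCat.of Λ ↥B) (ModuleCat.ofHom B.subtype)
  · -- injectivity
    intro V g v b hb
    obtain ⟨⟨a, x⟩, hax⟩ : b.1 ∈ LinearMap.range σ := b.2
    have hb' : (S.X₂.obj.map g.op).hom (σ (a, x)) = 0 := by
      rw [hax]
      exact hb
    have h1 : (S.g.hom.app (op V)).hom ((S.X₂.obj.map g.op).hom (σ (a, x))) = 0 := by
      rw [hb', map_zero]
    have hzero : ∀ (z : ToType (S.X₁.obj.obj (op W))),
        (S.g.hom.app (op W)).hom ((S.f.hom.app (op W)).hom z) = 0 := fun z =>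
      congrArg (fun θ : S.X₁ ⟶ S.X₃ => (θ.hom.app (op W)).hom z) S.zero
    have h2 : (S.g.hom.app (op W)).hom (σ (a, x)) = (cst a₃ (𝟙 W)).hom (π x) := by
      rw [hσ, map_add, hzero, zero_add, hs]
    rw [nat_apply S.g g, h2, cst_map_apply a₃ (𝟙 W) g (π x)] at h1
    have hx0 : π x = 0 := by
      apply cst_injective a₃ (g ≫ 𝟙 W) v
      rw [h1, map_zero]
    obtain ⟨x', hx'⟩ := hρ x hx0
    have h3 : σ (a, x) = (S.f.hom.app (op W)).hom ((cst a₁ (𝟙 W)).hom (a + α x')) := by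
      rw [hσ, ← hx', hα x', map_add, map_add]
    have h4 : (S.f.hom.app (op V)).hom ((cst a₁ (g ≫ 𝟙 W)).hom (a + α x')) = 0 := by
      rw [← cst_map_apply a₁ (𝟙 W) g, nat_apply S.f g, ← h3]
      exact hb'
    have h5 : (cst a₁ (g ≫ 𝟙 W)).hom (a + α x') = 0 := by
      apply injective_of_mono S.f V
      rw [h4, map_zero]
    have h6 : a + α x' = 0 := by
      apply cst_injective a₁ (g ≫ 𝟙 W) v
      rw [h5, map_zero]
    apply Subtype.ext
    show b.1 = 0
    rw [← hax, h3, h6, map_zero, map_zero]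
  · -- local surjectivity
    intro V g t v
    obtain ⟨V₁, k₁, v₁, c, hv₁, hc⟩ := cst_locally_surj a₃ g ((S.g.hom.app (op V)).hom t) v
    obtain ⟨x, hx⟩ := hπ c
    let g₁ : V₁ ⟶ W := k₁ ≫ g
    let d : ToType (S.X₂.obj.obj (op V₁)) :=
      (S.X₂.obj.map k₁.op).hom t - (S.X₂.obj.map g₁.op).hom (s x)
    have hd : (S.g.hom.app (op V₁)).hom d = 0 := by
      show (S.g.hom.app (op V₁)).hom
        ((S.X₂.obj.map k₁.op).hom t - (S.X₂.obj.map g₁.op).hom (s x)) = 0
      rw [map_sub, nat_apply S.g k₁ t, nat_apply S.g g₁ (s x), hc, hs x, hx,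
        cst_map_apply a₃ (𝟙 W) g₁ c, Category.comp_id, sub_self]
    obtain ⟨y, hy⟩ := exact_sections S hS V₁ d hd
    obtain ⟨V₂, k₂, v₂, a, hv₂, ha⟩ := cst_locally_surj a₁ g₁ y v₁
    refine ⟨V₂, k₂ ≫ k₁, v₂, ⟨σ (a, x), ⟨(a, x), rfl⟩⟩, ?_, ?_⟩
    · show (k₂.left ≫ k₁.left).base v₂ = v
      rw [Scheme.Hom.comp_apply, hv₂, hv₁]
    · have e1 : (S.X₂.obj.map k₁.op).hom t =
          (S.f.hom.app (op V₁)).hom y + (S.X₂.obj.map g₁.op).hom (s x) := by
        rw [hy]
        show _ = ((S.X₂.obj.map k₁.op).hom t - (S.X₂.obj.map g₁.op).hom (s x)) + _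
        abel
      have e2 : (S.X₂.obj.map (k₂ ≫ k₁).op).hom t =
          (S.X₂.obj.map k₂.op).hom ((S.X₂.obj.map k₁.op).hom t) :=
        (map_comp_apply S.X₂.obj k₁ k₂ t).symm
      rw [e2, e1, map_add, ← nat_apply S.f k₂ y, ha, map_comp_apply S.X₂.obj g₁ k₂ (s x)]
      show _ = (S.X₂.obj.map ((k₂ ≫ k₁) ≫ g).op).hom
        ((S.f.hom.app (op W)).hom ((cst a₁ (𝟙 W)).hom a) + s x)
      rw [map_add, ← nat_apply S.f ((k₂ ≫ k₁) ≫ g) _, cst_map_apply a₁ (𝟙 W) ((k₂ ≫ k₁) ≫ g) a,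
        Category.comp_id, Category.assoc]

theorem ext_stage2 (S : ShortComplex (EtModW.Mod Λ X)) (hS : S.ShortExact) {W : X.Etale}
    (w : W.left) (A C : ModuleCat.{u + 1} Λ) [Module.Finite Λ A]
    (a₁ : S.X₁.over W ≅ (cs (X := X) A).over W) (a₃ : S.X₃.over W ≅ (cs (X := X) C).over W)
    {n m : ℕ} (π : (Fin n → Λ) →ₗ[Λ] C) (hπ : Function.Surjective π)
    (ρ : (Fin m → Λ) →ₗ[Λ] (Fin n → Λ)) (hρ : ∀ x, π x = 0 → ∃ x', ρ x' = x)
    (hρ0 : ∀ x', π (ρ x') = 0)
    (s : (Fin n → Λ) →ₗ[Λ] ToType (S.X₂.obj.obj (op W)))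
    (hs : ∀ x, (S.g.hom.app (op W)).hom (s x) = (cst a₃ (𝟙 W)).hom (π x)) :
    ∃ (W' : X.Etale) (g : W' ⟶ W) (w' : W'.left) (B : ModuleCat.{u + 1} Λ),
      g.left.base w' = w ∧ Module.Finite Λ B ∧
        Nonempty (S.X₂.over W' ≅ (cs (X := X) B).over W') := by
  classical
  haveI := hS.mono_f
  let z : Fin m → ToType (S.X₂.obj.obj (op W)) := fun j => s (ρ (Pi.single j 1))
  have hz : ∀ j, (S.g.hom.app (op W)).hom (z j) = 0 := by
    intro j
    show (S.g.hom.app (op W)).hom (s (ρ (Pi.single j 1))) = 0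
    rw [hs, hρ0, map_zero]
  obtain ⟨W', g, w', hw', hall⟩ := LocConstSerre.exists_common_refinement (I := Fin m) W w
    (fun j V g => ∃ a : A, (S.X₂.obj.map g.op).hom (z j) =
      (S.f.hom.app (op V)).hom ((cst a₁ g).hom a))
    (by
      rintro j V g V' k ⟨a, ha⟩
      refine ⟨a, ?_⟩
      rw [← map_comp_apply S.X₂.obj g k (z j), ha, ← nat_apply S.f k, cst_map_apply a₁ g k a])
    (by
      intro j V g v
      obtain ⟨y, hy⟩ := exact_sections S hS W (z j) (hz j)
      obtain ⟨V', k, v', a, hv', ha⟩ := cst_locally_surj a₁ g ((S.X₁.obj.map g.op).hom y) v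
      refine ⟨V', k, v', hv', a, ?_⟩
      rw [← hy, ← nat_apply S.f (k ≫ g) y, ← map_comp_apply S.X₁.obj g k y, ha])
  choose af haf using hall
  let α : (Fin m → Λ) →ₗ[Λ] A := (Pi.basisFun Λ (Fin m)).constr Λ af
  have hα : ∀ j, α (Pi.single j 1) = af j := by
    intro j
    have h := (Pi.basisFun Λ (Fin m)).constr_basis Λ af j
    rw [Pi.basisFun_apply] at h
    exact h
  let L₁ : (Fin m → Λ) →ₗ[Λ] ToType (S.X₂.obj.obj (op W')) :=
    ((S.X₂.obj.map g.op).hom.comp s).comp ρ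
  let L₂ : (Fin m → Λ) →ₗ[Λ] ToType (S.X₂.obj.obj (op W')) :=
    ((S.f.hom.app (op W')).hom.comp (cst a₁ g).hom).comp α
  have hL : L₁ = L₂ := by
    apply (Pi.basisFun Λ (Fin m)).ext
    intro j
    rw [Pi.basisFun_apply]
    show (S.X₂.obj.map g.op).hom (s (ρ (Pi.single j 1))) =
      (S.f.hom.app (op W')).hom ((cst a₁ g).hom (α (Pi.single j 1)))
    rw [hα j]
    exact haf j
  obtain ⟨B, hB, hiso⟩ := ext_stage3 S hS A C (resIso g a₁) (resIso g a₃) π hπ ρ hρ
    ((S.X₂.obj.map g.op).hom.comp s)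
    (by
      intro x
      show (S.g.hom.app (op W')).hom ((S.X₂.obj.map g.op).hom (s x)) = _
      rw [nat_apply S.g g (s x), hs x, cst_map_apply a₃ (𝟙 W) g (π x), cst_resIso,
        Category.comp_id, Category.id_comp])
    α
    (by
      intro x'
      have h := congrArg (fun L : (Fin m → Λ) →ₗ[Λ] ToType (S.X₂.obj.obj (op W')) => L x') hL
      rw [cst_resIso, Category.id_comp]
      exact h)
  exact ⟨W', g, w', B, hw', hB, hiso⟩

/-- Extensions of finite type locally constant sheaves of modules over a Noetherian ring are locally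
constant (local form). -/
theorem ext_local [IsNoetherianRing Λ] (S : ShortComplex (EtModW.Mod Λ X)) (hS : S.ShortExact)
    {W : X.Etale} (w : W.left) (A C : ModuleCat.{u + 1} Λ) [Module.Finite Λ A] [Module.Finite Λ C]
    (a₁ : S.X₁.over W ≅ (cs (X := X) A).over W) (a₃ : S.X₃.over W ≅ (cs (X := X) C).over W) :
    ∃ (W' : X.Etale) (g : W' ⟶ W) (w' : W'.left) (B : ModuleCat.{u + 1} Λ),
      g.left.base w' = w ∧ Module.Finite Λ B ∧
        Nonempty (S.X₂.over W' ≅ (cs (X := X) B).over W') := by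
  classical
  haveI := hS.epi_g
  obtain ⟨n, π, hπ⟩ := Module.Finite.exists_fin' Λ C
  obtain ⟨m, ρ', hρ'⟩ := Module.Finite.exists_fin' Λ ↥(LinearMap.ker π)
  let ρ : (Fin m → Λ) →ₗ[Λ] (Fin n → Λ) := (LinearMap.ker π).subtype.comp ρ'
  have hρ : ∀ x, π x = 0 → ∃ x', ρ x' = x := by
    intro x hx
    obtain ⟨x', hx'⟩ := hρ' ⟨x, hx⟩
    exact ⟨x', congrArg Subtype.val hx'⟩
  have hρ0 : ∀ x', π (ρ x') = 0 := fun x' => (ρ' x').2
  obtain ⟨W₁, g₁, w₁, hw₁, hall⟩ := LocConstSerre.exists_common_refinement (I := Fin n) W w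
    (fun k V g => ∃ t : ToType (S.X₂.obj.obj (op V)),
      (S.g.hom.app (op V)).hom t = (cst a₃ g).hom (π (Pi.single k 1)))
    (by
      rintro c V g V' k ⟨t, ht⟩
      refine ⟨(S.X₂.obj.map k.op).hom t, ?_⟩
      rw [nat_apply S.g k t, ht, cst_map_apply a₃ g k _])
    (by
      intro c V g v
      obtain ⟨V', k, v', t, hv', ht⟩ :=
        locally_surj_of_epi S.g V ((cst a₃ g).hom (π (Pi.single c 1))) v
      refine ⟨V', k, v', hv', t, ?_⟩
      rw [ht, cst_map_apply a₃ g k _])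
  choose sf hsf using hall
  let s : (Fin n → Λ) →ₗ[Λ] ToType (S.X₂.obj.obj (op W₁)) :=
    (Pi.basisFun Λ (Fin n)).constr Λ sf
  have hs0 : ∀ k, s (Pi.single k 1) = sf k := by
    intro k
    have h := (Pi.basisFun Λ (Fin n)).constr_basis Λ sf k
    rw [Pi.basisFun_apply] at h
    exact h
  let L₁ : (Fin n → Λ) →ₗ[Λ] ToType (S.X₃.obj.obj (op W₁)) :=
    (S.g.hom.app (op W₁)).hom.comp s
  let L₂ : (Fin n → Λ) →ₗ[Λ] ToType (S.X₃.obj.obj (op W₁)) :=
    (cst a₃ g₁).hom.comp π
  have hL : L₁ = L₂ := by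
    apply (Pi.basisFun Λ (Fin n)).ext
    intro k
    rw [Pi.basisFun_apply]
    show (S.g.hom.app (op W₁)).hom (s (Pi.single k 1)) = (cst a₃ g₁).hom (π (Pi.single k 1))
    rw [hs0 k]
    exact hsf k
  obtain ⟨W₂, g₂, w₂, B, hw₂, hB, hiso⟩ :=
    ext_stage2 S hS w₁ A C (resIso g₁ a₁) (resIso g₁ a₃) π hπ ρ hρ hρ0 s
      (by
        intro x
        have h := congrArg (fun L : (Fin n → Λ) →ₗ[Λ] ToType (S.X₃.obj.obj (op W₁)) => L x) hL
        rw [cst_resIso, Category.id_comp]
        exact h)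
  refine ⟨W₂, g₂ ≫ g₁, w₂, B, ?_, hB, hiso⟩
  show (g₂.left ≫ g₁.left).base w₂ = w
  rw [Scheme.Hom.comp_apply, hw₂, hw₁]

end Ext

section FTLC

theorem ftlc_of_local (F : EtModW.Mod Λ X)
    (h : ∀ x : X, ∃ (W : X.Etale) (w : W.left) (B : ModuleCat.{u + 1} Λ),
      W.hom.base w = x ∧ Module.Finite Λ B ∧ Nonempty (F.over W ≅ (cs (X := X) B).over W)) :
    EtModW.IsFTLocConst Λ F := by
  choose W w B hw hfin hiso using h
  refine ⟨↥X, W, fun x => ⟨x, w x, hw x⟩, fun x => ?_⟩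
  obtain ⟨e⟩ := hiso x
  exact ⟨B x, inferInstance, inferInstance, hfin x, ⟨e ≪≫ (constOverIso (W x) (B x)).symm⟩⟩

theorem exists_common_triv (F G : EtModW.Mod Λ X) (hF : EtModW.IsFTLocConst Λ F)
    (hG : EtModW.IsFTLocConst Λ G) (x : X) :
    ∃ (W : X.Etale) (w : W.left) (M N : ModuleCat.{u + 1} Λ), W.hom.base w = x ∧
      Module.Finite Λ M ∧ Module.Finite Λ N ∧ Nonempty (F.over W ≅ (cs (X := X) M).over W) ∧
        Nonempty (G.over W ≅ (cs (X := X) N).over W) := by
  obtain ⟨ι₁, U, hU, hF'⟩ := hF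
  obtain ⟨ι₂, V, hV, hG'⟩ := hG
  obtain ⟨i, y, hy⟩ := hU x
  obtain ⟨j, z, hz⟩ := hV x
  obtain ⟨w, hw⟩ := exists_prod_point (U i) (V j) y z (hy.trans hz.symm)
  obtain ⟨M₀, _, _, hM₀, ⟨α₀⟩⟩ := hF' i
  obtain ⟨N₀, _, _, hN₀, ⟨β₀⟩⟩ := hG' j
  exact ⟨prodEt (U i) (V j), w, ModuleCat.of Λ M₀, ModuleCat.of Λ N₀, hw.trans hy, hM₀, hN₀,
    ⟨resIso (prodFst (U i) (V j)) (α₀ ≪≫ constOverIso (U i) _)⟩,
    ⟨resIso (prodSnd (U i) (V j)) (β₀ ≪≫ constOverIso (V j) _)⟩⟩

end FTLC

section KerCoker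

instance preservesColimits_overPullback (W : X.Etale) :
    PreservesColimitsOfSize.{0, 0}
      (X.smallEtaleTopology.overPullback (ModuleCat.{u + 1} Λ) W) :=
  ((Over.forget W).sheafAdjunctionCocontinuous (ModuleCat.{u + 1} Λ)
    (X.smallEtaleTopology.over W) X.smallEtaleTopology).leftAdjoint_preservesColimits

instance preservesFiniteLimits_constantSheaf :
    PreservesFiniteLimits (constantSheaf X.smallEtaleTopology (ModuleCat.{u + 1} Λ)) := by
  unfold constantSheaf
  infer_instance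

theorem finite_of_mono [IsNoetherianRing Λ] {K M : ModuleCat.{u + 1} Λ} (i : K ⟶ M) [Mono i]
    [Module.Finite Λ M] : Module.Finite Λ K :=
  Module.Finite.of_injective i.hom ((ModuleCat.mono_iff_injective i).1 inferInstance)

theorem finite_of_epi {N Q : ModuleCat.{u + 1} Λ} (p : N ⟶ Q) [Epi p] [Module.Finite Λ N] :
    Module.Finite Λ Q :=
  Module.Finite.of_surjective p.hom ((ModuleCat.epi_iff_surjective p).1 inferInstance)

/-- Kernels and cokernels of maps of finite type locally constant sheaves of modules over a Noetherian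
ring are locally constant of finite type (local form). -/
theorem ker_coker_local [IsNoetherianRing Λ] (F G : EtModW.Mod Λ X) (φ : F ⟶ G) {W : X.Etale}
    (w : W.left) (M N : ModuleCat.{u + 1} Λ) [Module.Finite Λ M] [Module.Finite Λ N]
    (a : F.over W ≅ (cs (X := X) M).over W) (b : G.over W ≅ (cs (X := X) N).over W) :
    ∃ (W' : X.Etale) (g : W' ⟶ W) (w' : W'.left) (K Q : ModuleCat.{u + 1} Λ),
      g.left.base w' = w ∧ Module.Finite Λ K ∧ Module.Finite Λ Q ∧
      Nonempty ((kernel φ).over W' ≅ (cs (X := X) K).over W') ∧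
      Nonempty ((cokernel φ).over W' ≅ (cs (X := X) Q).over W') := by
  let ψ : (cs (X := X) (ModuleCat.of Λ M)).over W ⟶ (cs (X := X) (ModuleCat.of Λ N)).over W :=
    a.inv ≫ (X.smallEtaleTopology.overPullback (ModuleCat.{u + 1} Λ) W).map φ ≫ b.hom
  obtain ⟨W', g, w', h, hgw, hψ⟩ := OverConstMod.LCmap M N W w ψ
  let hh : M ⟶ N := ModuleCat.ofHom h
  let G' := X.smallEtaleTopology.overPullback (ModuleCat.{u + 1} Λ) W'
  let cS := constantSheaf X.smallEtaleTopology (ModuleCat.{u + 1} Λ)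
  have sq : G'.map φ ≫ (resIso g b).hom = (resIso g a).hom ≫ G'.map (cS.map hh) := by
    show G'.map φ ≫ resHom g b.hom = resHom g a.hom ≫ G'.map (cS.map hh)
    have e : resHom g ψ = G'.map (cS.map hh) := hψ
    rw [← e, ← resHom_comp, ← resHom_overPullback_map g φ, ← resHom_comp]
    congr 1
    show _ = a.hom ≫ a.inv ≫ _
    rw [Iso.hom_inv_id_assoc]
  haveI : Module.Finite Λ (kernel hh : ModuleCat.{u + 1} Λ) := finite_of_mono (kernel.ι hh)
  haveI : Module.Finite Λ (cokernel hh : ModuleCat.{u + 1} Λ) := finite_of_epi (cokernel.π hh)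
  refine ⟨W', g, w', kernel hh, cokernel hh, hgw, inferInstance, inferInstance, ⟨?_⟩, ⟨?_⟩⟩
  · exact PreservesKernel.iso G' φ ≪≫
      kernel.mapIso (G'.map φ) (G'.map (cS.map hh)) (resIso g a) (resIso g b) sq ≪≫
      (PreservesKernel.iso G' (cS.map hh)).symm ≪≫
      G'.mapIso (PreservesKernel.iso cS hh).symm
  · exact PreservesCokernel.iso G' φ ≪≫
      cokernel.mapIso (G'.map φ) (G'.map (cS.map hh)) (resIso g a) (resIso g b) sq ≪≫
      (PreservesCokernel.iso G' (cS.map hh)).symm ≪≫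
      G'.mapIso (PreservesCokernel.iso cS hh).symm

end KerCoker

end Groth.Agent.H4.LocConstSerreMod
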