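import Mathlib
import Groth.Prelude.Def_EtCore
import Groth.Agent.H4.PullLocal
import Groth.Prelude.Def_EtMod2
import Groth.Agent.H4.LocConstSerreMod

/-!
# Inverse image of locally constant étale sheaves of modules (helper4 library)

* `pull_over_iso`: if `G` is constant with value `M` over `U`, then `f⁻¹ G` is constant with value `M`
  over `U ×_Y X`.
-/

set_option autoImplicit false
open CategoryTheory CategoryTheory.Limits AlgebraicGeometry Opposite
universe u

namespace Groth.Agent.H4.PullLCMod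

open Groth.Agent.H4 Groth.Agent.H4.GenStalkMod Groth.Agent.H4.OverConst Groth.Agent.H4.OverConstMod
  Groth.Agent.H4.LocConstSerreMod Groth.Agent.H4.PullLocal

instance hasLimitsOfSize_moduleCat_succ (Λ : Type (u + 1)) [CommRing Λ] :
    HasLimitsOfSize.{u, u} (ModuleCat.{u + 1} Λ) :=
  ModuleCat.hasLimitsOfSize.{u, u, u + 1, u + 1}

variable {X Y : Scheme.{u}} (f : X ⟶ Y) {Λ : Type (u + 1)} [CommRing Λ]

theorem map_comp_apply (P : X.Etaleᵒᵖ ⥤ (ModuleCat.{u + 1} Λ)) {V₁ V₂ V₃ : X.Etale}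
    (p : V₁ ⟶ V₂) (q : V₂ ⟶ V₃) (x : ToType (P.obj (op V₃))) :
    (P.map (p ≫ q).op).hom x = (P.map p.op).hom ((P.map q.op).hom x) := by
  rw [op_comp, P.map_comp]
  rfl

theorem unit_nat (G : EtModW.Mod Λ Y) {U₁ U₂ : Y.Etale} (k : U₂ ⟶ U₁)
    (x : ToType (G.obj.obj (op U₁))) :
    (((EtModW.pull Λ f).obj G).obj.map ((EtCoh.bc f).map k).op).hom
        (((((EtCoh.bc f).sheafAdjunctionContinuous (ModuleCat.{u + 1} Λ) Y.smallEtaleTopology X.smallEtaleTopology).unit.app G).hom.app (op U₁)).hom x) =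
      ((((EtCoh.bc f).sheafAdjunctionContinuous (ModuleCat.{u + 1} Λ) Y.smallEtaleTopology X.smallEtaleTopology).unit.app G).hom.app (op U₂)).hom ((G.obj.map k.op).hom x) :=
  (congrArg (fun q => q.hom x) ((((EtCoh.bc f).sheafAdjunctionContinuous (ModuleCat.{u + 1} Λ) Y.smallEtaleTopology X.smallEtaleTopology).unit.app G).hom.naturality k.op)).symm

theorem pull_over_iso (G : EtModW.Mod Λ Y) (U : Y.Etale) (M : (ModuleCat.{u + 1} Λ))
    (a : G.over U ≅ (cs (X := Y) M).over U) :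
    Nonempty (((EtModW.pull Λ f).obj G).over ((EtCoh.bc f).obj U) ≅
      (cs (X := X) M).over ((EtCoh.bc f).obj U)) := by
  let F' : EtModW.Mod Λ X := (EtModW.pull Λ f).obj G
  let un := ((EtCoh.bc f).sheafAdjunctionContinuous (ModuleCat.{u + 1} Λ) Y.smallEtaleTopology X.smallEtaleTopology).unit.app G
  let ι : M ⟶ F'.obj.obj (op ((EtCoh.bc f).obj U)) := cst a (𝟙 U) ≫ un.hom.app (op U)
  have hι : ∀ b : ToType M, ι.hom b = (un.hom.app (op U)).hom ((cst a (𝟙 U)).hom b) :=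
    fun b => rfl
  apply exists_iso_of_sections F' ((EtCoh.bc f).obj U) M ι
  · intro V g v b hb
    have z1 : (cst a (𝟙 U)).hom 0 = 0 := map_zero _
    have z2 : (un.hom.app (op U)).hom ((cst a (𝟙 U)).hom 0) = 0 := by
      rw [z1]
      exact map_zero _
    have z3 : (F'.obj.map g.op).hom ((un.hom.app (op U)).hom ((cst a (𝟙 U)).hom 0)) = 0 :=
      (congrArg (fun z : ToType (F'.obj.obj (op ((EtCoh.bc f).obj U))) =>
        (F'.obj.map g.op).hom z) z2).trans (map_zero _)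
    have h0 : (F'.obj.map g.op).hom ((un.hom.app (op U)).hom ((cst a (𝟙 U)).hom b)) =
        (F'.obj.map g.op).hom ((un.hom.app (op U)).hom ((cst a (𝟙 U)).hom 0)) :=
      hb.trans z3.symm
    obtain ⟨U', g', u', hg'⟩ :=
      exists_eq_of_unit_eq f (ModuleCat.{u + 1} Λ) G U _ _ V g v h0
    have hg'' : (G.obj.map g'.op).hom ((cst a (𝟙 U)).hom b) =
        (G.obj.map g'.op).hom ((cst a (𝟙 U)).hom 0) := hg'
    have h1 := cst_map_apply a (𝟙 U) g' b
    have h2 := cst_map_apply a (𝟙 U) g' 0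
    have h3 := cst_injective a (g' ≫ 𝟙 U) u' (h1.symm.trans (hg''.trans h2))
    exact h3
  · intro V g s v
    obtain ⟨V', k, v', U₁, h, φ, a₁, hv', hφ, hs⟩ :=
      exists_local_rep f (ModuleCat.{u + 1} Λ) G U V g s v
    have hs' : (F'.obj.map k.op).hom s =
        (F'.obj.map φ.op).hom ((un.hom.app (op U₁)).hom a₁) := hs
    obtain ⟨U₂, k₂, u₂, b, hu₂, hb⟩ :=
      cst_locally_surj a h a₁ ((pullback.fst U₁.hom f).base (φ.left.base v'))
    obtain ⟨V'', c, v'', φ₂, hv'', hφ₂⟩ := exists_refine f k₂ V' φ v' u₂ hu₂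
    refine ⟨V'', c ≫ k, v'', b, ?_, ?_⟩
    · have e0 : (c ≫ k).left.base v'' = k.left.base (c.left.base v'') := rfl
      rw [e0, hv'', hv']
    · have e1 : (c ≫ k) ≫ g = φ₂ ≫ (EtCoh.bc f).map (k₂ ≫ h) := by
        rw [Category.assoc, ← hφ, ← Category.assoc, ← hφ₂, Category.assoc, ← Functor.map_comp]
      rw [e1, map_comp_apply F'.obj c k s, hs', ← map_comp_apply F'.obj c φ, ← hφ₂,
        map_comp_apply F'.obj φ₂ ((EtCoh.bc f).map k₂),
        map_comp_apply F'.obj φ₂ ((EtCoh.bc f).map (k₂ ≫ h)), hι b]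
      congr 1
      have e2 := unit_nat f G k₂ a₁
      have e3 := unit_nat f G (k₂ ≫ h) ((cst a (𝟙 U)).hom b)
      have e4 := cst_map_apply a (𝟙 U) (k₂ ≫ h) b
      have e5 : (k₂ ≫ h) ≫ 𝟙 U = k₂ ≫ h := Category.comp_id _
      rw [e5] at e4
      exact e2.trans ((congrArg (fun z => (un.hom.app (op U₂)).hom z) (hb.trans e4.symm)).trans
        e3.symm)

end Groth.Agent.H4.PullLCMod
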