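import Mathlib
import Groth.Prelude.Def_PBC
import Groth.Agent.H24.ConsAtoms

/-!
# (Q3) of helper24's S0130 squad: a finite constructible cover is refined by a finite partition
into locally closed constructible pieces (atoms of a finite family of retrocompact opens).
-/

set_option autoImplicit false
universe u
open CategoryTheory CategoryTheory.Limits AlgebraicGeometry Topology

namespace Groth.Agent.H4.EtCons_Q3

open Groth.Agent.H24.ConsAtoms TopologicalSpace

theorem exists_locallyClosed_partition {X : Type*} [TopologicalSpace X] (m : ℕ) (C : Fin m → Set X) (hC : ∀ i, Topology.IsConstructible (C i)) (hcov : (⋃ i, C i) = Set.univ) : ∃ (N : ℕ) (Q : Fin N → Set X) (i : Fin N → Fin m), (∀ k, IsLocallyClosed (Q k)) ∧ (∀ k, Topology.IsConstructible (Q k)) ∧ Pairwise (fun k l => Disjoint (Q k) (Q l)) ∧ (⋃ k, Q k) = Set.univ ∧ ∀ k, Q k ⊆ C (i k) := by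
  classical
  obtain ⟨𝒪, h𝒪, hsat⟩ := exists_sat_finite (Finset.univ : Finset (Fin m)) C (fun i _ => hC i)
  let T := {S : Finset (Opens X) // S ∈ 𝒪.powerset ∧ (atom 𝒪 S).Nonempty}
  haveI : Finite T := Finite.of_injective
    (fun t : T => (⟨t.1, t.2.1⟩ : {S // S ∈ 𝒪.powerset}))
    (fun a b h => Subtype.ext (congrArg (fun z : {S // S ∈ 𝒪.powerset} => z.1) h))
  letI : Fintype T := Fintype.ofFinite T
  let e : T ≃ Fin (Fintype.card T) := Fintype.equivFin T
  have hsub : ∀ t : T, t.1 ⊆ 𝒪 := fun t => Finset.mem_powerset.mp t.2.1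
  have hchoose : ∀ t : T, ∃ i : Fin m, atom 𝒪 t.1 ⊆ C i := by
    rintro ⟨S, hS, x, hx⟩
    have hxU : x ∈ ⋃ i, C i := by rw [hcov]; trivial
    obtain ⟨i, hi⟩ := Set.mem_iUnion.mp hxU
    exact ⟨i, atom_subset_of_sat (hsat i (Finset.mem_univ i)) hx hi⟩
  choose idx hidx using hchoose
  refine ⟨Fintype.card T, fun k => atom 𝒪 (e.symm k).1, fun k => idx (e.symm k), ?_, ?_, ?_, ?_, ?_⟩
  · intro k
    show IsLocallyClosed (atom 𝒪 (e.symm k).1)
    rw [atom_eq (hsub _), Set.diff_eq]
    exact (atomIn _).isOpen.isLocallyClosed.inter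
      (atomOut _ _).isOpen.isClosed_compl.isLocallyClosed
  · intro k
    exact isConstructible_atom (hsub _) h𝒪
  · intro k l hkl
    apply atom_disjoint (hsub _) (hsub _)
    intro h
    apply hkl
    have h2 : e.symm k = e.symm l := Subtype.ext h
    exact e.symm.injective h2
  · rw [Set.eq_univ_iff_forall]
    intro x
    obtain ⟨S, hS, hx⟩ := exists_mem_atom 𝒪 x
    let t : T := ⟨S, Finset.mem_powerset.mpr hS, ⟨x, hx⟩⟩
    refine Set.mem_iUnion.mpr ⟨e t, ?_⟩
    show x ∈ atom 𝒪 (e.symm (e t)).1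
    rw [Equiv.symm_apply_apply]
    exact hx
  · intro k
    exact hidx _

end Groth.Agent.H4.EtCons_Q3
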