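import Mathlib
import Groth.Prelude.Def_EtBase
import Groth.Agent.H4.EtaleRes
import Groth.Agent.S19885
import Groth.Agent.S0633

/-!
For a closed immersion `i : Z ⟶ X`, base change `X.Etale ⥤ Z.Etale` is cover dense and locally full
for the etale topology of `Z`.
-/

set_option autoImplicit false
open CategoryTheory CategoryTheory.Limits AlgebraicGeometry Opposite
universe u

namespace Groth.Agent.H4

open Groth.Agent.S19885

variable {Z X : Scheme.{u}} (i : Z ⟶ X)

/-- Fibre product of two etale `X`-schemes. -/
noncomputable def prodEt (U V : X.Etale) : X.Etale :=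
  Scheme.Etale.mk (pullback.fst U.hom V.hom ≫ U.hom)

noncomputable def prodFst (U V : X.Etale) : prodEt U V ⟶ U :=
  MorphismProperty.Over.homMk (pullback.fst U.hom V.hom) rfl trivial

noncomputable def prodSnd (U V : X.Etale) : prodEt U V ⟶ V :=
  MorphismProperty.Over.homMk (pullback.snd U.hom V.hom) (by
    show pullback.snd U.hom V.hom ≫ V.hom = pullback.fst U.hom V.hom ≫ U.hom
    exact pullback.condition.symm) trivial

theorem prodEt_hom (U V : X.Etale) :
    (prodEt U V).hom = pullback.fst U.hom V.hom ≫ U.hom := rfl

theorem prodFst_left (U V : X.Etale) : (prodFst U V).left = pullback.fst U.hom V.hom := rfl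

theorem prodSnd_left (U V : X.Etale) : (prodSnd U V).left = pullback.snd U.hom V.hom := rfl

section graph

variable {U V : X.Etale} (f : (EtCoh.bc i).obj U ⟶ (EtCoh.bc i).obj V)

set_option backward.isDefEq.respectTransparency.types false in
/-- The underlying morphism of `f`, with explicit source and target. -/
noncomputable def fLeft : pullback U.hom i ⟶ pullback V.hom i := f.left

set_option backward.isDefEq.respectTransparency.types false in
theorem fLeft_snd : fLeft i f ≫ pullback.snd V.hom i = pullback.snd U.hom i := Over.w f.hom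

theorem graph_c1 :
    pullback.fst U.hom i ≫ U.hom = (fLeft i f ≫ pullback.fst V.hom i) ≫ V.hom := by
  calc pullback.fst U.hom i ≫ U.hom = pullback.snd U.hom i ≫ i := pullback.condition
    _ = (fLeft i f ≫ pullback.snd V.hom i) ≫ i := by rw [fLeft_snd]
    _ = fLeft i f ≫ (pullback.snd V.hom i ≫ i) := Category.assoc _ _ _
    _ = fLeft i f ≫ (pullback.fst V.hom i ≫ V.hom) := by rw [pullback.condition]
    _ = (fLeft i f ≫ pullback.fst V.hom i) ≫ V.hom := (Category.assoc _ _ _).symm

theorem graph_c2 :
    pullback.lift (pullback.fst U.hom i) (fLeft i f ≫ pullback.fst V.hom i) (graph_c1 i f) ≫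
      (prodEt U V).hom = pullback.snd U.hom i ≫ i := by
  rw [prodEt_hom, ← Category.assoc, pullback.lift_fst]
  exact pullback.condition

/-- The graph of `f`, as a morphism `U ×_X Z ⟶ (U ×_X V) ×_X Z`. -/
noncomputable def graph : pullback U.hom i ⟶ pullback (prodEt U V).hom i :=
  pullback.lift
    (pullback.lift (pullback.fst U.hom i) (fLeft i f ≫ pullback.fst V.hom i) (graph_c1 i f))
    (pullback.snd U.hom i) (graph_c2 i f)

theorem graph_fst : graph i f ≫ pullback.fst (prodEt U V).hom i =
    pullback.lift (pullback.fst U.hom i) (fLeft i f ≫ pullback.fst V.hom i) (graph_c1 i f) :=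
  pullback.lift_fst _ _ _

theorem graph_snd : graph i f ≫ pullback.snd (prodEt U V).hom i = pullback.snd U.hom i :=
  pullback.lift_snd _ _ _

set_option backward.isDefEq.respectTransparency.types false in
/-- The underlying morphism of the base change of a morphism, with explicit source and target. -/
noncomputable def bcLeft {U' U : X.Etale} (g : U' ⟶ U) : pullback U'.hom i ⟶ pullback U.hom i :=
  ((EtCoh.bc i).map g).left

set_option backward.isDefEq.respectTransparency.types false in
theorem bcLeft_fst {U' U : X.Etale} (g : U' ⟶ U) :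
    bcLeft i g ≫ pullback.fst U.hom i = pullback.fst U'.hom i ≫ g.left := bc_map_fst i g

set_option backward.isDefEq.respectTransparency.types false in
theorem bcLeft_snd {U' U : X.Etale} (g : U' ⟶ U) :
    bcLeft i g ≫ pullback.snd U.hom i = pullback.snd U'.hom i := bc_map_snd i g

set_option backward.isDefEq.respectTransparency.types false in
theorem bcLeft_comp {U'' U' U : X.Etale} (g' : U'' ⟶ U') (g : U' ⟶ U) :
    bcLeft i (g' ≫ g) = bcLeft i g' ≫ bcLeft i g := by
  unfold bcLeft
  rw [Functor.map_comp]
  rfl

theorem graph_p1 : graph i f ≫ bcLeft i (prodFst U V) = 𝟙 _ := by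
  refine pullback.hom_ext (f := U.hom) (g := i) ?_ ?_
  · rw [Category.assoc, bcLeft_fst, ← Category.assoc, graph_fst, prodFst_left]
    exact (pullback.lift_fst _ _ _).trans (Category.id_comp _).symm
  · rw [Category.assoc, bcLeft_snd, graph_snd, Category.id_comp]

theorem graph_p2 : graph i f ≫ bcLeft i (prodSnd U V) = fLeft i f := by
  refine pullback.hom_ext (f := V.hom) (g := i) ?_ ?_
  · rw [Category.assoc, bcLeft_fst, ← Category.assoc, graph_fst, prodSnd_left]
    exact pullback.lift_snd _ _ _
  · rw [Category.assoc, bcLeft_snd, graph_snd, fLeft_snd]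

set_option backward.isDefEq.respectTransparency.types false in
instance etale_bcLeft {U' U : X.Etale} (g : U' ⟶ U) : Etale (bcLeft i g) := by
  have h : Etale ((EtCoh.bc i).map g).left := inferInstance
  exact h

theorem isOpenImmersion_of_comp_etale {A B C : Scheme.{u}} (a : A ⟶ B) (b : B ⟶ C) [Etale b]
    (h : IsOpenImmersion (a ≫ b)) : IsOpenImmersion a := by
  have hP : MorphismProperty.HasOfPostcompProperty @IsOpenImmersion
      (@LocallyOfFiniteType ⊓ @FormallyUnramified) := by
    rw [MorphismProperty.hasOfPostcompProperty_iff_le_diagonal]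
    intro A B g ⟨h1, h2⟩
    exact inferInstanceAs (IsOpenImmersion (pullback.diagonal g))
  exact MorphismProperty.of_postcomp (W := @IsOpenImmersion)
    (W' := @LocallyOfFiniteType ⊓ @FormallyUnramified) a b ⟨inferInstance, inferInstance⟩ h

instance isOpenImmersion_graph : IsOpenImmersion (graph i f) := by
  apply isOpenImmersion_of_comp_etale (graph i f) (bcLeft i (prodFst U V))
  rw [graph_p1]
  infer_instance

end graph

variable [IsClosedImmersion i]

set_option backward.isDefEq.respectTransparency.types false in
instance isCoverDense_bc : (EtCoh.bc i).IsCoverDense Z.smallEtaleTopology where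
  is_cover W := by
    apply mem_smallEtaleTopology_of_forall
    intro w
    obtain ⟨U, h, hw, hopen, y, hy⟩ := Groth.Agent.S0633.pointwise i W w
    let d : (EtCoh.bc i).obj U ⟶ W := MorphismProperty.Over.homMk h hw trivial
    exact ⟨(EtCoh.bc i).obj U, d, y, Presieve.in_coverByImage _ d, hy⟩

set_option backward.isDefEq.respectTransparency.types false in
instance isLocallyFull_bc : (EtCoh.bc i).IsLocallyFull Z.smallEtaleTopology where
  functorPushforward_imageSieve_mem {U V} f := by
    apply mem_smallEtaleTopology_of_forall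
    intro b
    let U₂ := prodEt U V
    let γ := graph i f
    have hΓ : IsOpen (Set.range γ.base) := γ.isOpenEmbedding.isOpen_range
    have hind : Topology.IsInducing (pullback.fst U₂.hom i).base :=
      (pullback.fst U₂.hom i).isClosedEmbedding.isInducing
    obtain ⟨O', hO', hpre⟩ := hind.isOpen_iff.1 hΓ
    let O : U₂.left.Opens := ⟨O', hO'⟩
    let U₃ := res U₂ O
    let t : U₃ ⟶ U := resMap U₂ O ≫ prodFst U V
    let l : U₃ ⟶ V := resMap U₂ O ≫ prodSnd U V
    let ρ : pullback U₃.hom i ⟶ pullback U₂.hom i := bcLeft i (resMap U₂ O)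
    have hρ : Set.range ρ.base ⊆ Set.range γ.base := by
      rintro _ ⟨b₃, rfl⟩
      refine (Set.ext_iff.1 hpre _).1 ?_
      show (pullback.fst U₂.hom i).base (ρ.base b₃) ∈ O'
      have e4 := bcLeft_fst i (resMap U₂ O)
      have e5 : (pullback.fst U₂.hom i).base (ρ.base b₃) =
          O.ι.base ((pullback.fst U₃.hom i).base b₃) := congrArg (fun q => q.base b₃) e4
      rw [e5]
      exact ((pullback.fst U₃.hom i).base b₃).2
    let k : pullback U₃.hom i ⟶ pullback U.hom i := IsOpenImmersion.lift γ ρ hρ
    have hk : k ≫ γ = ρ := IsOpenImmersion.lift_fac γ ρ hρ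
    have ht : bcLeft i t = k := by
      calc bcLeft i t = ρ ≫ bcLeft i (prodFst U V) := bcLeft_comp i _ _
        _ = (k ≫ γ) ≫ bcLeft i (prodFst U V) := by rw [hk]
        _ = k ≫ (γ ≫ bcLeft i (prodFst U V)) := Category.assoc _ _ _
        _ = k := by rw [graph_p1, Category.comp_id]
    have hl : bcLeft i l = k ≫ fLeft i f := by
      calc bcLeft i l = ρ ≫ bcLeft i (prodSnd U V) := bcLeft_comp i _ _
        _ = (k ≫ γ) ≫ bcLeft i (prodSnd U V) := by rw [hk]
        _ = k ≫ (γ ≫ bcLeft i (prodSnd U V)) := Category.assoc _ _ _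
        _ = k ≫ fLeft i f := by rw [graph_p2]
    have hmem : (EtCoh.bc i).imageSieve f t := by
      refine ⟨l, ?_⟩
      apply MorphismProperty.Over.Hom.ext
      show bcLeft i l = bcLeft i t ≫ fLeft i f
      rw [hl, ht]
    -- a point of `bc U₃` over `b`
    let c := γ.base b
    have hcO : (pullback.fst U₂.hom i).base c ∈ O' :=
      (Set.ext_iff.1 hpre c).2 ⟨b, rfl⟩
    let x : ↥O := ⟨(pullback.fst U₂.hom i).base c, hcO⟩
    let z := (pullback.snd U₂.hom i).base c
    have hxz : U₃.hom.base x = i.base z :=
      congrArg (fun q => q.base c) (pullback.condition (f := U₂.hom) (g := i))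
    obtain ⟨b₃, hb1, hb2⟩ := Scheme.Pullback.exists_preimage_pullback
      (f := U₃.hom) (g := i) x z hxz
    have hρb : ρ.base b₃ = c := by
      apply (pullback.fst U₂.hom i).isClosedEmbedding.injective
      have e4 := bcLeft_fst i (resMap U₂ O)
      have e5 : (pullback.fst U₂.hom i).base (ρ.base b₃) =
          O.ι.base ((pullback.fst U₃.hom i).base b₃) := congrArg (fun q => q.base b₃) e4
      rw [e5, hb1]
      rfl
    have hkb : k.base b₃ = b := by
      apply γ.isOpenEmbedding.injective
      have e6 : γ.base (k.base b₃) = ρ.base b₃ := congrArg (fun q => q.base b₃) hk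
      rw [e6, hρb]
    refine ⟨(EtCoh.bc i).obj U₃, (EtCoh.bc i).map t, b₃,
      Sieve.image_mem_functorPushforward _ _ hmem, ?_⟩
    show (bcLeft i t).base b₃ = b
    rw [ht]
    exact hkb

end Groth.Agent.H4
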