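import Mathlib
import Groth.Prelude.Def_EtBase
import Groth.Agent.H4.ClosedDense

/-!
For a closed immersion `i : Z ⟶ X`: base change `X.Etale ⥤ Z.Etale` is locally faithful, and an
abelian etale sheaf on `X` vanishing on etale schemes over the complement of `Z` is a sheaf for the
topology on `X.Etale` induced from `Z.Etale`.
-/

set_option autoImplicit false
open CategoryTheory CategoryTheory.Limits AlgebraicGeometry Opposite
universe u

namespace Groth.Agent.H4

open Groth.Agent.S19885

variable {Z X : Scheme.{u}} (i : Z ⟶ X)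

section faithful

variable {U V : X.Etale} (f₁ f₂ : U ⟶ V)

theorem pair_cond : f₁.left ≫ V.hom = f₂.left ≫ V.hom :=
  (Over.w f₁.hom).trans (Over.w f₂.hom).symm

/-- The pair `(f₁, f₂) : U ⟶ V ×_X V`. -/
noncomputable def pairMap : U.left ⟶ pullback V.hom V.hom :=
  pullback.lift f₁.left f₂.left (pair_cond f₁ f₂)

/-- The open subscheme of `U` where `f₁ = f₂`. -/
noncomputable def eqOpen : U.left.Opens :=
  (pairMap f₁ f₂) ⁻¹ᵁ (pullback.diagonal V.hom).opensRange

theorem eqOpen_comp : (resMap U (eqOpen f₁ f₂)) ≫ f₁ = (resMap U (eqOpen f₁ f₂)) ≫ f₂ := by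
  apply MorphismProperty.Over.Hom.ext
  show (eqOpen f₁ f₂).ι ≫ f₁.left = (eqOpen f₁ f₂).ι ≫ f₂.left
  have hr : Set.range ((eqOpen f₁ f₂).ι ≫ pairMap f₁ f₂).base ⊆
      Set.range (pullback.diagonal V.hom).base := by
    rintro _ ⟨x, rfl⟩
    exact x.2
  let k := IsOpenImmersion.lift (pullback.diagonal V.hom) ((eqOpen f₁ f₂).ι ≫ pairMap f₁ f₂) hr
  have hk : k ≫ pullback.diagonal V.hom = (eqOpen f₁ f₂).ι ≫ pairMap f₁ f₂ :=
    IsOpenImmersion.lift_fac _ _ hr
  have h1 : (eqOpen f₁ f₂).ι ≫ f₁.left = k := by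
    calc (eqOpen f₁ f₂).ι ≫ f₁.left
        = (eqOpen f₁ f₂).ι ≫ (pairMap f₁ f₂ ≫ pullback.fst V.hom V.hom) := by
          rw [pairMap, pullback.lift_fst]
      _ = ((eqOpen f₁ f₂).ι ≫ pairMap f₁ f₂) ≫ pullback.fst V.hom V.hom :=
          (Category.assoc _ _ _).symm
      _ = (k ≫ pullback.diagonal V.hom) ≫ pullback.fst V.hom V.hom := by rw [hk]
      _ = k := by rw [Category.assoc, pullback.diagonal_fst, Category.comp_id]
  have h2 : (eqOpen f₁ f₂).ι ≫ f₂.left = k := by
    calc (eqOpen f₁ f₂).ι ≫ f₂.left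
        = (eqOpen f₁ f₂).ι ≫ (pairMap f₁ f₂ ≫ pullback.snd V.hom V.hom) := by
          rw [pairMap, pullback.lift_snd]
      _ = ((eqOpen f₁ f₂).ι ≫ pairMap f₁ f₂) ≫ pullback.snd V.hom V.hom :=
          (Category.assoc _ _ _).symm
      _ = (k ≫ pullback.diagonal V.hom) ≫ pullback.snd V.hom V.hom := by rw [hk]
      _ = k := by rw [Category.assoc, pullback.diagonal_snd, Category.comp_id]
  rw [h1, h2]

set_option backward.isDefEq.respectTransparency.types false in
theorem fst_mem_eqOpen (h : (EtCoh.bc i).map f₁ = (EtCoh.bc i).map f₂)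
    (b : ↥(pullback U.hom i)) : (pullback.fst U.hom i).base b ∈ eqOpen f₁ f₂ := by
  have h' : bcLeft i f₁ = bcLeft i f₂ := congrArg (fun q => q.left) h
  have e : pullback.fst U.hom i ≫ f₁.left = pullback.fst U.hom i ≫ f₂.left := by
    rw [← bcLeft_fst, ← bcLeft_fst, h']
  have e2 : pullback.fst U.hom i ≫ pairMap f₁ f₂ =
      (pullback.fst U.hom i ≫ f₁.left) ≫ pullback.diagonal V.hom := by
    apply pullback.hom_ext
    · rw [Category.assoc, Category.assoc, pairMap, pullback.lift_fst, pullback.diagonal_fst,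
        Category.comp_id]
    · rw [Category.assoc, Category.assoc, pairMap, pullback.lift_snd, pullback.diagonal_snd,
        Category.comp_id, e]
  show (pairMap f₁ f₂).base ((pullback.fst U.hom i).base b) ∈
    Set.range (pullback.diagonal V.hom).base
  have e3 : (pairMap f₁ f₂).base ((pullback.fst U.hom i).base b) =
      (pullback.diagonal V.hom).base ((pullback.fst U.hom i ≫ f₁.left).base b) :=
    congrArg (fun q => q.base b) e2
  rw [e3]
  exact ⟨_, rfl⟩

end faithful

variable [IsClosedImmersion i]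

set_option backward.isDefEq.respectTransparency.types false in
/-- A point of `U ×_X Z` whose image in `U` lies in the open `O` lifts to `(res U O) ×_X Z`. -/
theorem exists_bc_res_point (U : X.Etale) (O : U.left.Opens) (b : ↥(pullback U.hom i))
    (hb : (pullback.fst U.hom i).base b ∈ O) :
    ∃ b₃ : ((EtCoh.bc i).obj (res U O)).left, ((EtCoh.bc i).map (resMap U O)).left.base b₃ = b := by
  let x : ↥O := ⟨(pullback.fst U.hom i).base b, hb⟩
  let z := (pullback.snd U.hom i).base b
  have hxz : (res U O).hom.base x = i.base z :=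
    congrArg (fun q => q.base b) (pullback.condition (f := U.hom) (g := i))
  obtain ⟨b₃, hb1, hb2⟩ := Scheme.Pullback.exists_preimage_pullback
    (f := (res U O).hom) (g := i) x z hxz
  refine ⟨b₃, ?_⟩
  show (bcLeft i (resMap U O)).base b₃ = b
  apply (pullback.fst U.hom i).isClosedEmbedding.injective
  have e4 := bcLeft_fst i (resMap U O)
  have e5 : (pullback.fst U.hom i).base ((bcLeft i (resMap U O)).base b₃) =
      O.ι.base ((pullback.fst (res U O).hom i).base b₃) := congrArg (fun q => q.base b₃) e4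
  rw [e5, hb1]
  rfl

set_option backward.isDefEq.respectTransparency.types false in
instance isLocallyFaithful_bc : (EtCoh.bc i).IsLocallyFaithful Z.smallEtaleTopology where
  functorPushforward_equalizer_mem {U V} f₁ f₂ h := by
    apply mem_smallEtaleTopology_of_forall
    intro b
    obtain ⟨b₃, hb₃⟩ := exists_bc_res_point i U (eqOpen f₁ f₂) b (fst_mem_eqOpen i f₁ f₂ h b)
    exact ⟨(EtCoh.bc i).obj (res U (eqOpen f₁ f₂)), (EtCoh.bc i).map (resMap U (eqOpen f₁ f₂)), b₃,
      Sieve.image_mem_functorPushforward _ _ (eqOpen_comp f₁ f₂), hb₃⟩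

end Groth.Agent.H4

namespace Groth.Agent.H4

open Groth.Agent.S19885

variable {Z X : Scheme.{u}} (i : Z ⟶ X) [IsClosedImmersion i]

/-- The part of `U` lying over the complement of `Z`. -/
noncomputable def offOpen (U : X.Etale) : U.left.Opens :=
  U.hom ⁻¹ᵁ ⟨(Set.range i.base)ᶜ, i.isClosedEmbedding.isClosed_range.isOpen_compl⟩

/-- `Y` lies over the complement of `Z`. -/
def OffZ (Y : X.Etale) : Prop := Disjoint (Set.range Y.hom.base) (Set.range i.base)

theorem offZ_res (U : X.Etale) : OffZ i (res U (offOpen i U)) := by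
  rw [OffZ, Set.disjoint_left]
  rintro _ ⟨x, rfl⟩ hx
  exact x.2 hx

theorem offZ_of_hom {Y' Y : X.Etale} (f : Y' ⟶ Y) (h : OffZ i Y) : OffZ i Y' := by
  rw [OffZ, Set.disjoint_left] at h ⊢
  rintro _ ⟨y, rfl⟩ hy
  refine h ⟨f.left.base y, ?_⟩ hy
  exact congrArg (fun q => q.base y) (Over.w f.hom)

set_option backward.isDefEq.respectTransparency.types false in
theorem isSheaf_restricted (F : EtCoh.Ab X)
    (hF : ∀ U : X.Etale, Disjoint (Set.range U.hom.base) (Set.range i.base) →
      IsZero (F.obj.obj (op U))) :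
    Presheaf.IsSheaf ((EtCoh.bc i).restrictedTopology Z.smallEtaleTopology) F.obj := by
  intro E
  let P := F.obj ⋙ coyoneda.obj (op E)
  have hP : Presieve.IsSheaf X.smallEtaleTopology P := F.property E
  have huniq : ∀ Y : X.Etale, OffZ i Y → Nonempty (Unique (P.obj (op Y))) :=
    fun Y hY => (hF Y hY).unique_from E
  have hJ' : ∀ (Y : X.Etale), OffZ i Y → ∀ T : Sieve Y, T ∈ Sheaf.finestTopologySingle P Y := by
    intro Y hY T Y' f x hx
    obtain ⟨uY'⟩ := huniq Y' (offZ_of_hom i f hY)
    refine ⟨uY'.default, ?_, fun t _ => uY'.uniq t⟩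
    intro Y'' g hg
    obtain ⟨u''⟩ := huniq Y'' (offZ_of_hom i (g ≫ f) hY)
    exact (u''.uniq _).trans (u''.uniq _).symm
  intro U S hS
  rw [Functor.mem_restrictedTopology_iff] at hS
  let S' : Sieve U := S ⊔ Sieve.generate (Presieve.singleton (resMap U (offOpen i U)))
  have hS' : S' ∈ X.smallEtaleTopology U := by
    apply mem_smallEtaleTopology_of_forall
    intro u
    by_cases hu : U.hom.base u ∈ Set.range i.base
    · obtain ⟨z, hz⟩ := hu
      obtain ⟨b, hb1, hb2⟩ := Scheme.Pullback.exists_preimage_pullback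
        (f := U.hom) (g := i) u z hz.symm
      have eZ : Z.smallEtaleTopology =
          (Z.smallPretopology (P := @Etale) (Q := @Etale)).toGrothendieck :=
        Scheme.smallGrothendieckTopology_eq_toGrothendieck_smallPretopology Z le_rfl
      rw [eZ] at hS
      obtain ⟨Y, g, y, hg, -, hy⟩ := (Scheme.mem_toGrothendieck_smallPretopology _ _).1 hS b
      obtain ⟨U', t, k, ht, rfl⟩ := hg
      refine ⟨U', t, (pullback.fst U'.hom i).base (k.left.base y), Or.inl ht, ?_⟩
      have e4 := bcLeft_fst i t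
      have e5 : (pullback.fst U.hom i).base ((bcLeft i t).base (k.left.base y)) =
          t.left.base ((pullback.fst U'.hom i).base (k.left.base y)) :=
        congrArg (fun q => q.base (k.left.base y)) e4
      rw [← e5]
      have e6 : (bcLeft i t).base (k.left.base y) = b := hy
      rw [e6, hb1]
    · exact ⟨res U (offOpen i U), resMap U (offOpen i U), ⟨u, hu⟩,
        Or.inr ⟨_, 𝟙 _, _, ⟨⟩, Category.id_comp _⟩, rfl⟩
  have hS'J : S' ∈ Sheaf.finestTopologySingle P U :=
    fun Y f => hP _ (X.smallEtaleTopology.pullback_stable f hS')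
  have hSJ : S ∈ Sheaf.finestTopologySingle P U := by
    refine (Sheaf.finestTopologySingle P).transitive hS'J S ?_
    intro Y g hg
    rcases (show S g ∨ (Sieve.generate (Presieve.singleton (resMap U (offOpen i U)))) g from hg)
      with hg | hg
    · rw [Sieve.pullback_eq_top_of_mem S hg]
      exact (Sheaf.finestTopologySingle P).top_mem Y
    · obtain ⟨W, a, b, hb, rfl⟩ := hg
      cases hb
      exact hJ' _ (offZ_of_hom i a (offZ_res i U)) _
  have h := hSJ U (𝟙 U)
  rwa [Sieve.pullback_id] at h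

end Groth.Agent.H4
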