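import Mathlib
import Groth.Prelude.Def_SGA4b
import Groth.Agent.H4.ClosedDense2
import Groth.Agent.H4.EtaleJCont

/-!
Sheaves of sets on small etale sites: sections over empty schemes, terminal sheaves, restriction along
etale morphisms, and the essential image of direct image along a closed immersion.
-/

set_option autoImplicit false
open CategoryTheory CategoryTheory.Limits AlgebraicGeometry Opposite
universe u w v₁ u₁

namespace Groth.Agent.H4

/-- Sections of a sheaf of sets over an empty etale scheme form a singleton. -/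
theorem unique_sections_of_isEmpty {Z : Scheme.{u}} (G : EtDesc.Sh Z) (W : Z.Etale)
    [IsEmpty W.left] : Nonempty (Unique (G.obj.obj (op W))) := by
  have hG : Presieve.IsSheaf Z.smallEtaleTopology G.obj :=
    (isSheaf_iff_isSheaf_of_type _ _).1 G.2
  have hcov : (⊥ : Sieve W) ∈ Z.smallEtaleTopology W :=
    mem_smallEtaleTopology_of_forall W ⊥ (fun x => isEmptyElim x)
  have h := hG (⊥ : Sieve W) hcov
  let x : Presieve.FamilyOfElements G.obj (⊥ : Sieve W).arrows := fun _ _ hf => hf.elim
  have hx : x.Compatible := by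
    intro Y₁ Y₂ Z' g₁ g₂ f₁ f₂ h₁
    exact h₁.elim
  obtain ⟨t, -, ht⟩ := h x hx
  exact ⟨⟨⟨t⟩, fun s => ht s (fun _ _ hf => hf.elim)⟩⟩

section terminal

variable {C : Type u₁} [Category.{v₁} C] (J : GrothendieckTopology C)

theorem isIso_terminal_from_of_unique (H : Sheaf J (Type w))
    (h : ∀ Y : C, Nonempty (Unique (H.obj.obj (op Y)))) : IsIso (terminal.from H) := by
  have hss : ∀ Y : Cᵒᵖ, Subsingleton (H.obj.obj Y) := fun Y => by
    obtain ⟨u⟩ := h Y.unop
    exact Unique.instSubsingleton
  have hT : IsTerminal H := by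
    refine IsTerminal.ofUniqueHom (fun T => ⟨{
      app := fun Y => TypeCat.ofHom (fun _ => (h Y.unop).some.default)
      naturality := ?_ }⟩) ?_
    · intro Y Y' f
      apply ConcreteCategory.hom_ext
      intro x
      exact @Subsingleton.elim _ (hss Y') _ _
    · intro T m
      apply Sheaf.hom_ext
      apply NatTrans.ext
      funext Y
      apply ConcreteCategory.hom_ext
      intro x
      exact @Subsingleton.elim _ (hss Y) _ _
  exact isIso_of_isTerminal hT terminalIsTerminal (terminal.from H)

theorem unique_of_isIso_terminal_from (H : Sheaf J (Type w)) [IsIso (terminal.from H)] (Y : C) :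
    Nonempty (Unique (H.obj.obj (op Y))) := by
  let S : Sheaf J (Type w) ⥤ Type w := sheafToPresheaf J (Type w) ⋙ (evaluation _ _).obj (op Y)
  let e1 : H.obj.obj (op Y) ≅ S.obj (⊤_ Sheaf J (Type w)) := S.mapIso (asIso (terminal.from H))
  let e2 : S.obj (⊤_ Sheaf J (Type w)) ≅ ⊤_ (Type w) := PreservesTerminal.iso S
  let e := (e1 ≪≫ e2 ≪≫ Types.terminalIso).toEquiv
  exact ⟨e.unique⟩

theorem isIso_terminal_from_iff (H : Sheaf J (Type w)) :
    IsIso (terminal.from H) ↔ ∀ Y : C, Nonempty (Unique (H.obj.obj (op Y))) :=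
  ⟨fun _ Y => unique_of_isIso_terminal_from J H Y, isIso_terminal_from_of_unique J H⟩

end terminal

theorem isIso_terminal_from_of_iso {C : Type u₁} [Category.{v₁} C] [HasTerminal C] {A B : C}
    (a : A ≅ B) : IsIso (terminal.from A) ↔ IsIso (terminal.from B) := by
  have e : a.hom ≫ terminal.from B = terminal.from A := terminal.comp_from _
  constructor
  · intro h
    haveI : IsIso (a.hom ≫ terminal.from B) := by rw [e]; exact h
    exact IsIso.of_isIso_comp_left a.hom _
  · intro h
    rw [← e]
    infer_instance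

section restr

variable {U X : Scheme.{u}} (j : U ⟶ X) [Etale j]

/-- Restriction of sheaves of sets along an etale morphism. -/
noncomputable abbrev restrSh : EtDesc.Sh X ⥤ EtDesc.Sh U :=
  (EtShriek.compEtale j).sheafPushforwardContinuous (Type (u + 1)) U.smallEtaleTopology
    X.smallEtaleTopology

/-- Restriction of sheaves of sets along an etale morphism is left adjoint to direct image. -/
noncomputable def restrPushAdjSh : restrSh j ⊣ EtDesc.pushSh j :=
  (compBcAdj j).sheafPushforwardContinuous (E := Type (u + 1))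
    U.smallEtaleTopology X.smallEtaleTopology

/-- Inverse image of sheaves of sets along an etale morphism is restriction. -/
noncomputable def pullShIsoRestr : EtDesc.pullSh j ≅ restrSh j :=
  (EtDesc.adjSh j).leftAdjointUniq (restrPushAdjSh j)

end restr

section closed

variable {Z X : Scheme.{u}} (i : Z ⟶ X) [IsClosedImmersion i]

set_option backward.isDefEq.respectTransparency.types false in
theorem isSheaf_restricted_presieve (P : X.Etaleᵒᵖ ⥤ Type (u + 1))
    (hP : Presieve.IsSheaf X.smallEtaleTopology P)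
    (huniq : ∀ Y : X.Etale, OffZ i Y → Nonempty (Unique (P.obj (op Y)))) :
    Presieve.IsSheaf ((EtCoh.bc i).restrictedTopology Z.smallEtaleTopology) P := by
  have hJ' : ∀ (Y : X.Etale), OffZ i Y → ∀ T : Sieve Y, T ∈ Sheaf.finestTopologySingle P Y := by
    intro Y hY T Y' f x hx
    obtain ⟨uY'⟩ := huniq Y' (offZ_of_hom i f hY)
    refine ⟨uY'.default, ?_, fun t _ => uY'.uniq t⟩
    intro Y'' g hg
    obtain ⟨u''⟩ := huniq Y'' (offZ_of_hom i (g ≫ f) hY)
    exact (u''.uniq _).trans (u''.uniq _).symm
  intro U S hS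
  rw [Functor.mem_restrictedTopology_iff] at hS
  let S' : Sieve U := S ⊔ Sieve.generate (Presieve.singleton (resMap U (offOpen i U)))
  have hS' : S' ∈ X.smallEtaleTopology U := by
    apply mem_smallEtaleTopology_of_forall
    intro u
    by_cases hu : U.hom.base u ∈ Set.range i.base
    · obtain ⟨z, hz⟩ := hu
      obtain ⟨b, hb1, hb2⟩ := Scheme.Pullback.exists_preimage_pullback
        (f := U.hom) (g := i) u z hz.symm
      have eZ : Z.smallEtaleTopology =
          (Z.smallPretopology (P := @Etale) (Q := @Etale)).toGrothendieck :=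
        Scheme.smallGrothendieckTopology_eq_toGrothendieck_smallPretopology Z le_rfl
      rw [eZ] at hS
      obtain ⟨Y, g, y, hg, -, hy⟩ := (Scheme.mem_toGrothendieck_smallPretopology _ _).1 hS b
      obtain ⟨U', t, k, ht, rfl⟩ := hg
      refine ⟨U', t, (pullback.fst U'.hom i).base (k.left.base y), Or.inl ht, ?_⟩
      have e4 := bcLeft_fst i t
      have e5 : (pullback.fst U.hom i).base ((bcLeft i t).base (k.left.base y)) =
          t.left.base ((pullback.fst U'.hom i).base (k.left.base y)) :=
        congrArg (fun q => q.base (k.left.base y)) e4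
      rw [← e5]
      have e6 : (bcLeft i t).base (k.left.base y) = b := hy
      rw [e6, hb1]
    · exact ⟨res U (offOpen i U), resMap U (offOpen i U), ⟨u, hu⟩,
        Or.inr ⟨_, 𝟙 _, _, ⟨⟩, Category.id_comp _⟩, rfl⟩
  have hS'J : S' ∈ Sheaf.finestTopologySingle P U :=
    fun Y f => hP _ (X.smallEtaleTopology.pullback_stable f hS')
  have hSJ : S ∈ Sheaf.finestTopologySingle P U := by
    refine (Sheaf.finestTopologySingle P).transitive hS'J S ?_
    intro Y g hg
    rcases (show S g ∨ (Sieve.generate (Presieve.singleton (resMap U (offOpen i U)))) g from hg)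
      with hg | hg
    · rw [Sieve.pullback_eq_top_of_mem S hg]
      exact (Sheaf.finestTopologySingle P).top_mem Y
    · obtain ⟨W, a, b, hb, rfl⟩ := hg
      cases hb
      exact hJ' _ (offZ_of_hom i a (offZ_res i U)) _
  have h := hSJ U (𝟙 U)
  rwa [Sieve.pullback_id] at h

/-- A sheaf of sets on `X` is a direct image from the closed subscheme `Z` exactly when its sections
over every etale scheme lying over the complement of `Z` form a singleton. -/
theorem essImage_pushSh_iff (F : EtDesc.Sh X) :
    (EtDesc.pushSh i).essImage F ↔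
      ∀ Y : X.Etale, OffZ i Y → Nonempty (Unique (F.obj.obj (op Y))) := by
  constructor
  · rintro ⟨G, ⟨e⟩⟩ Y hY
    haveI : IsEmpty ((EtCoh.bc i).obj Y).left := Scheme.isEmpty_pullback Y.hom i hY
    obtain ⟨uq⟩ : Nonempty (Unique (((EtDesc.pushSh i).obj G).obj.obj (op Y))) :=
      unique_sections_of_isEmpty G ((EtCoh.bc i).obj Y)
    let eq := (((sheafToPresheaf _ _).mapIso e).app (op Y)).toEquiv
    exact ⟨@Equiv.unique _ _ uq eq.symm⟩
  · intro hF
    let J := (EtCoh.bc i).restrictedTopology Z.smallEtaleTopology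
    have hP : Presieve.IsSheaf X.smallEtaleTopology F.obj :=
      (isSheaf_iff_isSheaf_of_type _ _).1 F.2
    let F' : Sheaf J (Type (u + 1)) :=
      ⟨F.obj, (isSheaf_iff_isSheaf_of_type _ _).2 (isSheaf_restricted_presieve i F.obj hP hF)⟩
    let Φ := (EtCoh.bc i).sheafPushforwardContinuous (Type (u + 1)) J Z.smallEtaleTopology
    haveI : Φ.IsEquivalence := inferInstance
    let G := Φ.objPreimage F'
    let e : Φ.obj G ≅ F' := Φ.objObjPreimageIso F'
    let e' : (EtCoh.bc i).op ⋙ G.obj ≅ F.obj := (sheafToPresheaf J _).mapIso e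
    exact ⟨G, ⟨(fullyFaithfulSheafToPresheaf X.smallEtaleTopology _).preimageIso e'⟩⟩

variable {U : Scheme.{u}} (j : U ⟶ X) [IsOpenImmersion j]

omit [IsClosedImmersion i] in
theorem offZ_compEtale (hU : Set.range j.base = (Set.range i.base)ᶜ) (Y' : U.Etale) :
    OffZ i ((EtShriek.compEtale j).obj Y') := by
  rw [OffZ, Set.disjoint_left]
  rintro _ ⟨y, rfl⟩ hy
  have h1 : ((EtShriek.compEtale j).obj Y').hom.base y ∈ Set.range j.base :=
    ⟨Y'.hom.base y, rfl⟩
  rw [hU] at h1
  exact h1 hy

omit [IsClosedImmersion i] in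
theorem exists_compEtale_iso (hU : Set.range j.base = (Set.range i.base)ᶜ) (Y : X.Etale)
    (hY : OffZ i Y) : ∃ Y' : U.Etale, Nonempty (Y ≅ (EtShriek.compEtale j).obj Y') := by
  have hr : Set.range Y.hom.base ⊆ Set.range j.base := by
    rw [hU]
    intro x hx hx'
    exact (Set.disjoint_left.1 hY) hx hx'
  let l : Y.left ⟶ U := IsOpenImmersion.lift j Y.hom hr
  have hl : l ≫ j = Y.hom := IsOpenImmersion.lift_fac _ _ hr
  haveI : Etale Y.hom := Y.prop
  haveI : Etale (l ≫ j) := by rw [hl]; infer_instance
  haveI : Etale l := MorphismProperty.of_postcomp (W := @Etale) (W' := @Etale) l j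
    inferInstance inferInstance
  let Y' : U.Etale := Scheme.Etale.mk l
  let a : Y ⟶ (EtShriek.compEtale j).obj Y' := MorphismProperty.Over.homMk (𝟙 Y.left) (by
      show 𝟙 Y.left ≫ (l ≫ j) = Y.hom
      rw [Category.id_comp, hl]) trivial
  let b : (EtShriek.compEtale j).obj Y' ⟶ Y := MorphismProperty.Over.homMk (𝟙 Y.left) (by
      show 𝟙 Y.left ≫ Y.hom = l ≫ j
      rw [Category.id_comp, hl]) trivial
  refine ⟨Y', ⟨⟨a, b, ?_, ?_⟩⟩⟩
  · apply MorphismProperty.Over.Hom.ext
    exact Category.id_comp _
  · apply MorphismProperty.Over.Hom.ext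
    exact Category.id_comp _

/-- A sheaf of sets on `X` is a direct image from the closed subscheme `Z` exactly when its inverse
image to the open complement is a final object. -/
theorem essImage_pushSh_iff_terminal (hU : Set.range j.base = (Set.range i.base)ᶜ)
    (F : EtDesc.Sh X) :
    (EtDesc.pushSh i).essImage F ↔ IsIso (terminal.from ((EtDesc.pullSh j).obj F)) := by
  rw [essImage_pushSh_iff, isIso_terminal_from_of_iso ((pullShIsoRestr j).app F),
    isIso_terminal_from_iff]
  constructor
  · intro h Y'
    exact h _ (offZ_compEtale i j hU Y')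
  · intro h Y hY
    obtain ⟨Y', ⟨e⟩⟩ := exists_compEtale_iso i j hU Y hY
    obtain ⟨uq⟩ : Nonempty (Unique (F.obj.obj (op ((EtShriek.compEtale j).obj Y')))) := h Y'
    exact ⟨@Equiv.unique _ _ uq (F.obj.mapIso e.op).toEquiv.symm⟩

end closed

end Groth.Agent.H4
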