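import Mathlib

/-!
# (QCU) of helper29's S1370 squad: quasi-compactness of `U → S` is inherited by the preimage of `U`
under a base change, hence over an affine base the preimage is compact.
-/

set_option autoImplicit false
universe u
open AlgebraicGeometry CategoryTheory Limits TopologicalSpace

namespace Groth.Agent.H4.RAU_QCU

theorem isCompact_preimage_of_isPullback {X X' S S' : Scheme.{u}} (f : X ⟶ S) (U : X.Opens) [QuasiCompact (U.ι ≫ f)] (g : S' ⟶ S) (f' : X' ⟶ S') (g' : X' ⟶ X) (sq : IsPullback g' f' f g) [IsAffine S'] : IsCompact ((g' ⁻¹ᵁ U : X'.Opens) : Set X') := by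
  have h1 : IsPullback (g' ∣_ U) (g' ⁻¹ᵁ U).ι U.ι g' := isPullback_morphismRestrict g' U
  have h2 : IsPullback (g' ∣_ U) ((g' ⁻¹ᵁ U).ι ≫ f') (U.ι ≫ f) g := h1.paste_vert sq
  haveI : QuasiCompact ((g' ⁻¹ᵁ U).ι ≫ f') :=
    MorphismProperty.of_isPullback (P := @QuasiCompact) h2 inferInstance
  have h3 : CompactSpace ((g' ⁻¹ᵁ U : X'.Opens) : Scheme.{u}) :=
    QuasiCompact.compactSpace_of_compactSpace ((g' ⁻¹ᵁ U).ι ≫ f')
  exact isCompact_iff_compactSpace.mpr h3

end Groth.Agent.H4.RAU_QCU
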