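import Mathlib
import Groth.Prelude.Def_EtShriek2

/-!
Stalks of an "extension by zero" functor `G.sheafPullback` at a point `Φ`, when the fibre functor
`G ⋙ Φ.fiber` decomposes as a disjoint union of fibre functors of points `Ψ s` of the source site:
the stalk is the coproduct of the stalks at the `Ψ s`.
-/

set_option autoImplicit false
open CategoryTheory CategoryTheory.Limits Opposite GrothendieckTopology
universe w v u

namespace Groth.Agent.H4.StalkShriek

section yoneda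

variable {C : Type*} [Category C]

/-- Yoneda: objects with naturally isomorphic covariant hom functors are isomorphic. -/
def isoOfHomEquiv {A B : C} (E : ∀ M : C, (A ⟶ M) ≃ (B ⟶ M))
    (nat : ∀ (M M' : C) (f : A ⟶ M) (φ : M ⟶ M'), E M' (f ≫ φ) = E M f ≫ φ) : A ≅ B where
  hom := (E B).symm (𝟙 B)
  inv := E A (𝟙 A)
  hom_inv_id := by
    apply (E A).injective
    rw [nat B A ((E B).symm (𝟙 B)) (E A (𝟙 A)), Equiv.apply_symm_apply, Category.id_comp]
  inv_hom_id := by
    have h := nat A B (𝟙 A) ((E B).symm (𝟙 B))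
    rw [Category.id_comp, Equiv.apply_symm_apply] at h
    exact h.symm

/-- The universal property of a coproduct as an equivalence. -/
noncomputable def sigmaHomEquiv {ι : Type*} (f : ι → C) [HasCoproduct f] (M : C) :
    (∀ i, f i ⟶ M) ≃ (∐ f ⟶ M) where
  toFun g := Sigma.desc g
  invFun k := fun i => Sigma.ι f i ≫ k
  left_inv g := by
    funext i
    exact Sigma.ι_desc g i
  right_inv k := by
    apply Sigma.hom_ext
    intro i
    exact Sigma.ι_desc _ i

theorem sigmaHomEquiv_nat {ι : Type*} (f : ι → C) [HasCoproduct f] {M M' : C}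
    (g : ∀ i, f i ⟶ M) (φ : M ⟶ M') :
    sigmaHomEquiv f M' (fun i => g i ≫ φ) = sigmaHomEquiv f M g ≫ φ := by
  apply Sigma.hom_ext
  intro i
  show Sigma.ι f i ≫ Sigma.desc (fun i => g i ≫ φ) = Sigma.ι f i ≫ (Sigma.desc g ≫ φ)
  rw [Sigma.ι_desc, ← Category.assoc, Sigma.ι_desc]

end yoneda

section abstract

variable {C D : Type*} [Category C] [Category D] {J : GrothendieckTopology C}
  {K : GrothendieckTopology D} (Φ : Point.{w} K) (G : C ⥤ D) {S : Type*} (Ψ : S → Point.{w} J)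
  (e : ∀ V : C, (Σ s : S, (Ψ s).fiber.obj V) ≃ Φ.fiber.obj (G.obj V))
  (he : ∀ ⦃V' V : C⦄ (g : V' ⟶ V) (s : S) (x' : (Ψ s).fiber.obj V'),
    Φ.fiber.map (G.map g) (e V' ⟨s, x'⟩) = e V ⟨s, (Ψ s).fiber.map g x'⟩)
  {A : Type*} [Category.{v} A] [HasProducts.{w} A] [HasColimitsOfSize.{w, w} A]
  (P : Cᵒᵖ ⥤ A)

theorem sky_map_π (M : A) {X Y : D} (f : X ⟶ Y) (x : Φ.fiber.obj X) :
    (Φ.skyscraperPresheaf M).map f.op ≫ Pi.π (fun _ : Φ.fiber.obj X => M) x =
      Pi.π (fun _ : Φ.fiber.obj Y => M) (Φ.fiber.map f x) := by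
  simp
  exact (Pi.map'_comp_π _ _ _).trans (Category.comp_id _)

theorem skyF_map_π {M M' : A} (φ : M ⟶ M') (X : D) (x : Φ.fiber.obj X) :
    (Φ.skyscraperPresheafFunctor.map φ).app (op X) ≫ Pi.π (fun _ : Φ.fiber.obj X => M') x =
      Pi.π (fun _ : Φ.fiber.obj X => M) x ≫ φ := by
  simp
  exact Pi.map_π _ _

/-- The value of a family of maps out of the stalks at a "sigma germ". -/
noncomputable def germ {M : A} (h : ∀ s, (Ψ s).presheafFiber.obj P ⟶ M) (V : C)
    (p : Σ s : S, (Ψ s).fiber.obj V) : P.obj (op V) ⟶ M :=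
  (Ψ p.1).toPresheafFiber V p.2 P ≫ h p.1

include he in
theorem toFam_compat (M : A) (α : P ⟶ G.op ⋙ Φ.skyscraperPresheaf M) (s : S)
    ⦃V' V : C⦄ (g : V' ⟶ V) (x' : (Ψ s).fiber.obj V') :
    P.map g.op ≫ α.app (op V') ≫ Pi.π (fun _ : Φ.fiber.obj (G.obj V') => M) (e V' ⟨s, x'⟩) =
      α.app (op V) ≫ Pi.π (fun _ : Φ.fiber.obj (G.obj V) => M)
        (e V ⟨s, (Ψ s).fiber.map g x'⟩) := by
  have hnat : P.map g.op ≫ α.app (op V') =
      α.app (op V) ≫ (Φ.skyscraperPresheaf M).map (G.map g).op := α.naturality g.op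
  rw [← Category.assoc, hnat, Category.assoc, sky_map_π, he]

/-- From a morphism to the restricted skyscraper presheaf to a family of maps out of stalks. -/
noncomputable def toFam (M : A) (α : P ⟶ G.op ⋙ Φ.skyscraperPresheaf M) (s : S) :
    (Ψ s).presheafFiber.obj P ⟶ M :=
  (Ψ s).presheafFiberDesc
    (fun V x => α.app (op V) ≫ Pi.π (fun _ : Φ.fiber.obj (G.obj V) => M) (e V ⟨s, x⟩))
    (fun _ _ g x' => toFam_compat Φ G Ψ e he P M α s g x')

theorem toPresheafFiber_toFam (M : A) (α : P ⟶ G.op ⋙ Φ.skyscraperPresheaf M) (s : S)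
    (V : C) (x : (Ψ s).fiber.obj V) :
    (Ψ s).toPresheafFiber V x P ≫ toFam Φ G Ψ e he P M α s =
      α.app (op V) ≫ Pi.π (fun _ : Φ.fiber.obj (G.obj V) => M) (e V ⟨s, x⟩) :=
  Point.toPresheafFiber_presheafFiberDesc _ _ _ _ _

/-- Components of the inverse construction. -/
noncomputable def fromFamApp (M : A) (h : ∀ s, (Ψ s).presheafFiber.obj P ⟶ M) (V : C) :
    P.obj (op V) ⟶ (Φ.skyscraperPresheaf M).obj (op (G.obj V)) :=
  Pi.lift (fun t : Φ.fiber.obj (G.obj V) => germ Ψ P h V ((e V).symm t))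

theorem fromFamApp_π (M : A) (h : ∀ s, (Ψ s).presheafFiber.obj P ⟶ M) (V : C)
    (t : Φ.fiber.obj (G.obj V)) :
    fromFamApp Φ G Ψ e P M h V ≫ Pi.π (fun _ : Φ.fiber.obj (G.obj V) => M) t =
      germ Ψ P h V ((e V).symm t) :=
  Pi.lift_π _ _

include he in
theorem fromFam_naturality (M : A) (h : ∀ s, (Ψ s).presheafFiber.obj P ⟶ M) ⦃V' V : C⦄
    (g : V' ⟶ V) :
    P.map g.op ≫ fromFamApp Φ G Ψ e P M h V' =
      fromFamApp Φ G Ψ e P M h V ≫ (Φ.skyscraperPresheaf M).map (G.map g).op := by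
  apply Pi.hom_ext
  intro t'
  obtain ⟨p', rfl⟩ : ∃ p', e V' p' = t' := ⟨_, (e V').apply_symm_apply t'⟩
  obtain ⟨s', x'⟩ := p'
  have e1 : (P.map g.op ≫ fromFamApp Φ G Ψ e P M h V') ≫
      Pi.π (fun _ : Φ.fiber.obj (G.obj V') => M) (e V' ⟨s', x'⟩) =
      P.map g.op ≫ germ Ψ P h V' ⟨s', x'⟩ :=
    (Category.assoc _ _ _).trans (congrArg (fun q => P.map g.op ≫ q)
      ((fromFamApp_π Φ G Ψ e P M h V' _).trans (by rw [Equiv.symm_apply_apply])))
  have e2 : (fromFamApp Φ G Ψ e P M h V ≫ (Φ.skyscraperPresheaf M).map (G.map g).op) ≫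
      Pi.π (fun _ : Φ.fiber.obj (G.obj V') => M) (e V' ⟨s', x'⟩) =
      germ Ψ P h V ⟨s', (Ψ s').fiber.map g x'⟩ :=
    (Category.assoc _ _ _).trans
      ((congrArg (fun q => fromFamApp Φ G Ψ e P M h V ≫ q)
        (sky_map_π Φ M (G.map g) (e V' ⟨s', x'⟩))).trans
      ((fromFamApp_π Φ G Ψ e P M h V _).trans (by rw [he, Equiv.symm_apply_apply])))
  refine e1.trans (Eq.trans ?_ e2.symm)
  show P.map g.op ≫ (Ψ s').toPresheafFiber V' x' P ≫ h s' =
    (Ψ s').toPresheafFiber V ((Ψ s').fiber.map g x') P ≫ h s'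
  rw [← Category.assoc, (Ψ s').toPresheafFiber_w g x' P]

/-- From a family of maps out of stalks to a morphism to the restricted skyscraper presheaf. -/
noncomputable def fromFam (M : A) (h : ∀ s, (Ψ s).presheafFiber.obj P ⟶ M) :
    P ⟶ G.op ⋙ Φ.skyscraperPresheaf M where
  app V := fromFamApp Φ G Ψ e P M h V.unop
  naturality V V' g := fromFam_naturality Φ G Ψ e he P M h g.unop

/-- Morphisms to the restricted skyscraper presheaf are families of maps out of the stalks. -/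
noncomputable def famEquiv (M : A) :
    (P ⟶ G.op ⋙ Φ.skyscraperPresheaf M) ≃ (∀ s, (Ψ s).presheafFiber.obj P ⟶ M) where
  toFun α := toFam Φ G Ψ e he P M α
  invFun h := fromFam Φ G Ψ e he P M h
  left_inv α := by
    ext V : 2
    apply Pi.hom_ext
    intro t
    show fromFamApp Φ G Ψ e P M (toFam Φ G Ψ e he P M α) V.unop ≫
      Pi.π (fun _ : Φ.fiber.obj (G.obj V.unop) => M) t = α.app V ≫ Pi.π _ t
    rw [fromFamApp_π]
    show (Ψ ((e V.unop).symm t).1).toPresheafFiber V.unop ((e V.unop).symm t).2 P ≫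
      toFam Φ G Ψ e he P M α ((e V.unop).symm t).1 = _
    rw [toPresheafFiber_toFam]
    have : e V.unop ⟨((e V.unop).symm t).1, ((e V.unop).symm t).2⟩ = t :=
      (e V.unop).apply_symm_apply t
    rw [this]
    rfl
  right_inv h := by
    funext s
    apply (Ψ s).presheafFiber_hom_ext
    intro V x
    rw [toPresheafFiber_toFam]
    show fromFamApp Φ G Ψ e P M h V ≫ Pi.π (fun _ : Φ.fiber.obj (G.obj V) => M) (e V ⟨s, x⟩) = _
    rw [fromFamApp_π, Equiv.symm_apply_apply]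
    rfl

theorem famEquiv_nat {M M' : A} (α : P ⟶ G.op ⋙ Φ.skyscraperPresheaf M) (φ : M ⟶ M') :
    famEquiv Φ G Ψ e he P M'
      (α ≫ Functor.whiskerLeft G.op (Φ.skyscraperPresheafFunctor.map φ)) =
      fun s => famEquiv Φ G Ψ e he P M α s ≫ φ := by
  funext s
  apply (Ψ s).presheafFiber_hom_ext
  intro V x
  show (Ψ s).toPresheafFiber V x P ≫ toFam Φ G Ψ e he P M' _ s =
    (Ψ s).toPresheafFiber V x P ≫ toFam Φ G Ψ e he P M α s ≫ φ
  rw [toPresheafFiber_toFam, ← Category.assoc, toPresheafFiber_toFam]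
  show (α.app (op V) ≫ (Φ.skyscraperPresheafFunctor.map φ).app (op (G.obj V))) ≫ _ = _
  rw [Category.assoc, skyF_map_π, Category.assoc]
  rfl

section sheaves

variable [G.IsContinuous J K] [(G.sheafPushforwardContinuous A J K).IsRightAdjoint]
  (F : Sheaf J A) [HasCoproduct (fun s => (Ψ s).sheafFiber.obj F)]

/-- Sheaf morphisms are presheaf morphisms. -/
def sheafHomEquiv (F₁ F₂ : Sheaf J A) : (F₁ ⟶ F₂) ≃ (F₁.obj ⟶ F₂.obj) where
  toFun a := a.hom
  invFun b := ⟨b⟩
  left_inv _ := rfl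
  right_inv _ := rfl

/-- The total natural bijection. -/
noncomputable def homEquivTotal (M : A) :
    (Φ.sheafFiber.obj ((G.sheafPullback A J K).obj F) ⟶ M) ≃
      ((∐ fun s => (Ψ s).sheafFiber.obj F) ⟶ M) :=
  (Φ.skyscraperSheafAdjunction.homEquiv ((G.sheafPullback A J K).obj F) M).trans <|
  ((G.sheafAdjunctionContinuous A J K).homEquiv F (Φ.skyscraperSheaf M)).trans <|
  (sheafHomEquiv F ((G.sheafPushforwardContinuous A J K).obj (Φ.skyscraperSheaf M))).trans <|
  (famEquiv Φ G Ψ e he F.obj M).trans <|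
  sigmaHomEquiv (fun s => (Ψ s).sheafFiber.obj F) M

theorem homEquivTotal_nat {M M' : A}
    (f : Φ.sheafFiber.obj ((G.sheafPullback A J K).obj F) ⟶ M) (φ : M ⟶ M') :
    homEquivTotal Φ G Ψ e he F M' (f ≫ φ) = homEquivTotal Φ G Ψ e he F M f ≫ φ := by
  have h1 : Φ.skyscraperSheafAdjunction.homEquiv ((G.sheafPullback A J K).obj F) M' (f ≫ φ) =
      Φ.skyscraperSheafAdjunction.homEquiv ((G.sheafPullback A J K).obj F) M f ≫
        Φ.skyscraperSheafFunctor.map φ :=
    Adjunction.homEquiv_naturality_right _ _ _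
  have h2 : ∀ a : (G.sheafPullback A J K).obj F ⟶ Φ.skyscraperSheaf M,
      (G.sheafAdjunctionContinuous A J K).homEquiv F (Φ.skyscraperSheaf M')
        (a ≫ Φ.skyscraperSheafFunctor.map φ) =
      (G.sheafAdjunctionContinuous A J K).homEquiv F (Φ.skyscraperSheaf M) a ≫
        (G.sheafPushforwardContinuous A J K).map (Φ.skyscraperSheafFunctor.map φ) :=
    fun a => Adjunction.homEquiv_naturality_right _ _ _
  have h3 : ∀ b : F ⟶ (G.sheafPushforwardContinuous A J K).obj (Φ.skyscraperSheaf M),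
      sheafHomEquiv F _
        (b ≫ (G.sheafPushforwardContinuous A J K).map (Φ.skyscraperSheafFunctor.map φ)) =
      sheafHomEquiv F _ b ≫
        Functor.whiskerLeft G.op (Φ.skyscraperPresheafFunctor.map φ) := fun b => rfl
  show sigmaHomEquiv (fun s => (Ψ s).sheafFiber.obj F) M' (famEquiv Φ G Ψ e he F.obj M'
      (sheafHomEquiv F _ ((G.sheafAdjunctionContinuous A J K).homEquiv F (Φ.skyscraperSheaf M')
        (Φ.skyscraperSheafAdjunction.homEquiv ((G.sheafPullback A J K).obj F) M' (f ≫ φ))))) =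
    sigmaHomEquiv (fun s => (Ψ s).sheafFiber.obj F) M (famEquiv Φ G Ψ e he F.obj M
      (sheafHomEquiv F _ ((G.sheafAdjunctionContinuous A J K).homEquiv F (Φ.skyscraperSheaf M)
        (Φ.skyscraperSheafAdjunction.homEquiv ((G.sheafPullback A J K).obj F) M f)))) ≫ φ
  rw [h1, h2, h3]
  exact (congrArg (sigmaHomEquiv (fun s => (Ψ s).sheafFiber.obj F) M')
    (famEquiv_nat Φ G Ψ e he F.obj _ φ)).trans (sigmaHomEquiv_nat _ _ φ)

/-- The stalk of `G_! F` at `Φ` is the coproduct of the stalks of `F` at the `Ψ s`. -/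
noncomputable def stalkShriekIso :
    Φ.sheafFiber.obj ((G.sheafPullback A J K).obj F) ≅ ∐ fun s => (Ψ s).sheafFiber.obj F :=
  isoOfHomEquiv (fun M => homEquivTotal Φ G Ψ e he F M)
    (fun _ _ f φ => homEquivTotal_nat Φ G Ψ e he F f φ)

end sheaves

end abstract

end Groth.Agent.H4.StalkShriek
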