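import Mathlib
import Groth.Prelude.Def_EtModW
import Groth.Prelude.Def_ARSys
import Groth.Prelude.Def_EtModD2
import Groth.Agent.H4.GeomPoints

/-!
# (Z) of helper20's S13620 squad: an étale sheaf of modules all of whose geometric stalks vanish is zero
-/

set_option autoImplicit false
universe u v₁ u₁
open CategoryTheory CategoryTheory.Limits AlgebraicGeometry Opposite

namespace Groth.Agent.H4.ARNull_Z

theorem isZero_of_stalks (Λ : Type (u + 1)) [CommRing Λ] {X : Scheme.{u}} (E : EtModW.Mod Λ X) (h : ∀ (Ω : Type u) [Field Ω] [IsSepClosed Ω] (ξ : Spec (CommRingCat.of Ω) ⟶ X), IsZero ((EtModW.stalk Λ ξ).obj E)) : IsZero E := by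
  haveI : HasColimitsOfSize.{u, u} (ModuleCat.{u + 1} Λ) :=
    hasColimitsOfSizeShrink.{u, u, u + 1, u + 1} _
  haveI : PreservesFilteredColimitsOfSize.{u, u} (forget (ModuleCat.{u + 1} Λ)) :=
    preservesFilteredColimitsOfSize_shrink.{u, u + 1, u, u + 1} _
  have hli : Presheaf.IsLocallyInjective X.smallEtaleTopology (0 : E.obj ⟶ E.obj) := by
    apply Groth.Agent.H4.isLocallyInjective_of_stalks
    intro Ω _ _ ξ a b _
    have hz : IsZero ((Scheme.pointSmallEtale ξ).presheafFiber.obj E.obj) := h Ω ξ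
    have h0 : ∀ c : ((Scheme.pointSmallEtale ξ).presheafFiber.obj E.obj : ModuleCat.{u + 1} Λ),
        c = 0 := by
      intro c
      have e := hz.eq_of_src (𝟙 _) 0
      have e2 := congrArg (fun f => f.hom c) e
      simpa using e2
    rw [h0 a, h0 b]
  have hinj : ∀ U : X.Etaleᵒᵖ, Function.Injective ((0 : E.obj ⟶ E.obj).app U) :=
    (Presheaf.isLocallyInjective_iff_injective_of_separated X.smallEtaleTopology
      (0 : E.obj ⟶ E.obj) (by
        apply Presieve.IsSheaf.isSeparated
        rw [← isSheaf_iff_isSheaf_of_type]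
        exact ((sheafCompose X.smallEtaleTopology (forget (ModuleCat.{u + 1} Λ))).obj E).2)).1 hli
  rw [IsZero.iff_id_eq_zero]
  apply Sheaf.hom_ext
  ext U x
  apply hinj U
  simp

end Groth.Agent.H4.ARNull_Z
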