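import Mathlib
import Groth.Prelude.Def_EtCore
import Groth.Agent.H4.SkyH1
import Groth.Agent.H4.GenStalk
import Groth.Agent.H4.EtaleRes
import Groth.Agent.H4.SiteBasics
import Groth.Agent.H4.GeomPoints
import Groth.Agent.H68.FEtNormal

/-!
# Constant sheaves on normal integral schemes (helper4 library)

* `exists_irreducible_nbhd`: an étale scheme over a normal integral scheme is locally irreducible.
* `exists_eq_etaU_of_connected`: sections of a constant sheaf over a connected étale scheme are constant.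
* `theta_const`: the unit `const ⟶ g_* g^* const` on constants.
* `isIso_unit_const`: for a preimmersion `g : Y ⟶ X` through the generic point of a normal integral
  scheme, the unit `const_X M ⟶ g_* g^* const_X M` is an isomorphism.
-/

set_option autoImplicit false
open CategoryTheory CategoryTheory.Limits AlgebraicGeometry Opposite
universe u

namespace Groth.Agent.H4.NormalConst

open Groth.Agent.H4 Groth.Agent.H4.SkyH1 Groth.Agent.H4.GenStalk

section Topology

theorem locallyQuasiFinite_of_etale {X Y : Scheme.{u}} (f : X ⟶ Y) [Etale f] :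
    LocallyQuasiFinite f := by
  refine ⟨fun {U} hU {V} hV e => ?_⟩
  have h : (f.appLE U V e).hom.Etale := f.etale_appLE hU hV e
  algebraize [(f.appLE U V e).hom]
  show @Algebra.QuasiFinite _ _ _ _ (f.appLE U V e).hom.toAlgebra
  infer_instance

/-- decomposition of a quasi-compact étale scheme (with domain stalks) over an integral scheme by the
closures of the points of the generic fibre (H68's `generic_fibre_decomp` without finiteness). -/
theorem generic_fibre_decomp' {X Y : Scheme.{u}} [IsIntegral X] (f : Y ⟶ X) [QuasiCompact f]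
    [Etale f] (hdom : ∀ y : Y, IsDomain (Y.presheaf.stalk y)) :
    (f ⁻¹' {genericPoint X}).Finite ∧
    (∀ z ∈ f ⁻¹' {genericPoint X}, ∀ w : Y, w ⤳ z → w = z) ∧
    (∀ y : Y, ∃ z ∈ f ⁻¹' {genericPoint X}, y ∈ closure ({z} : Set Y)) ∧
    (∀ y : Y, ∀ z ∈ f ⁻¹' {genericPoint X}, ∀ z' ∈ f ⁻¹' {genericPoint X},
      y ∈ closure ({z} : Set Y) → y ∈ closure ({z'} : Set Y) → z = z') := by
  classical
  haveI : LocallyQuasiFinite f := locallyQuasiFinite_of_etale f
  have hFfin : (f ⁻¹' {genericPoint X}).Finite := f.finite_preimage_singleton (genericPoint X)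
  have hFdisc : _root_.IsDiscrete (f ⁻¹' {genericPoint X}) :=
    f.isDiscrete_preimage_singleton (genericPoint X)
  have hmax : ∀ z ∈ f ⁻¹' {genericPoint X}, ∀ w : Y, w ⤳ z → w = z := by
    intro z hz w hwz
    have h1 : f w ⤳ f z := hwz.map f.continuous
    have hz' : f z = genericPoint X := hz
    rw [hz'] at h1
    have h2 : genericPoint X ⤳ f w := genericPoint_specializes (f w)
    have hw : w ∈ f ⁻¹' {genericPoint X} := (h1.antisymm h2).eq
    haveI : DiscreteTopology (f ⁻¹' {genericPoint X}) := hFdisc.to_subtype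
    have h3 : (⟨w, hw⟩ : f ⁻¹' {genericPoint X}) ⤳ ⟨z, hz⟩ :=
      (subtype_specializes_iff _ _).mpr hwz
    exact congrArg Subtype.val h3.eq
  have hcover : ∀ y : Y, ∃ z ∈ f ⁻¹' {genericPoint X}, y ∈ closure ({z} : Set Y) := by
    intro y
    have hy : y ∈ closure (f ⁻¹' {genericPoint X}) := by
      rw [mem_closure_iff]
      intro V hV hyV
      have hopen : IsOpen (f '' V) := f.isOpenMap V hV
      have hne : (f '' V).Nonempty := ⟨f y, y, hyV, rfl⟩
      have hη : genericPoint X ∈ f '' V := by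
        rw [(genericPoint_spec X).mem_open_set_iff hopen]
        simpa using hne
      obtain ⟨v, hvV, hv⟩ := hη
      exact ⟨v, hvV, hv⟩
    have hrw : f ⁻¹' {genericPoint X} = ⋃ z ∈ f ⁻¹' {genericPoint X}, ({z} : Set Y) :=
      (Set.biUnion_of_singleton _).symm
    rw [hrw, hFfin.closure_biUnion] at hy
    simpa using hy
  have huniq : ∀ y : Y, ∀ z ∈ f ⁻¹' {genericPoint X}, ∀ z' ∈ f ⁻¹' {genericPoint X},
      y ∈ closure ({z} : Set Y) → y ∈ closure ({z'} : Set Y) → z = z' := by
    intro y z hz z' hz' hyz hyz'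
    haveI := hdom y
    have key : ∀ t ∈ f ⁻¹' {genericPoint X}, y ∈ closure ({t} : Set Y) →
        t = Y.fromSpecStalk y ⟨⊥, Ideal.isPrime_bot⟩ := by
      intro t ht hyt
      have hsp : t ⤳ y := specializes_iff_mem_closure.mpr hyt
      have hmem : t ∈ Set.range (Y.fromSpecStalk y) := by
        rw [Scheme.range_fromSpecStalk]; exact hsp
      obtain ⟨𝔭, h𝔭⟩ := hmem
      have h0 : (⟨⊥, Ideal.isPrime_bot⟩ : PrimeSpectrum (Y.presheaf.stalk y)) ⤳ 𝔭 :=
        (PrimeSpectrum.le_iff_specializes _ _).mp bot_le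
      have h1 := h0.map (Y.fromSpecStalk y).continuous
      rw [h𝔭] at h1
      exact (hmax t ht _ h1).symm
    rw [key z hz hyz, key z' hz' hyz']
  exact ⟨hFfin, hmax, hcover, huniq⟩

theorem isClopen_closure' {X Y : Scheme.{u}} [IsIntegral X] (f : Y ⟶ X)
    [QuasiCompact f] [Etale f] (hdom : ∀ y : Y, IsDomain (Y.presheaf.stalk y)) (z₀ : Y)
    (hz₀ : f z₀ = genericPoint X) : IsClopen (closure ({z₀} : Set Y)) := by
  obtain ⟨hFfin, hmax, hcover, huniq⟩ := generic_fibre_decomp' f hdom
  have hz₀' : z₀ ∈ f ⁻¹' {genericPoint X} := hz₀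
  have hBclosed : IsClosed (⋃ z ∈ (f ⁻¹' {genericPoint X}) \ {z₀}, closure ({z} : Set Y)) :=
    (hFfin.subset Set.sdiff_subset).isClosed_biUnion (fun _ _ => isClosed_closure)
  have hAc : (closure ({z₀} : Set Y))ᶜ =
      ⋃ z ∈ (f ⁻¹' {genericPoint X}) \ {z₀}, closure ({z} : Set Y) := by
    ext y
    simp only [Set.mem_compl_iff, Set.mem_iUnion, Set.mem_sdiff, Set.mem_singleton_iff]
    constructor
    · intro hy
      obtain ⟨z, hz, hyz⟩ := hcover y
      refine ⟨z, ⟨hz, ?_⟩, hyz⟩
      rintro rfl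
      exact hy hyz
    · rintro ⟨z, ⟨hz, hne⟩, hyz⟩ hyz₀
      exact hne (huniq y z hz z₀ hz₀' hyz hyz₀)
  exact ⟨isClosed_closure, by rw [← isClosed_compl_iff, hAc]; exact hBclosed⟩

/-- An étale scheme over a normal integral scheme is locally irreducible. -/
theorem exists_irreducible_nbhd {X : Scheme.{u}} [IsIntegral X]
    (hN : ∀ x : X, IsIntegrallyClosed (X.presheaf.stalk x)) {Y : Scheme.{u}} (f : Y ⟶ X)
    [Etale f] (v : Y) : ∃ O : Y.Opens, v ∈ O ∧ IsIrreducible (O : Set Y) := by
  obtain ⟨_, ⟨X₁, hX₁ : IsAffineOpen X₁, rfl⟩, hx, -⟩ :=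
    X.isBasis_affineOpens.exists_subset_of_mem_open (Set.mem_univ (f v)) isOpen_univ
  let X₀ : X.Opens := X₁
  have hX₀ : IsAffineOpen X₀ := hX₁
  obtain ⟨_, ⟨V₁, hV₁ : IsAffineOpen V₁, rfl⟩, hv, hVX⟩ :=
    Y.isBasis_affineOpens.exists_subset_of_mem_open
      (show v ∈ ((f ⁻¹ᵁ X₀ : Y.Opens) : Set Y) from hx) (f ⁻¹ᵁ X₀).isOpen
  let V₀ : Y.Opens := V₁
  have hV₀ : IsAffineOpen V₀ := hV₁
  have e : V₀ ≤ f ⁻¹ᵁ X₀ := hVX
  let f₀ : (V₀ : Scheme.{u}) ⟶ (X₀ : Scheme.{u}) := f.resLE X₀ V₀ e
  haveI : Nonempty (X₀ : Scheme.{u}) := ⟨⟨f v, hx⟩⟩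
  haveI : IsIntegral (X₀ : Scheme.{u}) := isIntegral_of_isOpenImmersion X₀.ι
  haveI : IsAffine (V₀ : Scheme.{u}) := hV₀
  haveI : IsAffine (X₀ : Scheme.{u}) := hX₀
  haveI : QuasiCompact f₀ := inferInstance
  haveI : Etale f₀ := inferInstance
  have hdom : ∀ y : (V₀ : Scheme.{u}), IsDomain ((V₀ : Scheme.{u}).presheaf.stalk y) := by
    intro y
    have hx' := hN ((V₀.ι ≫ f) y)
    exact (Groth.Agent.H68.FEtNormal.normal_stalk_of_etale (V₀.ι ≫ f) y inferInstance hx').1
  let v₀ : (V₀ : Scheme.{u}) := ⟨v, hv⟩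
  obtain ⟨hFfin, hmax, hcover, huniq⟩ := generic_fibre_decomp' f₀ hdom
  obtain ⟨z, hz, hvz⟩ := hcover v₀
  have hclopen := isClopen_closure' f₀ hdom z hz
  let O' : (V₀ : Scheme.{u}).Opens := ⟨closure {z}, hclopen.isOpen⟩
  have hirr : IsIrreducible (closure ({z} : Set (V₀ : Scheme.{u}))) :=
    isIrreducible_singleton.closure
  refine ⟨V₀.ι ''ᵁ O', ⟨v₀, hvz, rfl⟩, ?_⟩
  have h2 : ((V₀.ι ''ᵁ O' : Y.Opens) : Set Y) =
      V₀.ι '' (closure ({z} : Set (V₀ : Scheme.{u}))) := rfl
  rw [h2]
  exact hirr.image _ V₀.ι.continuous.continuousOn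

end Topology

section Connected

variable {Y : Scheme.{u}}

/-- a common refinement of two étale neighbourhoods of a point -/
theorem exists_common_ref {T V₁ V₂ : Y.Etale} (k₁ : V₁ ⟶ T) (k₂ : V₂ ⟶ T) (v₁ : V₁.left)
    (v₂ : V₂.left) (h : k₁.left.base v₁ = k₂.left.base v₂) :
    ∃ (W : Y.Etale) (p₁ : W ⟶ V₁) (p₂ : W ⟶ V₂) (_ : W.left), p₁ ≫ k₁ = p₂ ≫ k₂ := by
  let W : Y.Etale := Scheme.Etale.mk (pullback.fst k₁.left k₂.left ≫ V₁.hom)
  have hc : pullback.snd k₁.left k₂.left ≫ V₂.hom = pullback.fst k₁.left k₂.left ≫ V₁.hom := by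
    have h1 : k₁.left ≫ T.hom = V₁.hom := MorphismProperty.Over.w k₁
    have h2 : k₂.left ≫ T.hom = V₂.hom := MorphismProperty.Over.w k₂
    rw [← h1, ← h2, ← Category.assoc, ← Category.assoc, pullback.condition]
  let p₁ : W ⟶ V₁ := MorphismProperty.Over.homMk (pullback.fst k₁.left k₂.left) rfl trivial
  let p₂ : W ⟶ V₂ := MorphismProperty.Over.homMk (pullback.snd k₁.left k₂.left) hc trivial
  obtain ⟨w, -, -⟩ :=
    Scheme.Pullback.exists_preimage_pullback (f := k₁.left) (g := k₂.left) v₁ v₂ h
  refine ⟨W, p₁, p₂, w, ?_⟩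
  apply MorphismProperty.Over.Hom.ext
  exact pullback.condition

/-- Sections of a constant sheaf over a connected étale scheme are constant. -/
theorem exists_eq_etaU_of_connected (T : Y.Etale) [PreconnectedSpace T.left] (t₀ : T.left)
    (A : AddCommGrpCat.{u + 1}) (t : ToType ((cs (X := Y) A).obj.obj (op T))) :
    ∃ a : ToType A, t = (etaU A T).hom a := by
  choose Vx kx vx ax hvx hax using fun x : T.left => exists_const_nbhd A T t x
  have key : ∀ (x y : T.left) (v : (Vx x).left), (kx x).left.base v = y → ax x = ax y := by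
    intro x y v hv
    obtain ⟨W, p₁, p₂, w, hp⟩ :=
      exists_common_ref (kx x) (kx y) v (vx y) (hv.trans (hvx y).symm)
    apply etaU_injective A W w
    have h1 : ((cs (X := Y) A).obj.map (p₁ ≫ kx x).op).hom t = (etaU A W).hom (ax x) := by
      rw [← map_comp_apply _ (kx x) p₁ t, hax x]
      exact congrArg (fun f => f.hom (ax x)) (etaU_map A p₁)
    have h2 : ((cs (X := Y) A).obj.map (p₂ ≫ kx y).op).hom t = (etaU A W).hom (ax y) := by
      rw [← map_comp_apply _ (kx y) p₂ t, hax y]
      exact congrArg (fun f => f.hom (ax y)) (etaU_map A p₂)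
    rw [← h1, ← h2, hp]
  have hlc : IsLocallyConstant ax := by
    rw [IsLocallyConstant.iff_exists_open]
    intro x
    refine ⟨Set.range (kx x).left.base, (kx x).left.isOpenMap.isOpen_range, ⟨vx x, hvx x⟩, ?_⟩
    rintro _ ⟨v, rfl⟩
    exact (key x _ v rfl).symm
  refine ⟨ax t₀, ?_⟩
  apply eq_of_locally_eq (cs (X := Y) A) T
  intro b
  refine ⟨Vx b, kx b, vx b, hvx b, ?_⟩
  have hb : ax b = ax t₀ := hlc.apply_eq_of_preconnectedSpace b t₀
  show ((cs (X := Y) A).obj.map (kx b).op).hom t =
    ((cs (X := Y) A).obj.map (kx b).op).hom ((etaU A T).hom (ax t₀))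
  rw [hax b, hb]
  exact (congrArg (fun f => f.hom (ax t₀)) (etaU_map A (kx b))).symm

end Connected

section Unit

variable {X Y : Scheme.{u}} (g : Y ⟶ X)

theorem constAdj_unit (A : AddCommGrpCat.{u + 1}) :
    (EtCore.constAdj X).unit.app A = etaU A (EtCoh.top X) := by
  show ((constantPresheafAdj AddCommGrpCat.{u + 1} (EtCore.topIsTerminal X)).comp
    (sheafificationAdjunction X.smallEtaleTopology AddCommGrpCat.{u + 1})).unit.app A = _
  rw [Adjunction.comp_unit_app]
  exact Category.id_comp _

/-- The unit of `g^* ⊣ g_*` at a constant sheaf, composed with `g_*` of the identification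
`g^* const ≅ const`. -/
noncomputable def theta (M : Type) [AddCommGroup M] :
    EtCoh.const X M ⟶ (EtCoh.push g).obj (EtCoh.const Y M) :=
  (EtCoh.pullPushAdj g).unit.app (EtCoh.const X M) ≫
    (EtCoh.push g).map (EtCore.pullConst g M).hom

theorem theta_top (M : Type) [AddCommGroup M] (a : ULift.{u + 1} M) :
    ((EtCoh.const Y M).obj.map (EtCore.bcTopIso g).inv.op).hom
      (((theta g M).hom.app (op (EtCoh.top X))).hom
        ((etaU (AddCommGrpCat.of (ULift.{u + 1} M)) (EtCoh.top X)).hom a)) =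
      (etaU (AddCommGrpCat.of (ULift.{u + 1} M)) (EtCoh.top Y)).hom a := by
  have h0 := Adjunction.homEquiv_leftAdjointUniq_hom_app
    (((EtCore.constAdj X).comp (EtCoh.pullPushAdj g)).ofNatIsoRight (EtCore.pushGsecIso g))
    (EtCore.constAdj Y) (AddCommGrpCat.of (ULift.{u + 1} M))
  rw [Adjunction.homEquiv_ofNatIsoRight_apply, Adjunction.comp_homEquiv] at h0
  simp only [Equiv.trans_apply, Adjunction.homEquiv_unit] at h0
  rw [constAdj_unit, constAdj_unit] at h0
  exact congrArg (fun f => f.hom a) h0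

theorem theta_const (M : Type) [AddCommGroup M] (V : X.Etale) (a : ULift.{u + 1} M) :
    ((theta g M).hom.app (op V)).hom ((etaU (AddCommGrpCat.of (ULift.{u + 1} M)) V).hom a) =
      (etaU (AddCommGrpCat.of (ULift.{u + 1} M)) ((EtCoh.bc g).obj V)).hom a := by
  let A : AddCommGrpCat.{u + 1} := AddCommGrpCat.of (ULift.{u + 1} M)
  let τ : V ⟶ EtCoh.top X := (EtCore.topIsTerminal X).from V
  let c := ((theta g M).hom.app (op (EtCoh.top X))).hom ((etaU A (EtCoh.top X)).hom a)
  have hc : c = (etaU A ((EtCoh.bc g).obj (EtCoh.top X))).hom a := by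
    have h1 := theta_top g M a
    have h2 : ((EtCoh.const Y M).obj.map (EtCore.bcTopIso g).hom.op).hom
        (((EtCoh.const Y M).obj.map (EtCore.bcTopIso g).inv.op).hom c) = c := by
      rw [map_comp_apply (EtCoh.const Y M).obj (EtCore.bcTopIso g).inv (EtCore.bcTopIso g).hom c,
        Iso.hom_inv_id]
      have h3 : (EtCoh.const Y M).obj.map (𝟙 ((EtCoh.bc g).obj (EtCoh.top X))).op = 𝟙 _ := by
        rw [op_id, CategoryTheory.Functor.map_id]
      exact congrArg (fun f => f.hom c) h3
    rw [← h2, h1]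
    exact congrArg (fun f => f.hom a) (etaU_map A (EtCore.bcTopIso g).hom)
  have hn := (theta g M).hom.naturality τ.op
  have hn' := congrArg (fun f => f.hom ((etaU A (EtCoh.top X)).hom a)) hn
  have h3 := congrArg (fun f => f.hom a) (etaU_map A τ)
  have h4 : ((theta g M).hom.app (op V)).hom ((etaU A V).hom a) =
      ((EtCoh.const Y M).obj.map ((EtCoh.bc g).map τ).op).hom c :=
    (congrArg (fun z => ((theta g M).hom.app (op V)).hom z) h3).symm.trans hn'
  rw [h4, hc]
  exact congrArg (fun f => f.hom a) (etaU_map A ((EtCoh.bc g).map τ))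

/-- For a preimmersion `g : Y ⟶ X` through the generic point of a normal integral scheme `X`, the unit
`const_X M ⟶ g_* g^* const_X M` is an isomorphism. -/
theorem isIso_unit_const (X : Scheme.{u}) [IsIntegral X]
    (hN : ∀ x : X, IsIntegrallyClosed (X.presheaf.stalk x)) {Y : Scheme.{u}} (g : Y ⟶ X)
    [IsPreimmersion g] (hη : genericPoint X ∈ Set.range g.base) (M : Type) [AddCommGroup M] :
    IsIso ((EtCoh.pullPushAdj g).unit.app (EtCoh.const X M)) := by
  let A : AddCommGrpCat.{u + 1} := AddCommGrpCat.of (ULift.{u + 1} M)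
  have hne : ∀ (V : X.Etale) (_ : V.left), ∃ _ : ((EtCoh.bc g).obj V).left, True := by
    intro V v
    have hopen : IsOpen (Set.range V.hom.base) := V.hom.isOpenMap.isOpen_range
    have hgen : genericPoint X ∈ Set.range V.hom.base := by
      rw [(genericPoint_spec X).mem_open_set_iff hopen]
      exact ⟨V.hom.base v, trivial, ⟨v, rfl⟩⟩
    obtain ⟨v', hv'⟩ := hgen
    obtain ⟨y, hy⟩ := hη
    obtain ⟨w, -, -⟩ := Scheme.Pullback.exists_preimage_pullback (f := V.hom) (g := g) v' y
      (hv'.trans hy.symm)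
    exact ⟨w, trivial⟩
  have hθ := theta_const g M
  haveI : Mono (theta g M) := by
    haveI : ∀ T, Mono ((theta g M).hom.app T) := by
      intro T
      induction T using Opposite.rec with
      | _ V =>
        apply (AddCommGrpCat.mono_iff_injective _).2
        apply (injective_iff_map_eq_zero _).2
        intro s hs
        apply eq_of_locally_eq (cs (X := X) A) V
        intro v
        obtain ⟨V', k, v', a, hv', ha⟩ := exists_const_nbhd A V s v
        refine ⟨V', k, v', hv', ?_⟩
        have hn := congrArg (fun f => f.hom s) ((theta g M).hom.naturality k.op)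
        have hs' : ((theta g M).hom.app (op V)).hom s =
            (0 : ToType (((EtCoh.push g).obj (EtCoh.const Y M)).obj.obj (op V))) := hs
        have h2 : ((theta g M).hom.app (op V')).hom ((etaU A V').hom a) = 0 := by
          rw [← ha]
          refine hn.trans ?_
          show (((EtCoh.push g).obj (EtCoh.const Y M)).obj.map k.op).hom
            (((theta g M).hom.app (op V)).hom s) = 0
          rw [hs']
          exact map_zero _
        rw [hθ] at h2
        obtain ⟨w, -⟩ := hne V' v'
        have ha0 : a = 0 := etaU_injective A _ w (h2.trans (map_zero _).symm)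
        show ((cs (X := X) A).obj.map k.op).hom s = ((cs (X := X) A).obj.map k.op).hom 0
        rw [ha, ha0, map_zero, map_zero]
    haveI : Mono (theta g M).hom := NatTrans.mono_of_mono_app _
    exact Sheaf.Hom.mono_of_presheaf_mono _ _ _
  haveI : Sheaf.IsLocallySurjective (theta g M) := by
    constructor
    intro V t
    apply mem_smallEtaleTopology_of_forall
    intro v
    obtain ⟨O, hvO, hirr⟩ := exists_irreducible_nbhd hN V.hom v
    let V'' : X.Etale := res V O
    let k : V'' ⟶ V := resMap V O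
    let Z : Scheme.{u} := O
    let fZ : Z ⟶ X := O.ι ≫ V.hom
    haveI : IrreducibleSpace Z := Subtype.irreducibleSpace hirr
    let T : Y.Etale := (EtCoh.bc g).obj V''
    let z : Z := genericPoint Z
    have hz : fZ.base z = genericPoint X := by
      have hopen : IsOpen (Set.range fZ.base) := fZ.isOpenMap.isOpen_range
      have hgen : genericPoint X ∈ Set.range fZ.base := by
        rw [(genericPoint_spec X).mem_open_set_iff hopen]
        exact ⟨fZ.base z, trivial, ⟨z, rfl⟩⟩
      obtain ⟨v₁, hv₁⟩ := hgen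
      have h1 : z ⤳ v₁ := genericPoint_specializes v₁
      have h2 : fZ.base z ⤳ fZ.base v₁ := h1.map fZ.continuous
      rw [hv₁] at h2
      exact (h2.antisymm (genericPoint_specializes _)).eq
    let S : Set Z := fZ.base ⁻¹' Set.range g.base
    have hzS : z ∈ S := by
      show fZ.base z ∈ Set.range g.base
      rw [hz]
      exact hη
    have hS : _root_.IsPreconnected S := by
      apply _root_.IsPreconnected.subset_closure isPreconnected_singleton
        (Set.singleton_subset_iff.2 hzS)
      intro x _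
      have hcl : closure ({z} : Set Z) = Set.univ := (genericPoint_spec Z).def
      rw [hcl]
      trivial
    haveI : IsPreimmersion (pullback.fst fZ g) :=
      MorphismProperty.pullback_fst _ _ ‹IsPreimmersion g›
    have hrange : Set.range (pullback.fst fZ g).base = S :=
      Scheme.Pullback.range_fst fZ g
    have hpc : PreconnectedSpace ↥(pullback fZ g) := by
      constructor
      have h3 : _root_.IsPreconnected ((pullback.fst fZ g).base '' Set.univ) := by
        rw [Set.image_univ, hrange]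
        exact hS
      exact ((pullback.fst fZ g).isEmbedding.isInducing.isPreconnected_image).1 h3
    haveI : PreconnectedSpace T.left := hpc
    obtain ⟨t₀, -⟩ : ∃ t₀ : T.left, (pullback.fst fZ g).base t₀ = z := by
      have : z ∈ Set.range (pullback.fst fZ g).base := by
        rw [hrange]
        exact hzS
      exact this
    let t' : ToType ((cs (X := Y) A).obj.obj (op T)) :=
      (((EtCoh.push g).obj (EtCoh.const Y M)).obj.map k.op).hom t
    obtain ⟨a, ha⟩ := exists_eq_etaU_of_connected T t₀ A t'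
    refine ⟨V'', k, ⟨v, hvO⟩, ⟨(etaU A V'').hom a, ?_⟩, rfl⟩
    exact (hθ V'' a).trans ha.symm
  haveI : Epi (theta g M) := Sheaf.epi_of_isLocallySurjective _
  haveI : IsIso (theta g M) := isIso_of_mono_of_epi _
  have h : IsIso ((EtCoh.pullPushAdj g).unit.app (EtCoh.const X M) ≫
      (EtCoh.push g).map (EtCore.pullConst g M).hom) := by
    change IsIso (theta g M)
    infer_instance
  exact IsIso.of_isIso_comp_right ((EtCoh.pullPushAdj g).unit.app (EtCoh.const X M))
    ((EtCoh.push g).map (EtCore.pullConst g M).hom)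

end Unit

end Groth.Agent.H4.NormalConst
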