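import Mathlib
import Groth.Prelude.Def_EtCore
import Groth.Agent.H4.PullLocal
import Groth.Agent.H4.PullLC
import Groth.Agent.H4.EtaleRes
import Groth.Agent.H4.NormalConst

/-!
# Sections of inverse images along universally submersive morphisms with connected geometric fibres
(helper4 library)
-/

set_option autoImplicit false
open CategoryTheory CategoryTheory.Limits AlgebraicGeometry Opposite GrothendieckTopology
universe u v' u' w'

namespace Groth.Agent.H4.ConnFibre

open Groth.Agent.H4 Groth.Agent.S0100 Groth.Agent.S19885 Groth.Agent.H4.PullLocal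

section Generic

variable {X Y : Scheme.{u}} (f : X ⟶ Y)

/-- a common refinement of two étale neighbourhoods of a point, with the point -/
theorem exists_common_ref' {T V₁ V₂ : Y.Etale} (k₁ : V₁ ⟶ T) (k₂ : V₂ ⟶ T) (v₁ : V₁.left)
    (v₂ : V₂.left) (h : k₁.left.base v₁ = k₂.left.base v₂) :
    ∃ (W : Y.Etale) (p₁ : W ⟶ V₁) (p₂ : W ⟶ V₂) (w : W.left), p₁ ≫ k₁ = p₂ ≫ k₂ ∧
      p₁.left.base w = v₁ ∧ p₂.left.base w = v₂ := by
  let W : Y.Etale := Scheme.Etale.mk (pullback.fst k₁.left k₂.left ≫ V₁.hom)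
  have hc : pullback.snd k₁.left k₂.left ≫ V₂.hom = pullback.fst k₁.left k₂.left ≫ V₁.hom := by
    have h1 : k₁.left ≫ T.hom = V₁.hom := MorphismProperty.Over.w k₁
    have h2 : k₂.left ≫ T.hom = V₂.hom := MorphismProperty.Over.w k₂
    rw [← h1, ← h2, ← Category.assoc, ← Category.assoc, pullback.condition]
  let p₁ : W ⟶ V₁ := MorphismProperty.Over.homMk (pullback.fst k₁.left k₂.left) rfl trivial
  let p₂ : W ⟶ V₂ := MorphismProperty.Over.homMk (pullback.snd k₁.left k₂.left) hc trivial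
  obtain ⟨w, hw1, hw2⟩ :=
    Scheme.Pullback.exists_preimage_pullback (f := k₁.left) (g := k₂.left) v₁ v₂ h
  refine ⟨W, p₁, p₂, w, ?_, hw1, hw2⟩
  apply MorphismProperty.Over.Hom.ext
  exact pullback.condition

variable (A : Type u') [Category.{v'} A] [HasProducts.{u} A] [HasColimitsOfSize.{u, u} A]
  {FC : A → A → Type*} {CC : A → Type w'} [∀ X Y, FunLike (FC X Y) (CC X) (CC Y)]
  [ConcreteCategory.{w'} A FC] [PreservesFilteredColimitsOfSize.{u, u} (forget A)]
  [((EtCoh.bc f).sheafPushforwardContinuous A Y.smallEtaleTopology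
    X.smallEtaleTopology).IsRightAdjoint]

/-- Version of `PullLocal.exists_eq_of_unit_eq` recording the position of the neighbourhood. -/
theorem exists_eq_of_unit_eq' (G : Sheaf Y.smallEtaleTopology A) (U : Y.Etale)
    (a₁ a₂ : ToType (G.obj.obj (op U))) (V : X.Etale) (φ : V ⟶ (EtCoh.bc f).obj U) (v : V.left)
    (h : (((EtCoh.bc f).sheafPullback A Y.smallEtaleTopology
        X.smallEtaleTopology).obj G).obj.map φ.op
        ((((EtCoh.bc f).sheafAdjunctionContinuous A Y.smallEtaleTopology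
          X.smallEtaleTopology).unit.app G).hom.app (op U) a₁) =
      (((EtCoh.bc f).sheafPullback A Y.smallEtaleTopology
        X.smallEtaleTopology).obj G).obj.map φ.op
        ((((EtCoh.bc f).sheafAdjunctionContinuous A Y.smallEtaleTopology
          X.smallEtaleTopology).unit.app G).hom.app (op U) a₂)) :
    ∃ (U' : Y.Etale) (g : U' ⟶ U) (u' : U'.left),
      g.left.base u' = (pullback.fst U.hom f).base (φ.left.base v) ∧
      G.obj.map g.op a₁ = G.obj.map g.op a₂ := by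
  obtain ⟨Ω, _, _, ξ, t, ht⟩ := exists_geometric_point V v
  let Φ := Scheme.pointSmallEtale ξ
  let Ψ := Scheme.pointSmallEtale (ξ ≫ f)
  let F' := ((EtCoh.bc f).sheafPullback A Y.smallEtaleTopology X.smallEtaleTopology).obj G
  let un := ((EtCoh.bc f).sheafAdjunctionContinuous A Y.smallEtaleTopology
    X.smallEtaleTopology).unit.app G
  let σ : Φ.fiber.obj ((EtCoh.bc f).obj U) := Φ.fiber.map φ t
  let τ : Ψ.fiber.obj U := downPt f ξ U σ
  have hl : liftPt f ξ U τ = σ := liftPt_downPt f ξ U σ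
  have h5 : Φ.toPresheafFiber ((EtCoh.bc f).obj U) σ F'.obj (un.hom.app (op U) a₁) =
      Φ.toPresheafFiber ((EtCoh.bc f).obj U) σ F'.obj (un.hom.app (op U) a₂) := by
    have e1 := GrothendieckTopology.Point.toPresheafFiber_w_apply Φ φ t F'.obj
      (un.hom.app (op U) a₁)
    have e2 := GrothendieckTopology.Point.toPresheafFiber_w_apply Φ φ t F'.obj
      (un.hom.app (op U) a₂)
    exact e1.symm.trans ((congrArg (fun z => Φ.toPresheafFiber V t F'.obj z) h).trans e2)
  have key : ∀ a : ToType (G.obj.obj (op U)),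
      (stalkPullIso f ξ A).hom.app G (Ψ.toPresheafFiber U τ G.obj a) =
        Φ.toPresheafFiber ((EtCoh.bc f).obj U) σ F'.obj (un.hom.app (op U) a) := by
    intro a
    have h3 := germ_unit f A ξ G U τ a
    rw [hl] at h3
    exact h3
  have h6 : Ψ.toPresheafFiber U τ G.obj a₁ = Ψ.toPresheafFiber U τ G.obj a₂ := by
    have h7 : (stalkPullIso f ξ A).hom.app G (Ψ.toPresheafFiber U τ G.obj a₁) =
        (stalkPullIso f ξ A).hom.app G (Ψ.toPresheafFiber U τ G.obj a₂) := by
      rw [key, key]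
      exact h5
    have h8 := congrArg (fun z => (stalkPullIso f ξ A).inv.app G z) h7
    have h9 : ∀ z, (stalkPullIso f ξ A).inv.app G ((stalkPullIso f ξ A).hom.app G z) = z :=
      fun z => iso_inv_hom f A ξ G z
    exact (h9 _).symm.trans (h8.trans (h9 _))
  obtain ⟨U', g, y, hy, hg⟩ := (Ψ.toPresheafFiber_eq_iff' U τ a₁ a₂).1 h6
  refine ⟨U', g, y.left.base (default : Spec (CommRingCat.of Ω)), ?_, hg⟩
  have h10 := congrArg (fun q : Ψ.fiber.obj U =>
    q.left.base (default : Spec (CommRingCat.of Ω))) hy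
  refine h10.trans ?_
  rw [← ht]
  rfl

end Generic

section Ab

variable {X S : Scheme.{u}} (f : X ⟶ S) (F : EtCoh.Ab S)

/-- `f⁻¹ F`. -/
noncomputable abbrev pF : EtCoh.Ab X := (EtCoh.pull f).obj F

/-- The unit on sections over `U`. -/
noncomputable abbrev uS (U : S.Etale) :
    F.obj.obj (op U) ⟶ (pF f F).obj.obj (op ((EtCoh.bc f).obj U)) :=
  ((EtCoh.pullPushAdj f).unit.app F).hom.app (op U)

theorem uS_nat {U₁ U₂ : S.Etale} (k : U₂ ⟶ U₁) (x : ToType (F.obj.obj (op U₁))) :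
    ((pF f F).obj.map ((EtCoh.bc f).map k).op).hom ((uS f F U₁).hom x) =
      (uS f F U₂).hom ((F.obj.map k.op).hom x) :=
  PullLC.unit_nat f F k x

/-- For surjective `f`, the unit `F ⟶ f_* f⁻¹ F` is injective on sections. -/
theorem unit_injective (hf : Function.Surjective f.base) (V : S.Etale)
    (a₁ a₂ : ToType (F.obj.obj (op V))) (h : (uS f F V).hom a₁ = (uS f F V).hom a₂) :
    a₁ = a₂ := by
  apply eq_of_locally_eq F V
  intro b
  obtain ⟨x, hx⟩ := hf (V.hom.base b)
  obtain ⟨z, hz1, -⟩ :=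
    Scheme.Pullback.exists_preimage_pullback (f := V.hom) (g := f) b x hx.symm
  have h0 : ((pF f F).obj.map (𝟙 ((EtCoh.bc f).obj V)).op).hom ((uS f F V).hom a₁) =
      ((pF f F).obj.map (𝟙 ((EtCoh.bc f).obj V)).op).hom ((uS f F V).hom a₂) :=
    congrArg (fun z => ((pF f F).obj.map (𝟙 ((EtCoh.bc f).obj V)).op).hom z) h
  obtain ⟨U', g, u', hu', hg⟩ := exists_eq_of_unit_eq' f AddCommGrpCat.{u + 1} F V a₁ a₂
    ((EtCoh.bc f).obj V) (𝟙 _) z h0
  exact ⟨U', g, u', hu'.trans hz1, hg⟩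

end Ab

section Locus

variable {X S : Scheme.{u}} (f : X ⟶ S) (F : EtCoh.Ab S)
  (t : ToType ((pF f F).obj.obj (op ((EtCoh.bc f).obj (EtCoh.top S)))))

/-- The morphism to the terminal object. -/
noncomputable abbrev toTop (U : S.Etale) : U ⟶ EtCoh.top S := (EtCore.topIsTerminal S).from U

theorem toTop_comp {U₁ U₂ : S.Etale} (k : U₂ ⟶ U₁) : k ≫ toTop U₁ = toTop U₂ :=
  (EtCore.topIsTerminal S).hom_ext _ _

/-- The restriction of `t` to `U ×_S X`. -/
noncomputable def tU (U : S.Etale) : ToType ((pF f F).obj.obj (op ((EtCoh.bc f).obj U))) :=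
  ((pF f F).obj.map ((EtCoh.bc f).map (toTop U)).op).hom t

theorem tU_map {U₁ U₂ : S.Etale} (k : U₂ ⟶ U₁) :
    ((pF f F).obj.map ((EtCoh.bc f).map k).op).hom (tU f F t U₁) = tU f F t U₂ := by
  unfold tU
  rw [← PullLC.map_comp_apply, ← Functor.map_comp, toTop_comp]

theorem map_uS {U₁ U₂ : S.Etale} (k : U₂ ⟶ U₁) {V : X.Etale} (p : V ⟶ (EtCoh.bc f).obj U₂)
    (x : ToType (F.obj.obj (op U₁))) :
    ((pF f F).obj.map (p ≫ (EtCoh.bc f).map k).op).hom ((uS f F U₁).hom x) =
      ((pF f F).obj.map p.op).hom ((uS f F U₂).hom ((F.obj.map k.op).hom x)) := by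
  rw [PullLC.map_comp_apply, uS_nat]

theorem map_tU {U₁ U₂ : S.Etale} (k : U₂ ⟶ U₁) {V : X.Etale} (p : V ⟶ (EtCoh.bc f).obj U₂) :
    ((pF f F).obj.map (p ≫ (EtCoh.bc f).map k).op).hom (tU f F t U₁) =
      ((pF f F).obj.map p.op).hom (tU f F t U₂) := by
  rw [PullLC.map_comp_apply, tU_map]

/-- `y` lies in the agreement locus of `u(a)` and `t` on `U ×_S X`. -/
def InD (U : S.Etale) (a : ToType (F.obj.obj (op U))) (y : ((EtCoh.bc f).obj U).left) : Prop :=
  ∃ (N : X.Etale) (n : N ⟶ (EtCoh.bc f).obj U) (y' : N.left), n.left.base y' = y ∧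
    ((pF f F).obj.map n.op).hom ((uS f F U).hom a) = ((pF f F).obj.map n.op).hom (tU f F t U)

theorem isOpen_D (U : S.Etale) (a : ToType (F.obj.obj (op U))) :
    IsOpen {y | InD f F t U a y} := by
  rw [isOpen_iff_forall_mem_open]
  rintro y ⟨N, n, y', hy', hn⟩
  refine ⟨Set.range n.left.base, ?_, n.left.isOpenMap.isOpen_range, ⟨y', hy'⟩⟩
  rintro _ ⟨y'', rfl⟩
  exact ⟨N, n, y'', rfl, hn⟩

theorem fst_bc_map {U₁ U₂ : S.Etale} (k : U₂ ⟶ U₁) (z : ((EtCoh.bc f).obj U₂).left) :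
    (pullback.fst U₁.hom f).base (((EtCoh.bc f).map k).left.base z) =
      k.left.base ((pullback.fst U₂.hom f).base z) := by
  have h := congrArg (fun m => m.base z) (bc_map_fst f k)
  exact h

theorem exists_nbhd_not_D (U : S.Etale) (a : ToType (F.obj.obj (op U)))
    (y : ((EtCoh.bc f).obj U).left) (hy : ¬ InD f F t U a y) :
    ∃ Q : Set ((EtCoh.bc f).obj U).left, IsOpen Q ∧ y ∈ Q ∧
      ∀ y' ∈ Q, (pullback.fst U.hom f).base y' = (pullback.fst U.hom f).base y →
        ¬ InD f F t U a y' := by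
  obtain ⟨V', k, v', U₁, h, φ, a₁, hv', hφ, hs⟩ :=
    exists_local_rep f AddCommGrpCat.{u + 1} F U ((EtCoh.bc f).obj U) (𝟙 _) (tU f F t U) y
  have hs' : ((pF f F).obj.map k.op).hom (tU f F t U) =
      ((pF f F).obj.map φ.op).hom ((uS f F U₁).hom a₁) := hs
  have hφ' : φ ≫ (EtCoh.bc f).map h = k := hφ.trans (Category.comp_id k)
  have hfst : ∀ w : V'.left, h.left.base ((pullback.fst U₁.hom f).base (φ.left.base w)) =
      (pullback.fst U.hom f).base (k.left.base w) := by
    intro w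
    rw [← fst_bc_map, ← hφ']
    rfl
  obtain ⟨u, hu⟩ : ∃ u, u = (pullback.fst U.hom f).base y := ⟨_, rfl⟩
  obtain ⟨u₁, hu₁def⟩ : ∃ u₁, u₁ = (pullback.fst U₁.hom f).base (φ.left.base v') := ⟨_, rfl⟩
  have hu₁ : h.left.base u₁ = u := by
    rw [hu₁def, hfst, hv', hu]
  haveI : LocallyQuasiFinite h.left := NormalConst.locallyQuasiFinite_of_etale h.left
  have hdisc := h.left.isDiscrete_preimage_singleton u
  have hmem : u₁ ∈ (h.left ⁻¹' {u} : Set U₁.left) := hu₁
  haveI : DiscreteTopology ↥(h.left ⁻¹' {u} : Set U₁.left) := hdisc.to_subtype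
  have hop : IsOpen ({⟨u₁, hmem⟩} : Set ↥(h.left ⁻¹' {u} : Set U₁.left)) := isOpen_discrete _
  obtain ⟨O, hO, hOeq⟩ := isOpen_induced_iff.1 hop
  have hu₁O : u₁ ∈ O := by
    have h1 : (⟨u₁, hmem⟩ : ↥(h.left ⁻¹' {u} : Set U₁.left)) ∈ Subtype.val ⁻¹' O := by
      rw [hOeq]
      rfl
    exact h1
  have hOuniq : ∀ x ∈ O, h.left.base x = u → x = u₁ := by
    intro x hxO hx
    have hx' : x ∈ (h.left ⁻¹' {u} : Set U₁.left) := hx
    have h1 : (⟨x, hx'⟩ : ↥(h.left ⁻¹' {u} : Set U₁.left)) ∈ Subtype.val ⁻¹' O := hxO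
    rw [hOeq] at h1
    exact congrArg Subtype.val h1
  have hcont : Continuous (fun w : V'.left =>
      (pullback.fst U₁.hom f).base (φ.left.base w)) :=
    (pullback.fst U₁.hom f).continuous.comp φ.left.continuous
  refine ⟨k.left.base '' ((fun w : V'.left =>
      (pullback.fst U₁.hom f).base (φ.left.base w)) ⁻¹' O),
    k.left.isOpenMap _ (hO.preimage hcont), ⟨v', by rw [Set.mem_preimage, ← hu₁def]; exact hu₁O,
      hv'⟩, ?_⟩
  rintro y' ⟨w, hwO, rfl⟩ hfy hD
  apply hy
  have h1 : (pullback.fst U₁.hom f).base (φ.left.base w) = u₁ := by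
    apply hOuniq _ hwO
    rw [hfst, hfy, hu]
  obtain ⟨N, n, y'', hy'', hn⟩ := hD
  obtain ⟨R, r₁, r₂, xr, hr, -, hr2⟩ := exists_common_ref' n k y'' w hy''
  have e1 : ((pF f F).obj.map (r₂ ≫ φ).op).hom ((uS f F U₁).hom a₁) =
      ((pF f F).obj.map (r₂ ≫ φ).op).hom ((uS f F U₁).hom ((F.obj.map h.op).hom a)) := by
    have s1 : ((pF f F).obj.map (r₂ ≫ φ).op).hom ((uS f F U₁).hom a₁) =
        ((pF f F).obj.map (r₁ ≫ n).op).hom (tU f F t U) := by
      rw [PullLC.map_comp_apply, ← hs', ← PullLC.map_comp_apply, hr]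
    have s2 : ((pF f F).obj.map (r₁ ≫ n).op).hom (tU f F t U) =
        ((pF f F).obj.map (r₁ ≫ n).op).hom ((uS f F U).hom a) := by
      rw [PullLC.map_comp_apply, ← hn, ← PullLC.map_comp_apply]
    have s3 : ((pF f F).obj.map (r₁ ≫ n).op).hom ((uS f F U).hom a) =
        ((pF f F).obj.map (r₂ ≫ φ).op).hom ((uS f F U₁).hom ((F.obj.map h.op).hom a)) := by
      rw [← map_uS, Category.assoc, hφ', hr]
    exact s1.trans (s2.trans s3)
  obtain ⟨U', g', u', hu', hg'⟩ := exists_eq_of_unit_eq' f AddCommGrpCat.{u + 1} F U₁ a₁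
    ((F.obj.map h.op).hom a) R (r₂ ≫ φ) xr e1
  have hg'' : (F.obj.map g'.op).hom a₁ = (F.obj.map g'.op).hom ((F.obj.map h.op).hom a) := hg'
  have hu'' : g'.left.base u' = (pullback.fst U₁.hom f).base (φ.left.base v') := by
    rw [hu', ← hu₁def, ← h1]
    have e0 : (r₂ ≫ φ).left.base xr = φ.left.base (r₂.left.base xr) := rfl
    rw [e0, hr2]
  obtain ⟨V'', c, v₃, φ₂, hv₃, hφ₂⟩ := exists_refine f g' V' φ v' u' hu''
  refine ⟨V'', c ≫ k, v₃, ?_, ?_⟩
  · have e0 : (c ≫ k).left.base v₃ = k.left.base (c.left.base v₃) := rfl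
    rw [e0, hv₃, hv']
  · have q1 : ((pF f F).obj.map (c ≫ k).op).hom ((uS f F U).hom a) =
        ((pF f F).obj.map φ₂.op).hom ((uS f F U').hom ((F.obj.map g'.op).hom
          ((F.obj.map h.op).hom a))) := by
      rw [← hφ', ← Category.assoc, map_uS, ← hφ₂, map_uS]
    have q2 : ((pF f F).obj.map (c ≫ k).op).hom (tU f F t U) =
        ((pF f F).obj.map φ₂.op).hom ((uS f F U').hom ((F.obj.map g'.op).hom a₁)) := by
      rw [PullLC.map_comp_apply, hs', ← PullLC.map_comp_apply, ← hφ₂, map_uS]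
    rw [q1, q2, hg'']

end Locus

section Fibre

variable {X S : Scheme.{u}} (f : X ⟶ S)

theorem isPreconnected_fibre
    (hc : ∀ (Ω : Type u) [Field Ω] [IsAlgClosed Ω] (s : Spec (CommRingCat.of Ω) ⟶ S),
      ConnectedSpace ↥(pullback f s))
    (U : S.Etale) (u : U.left) :
    _root_.IsPreconnected ((pullback.fst U.hom f).base ⁻¹' {u}) := by
  obtain ⟨Ω, _, _, ū, hū⟩ : ∃ (Ω : Type u) (_ : Field Ω) (_ : IsAlgClosed Ω)
      (ū : Spec (CommRingCat.of Ω) ⟶ U.left), ∀ p, ū.base p = u := by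
    refine ⟨AlgebraicClosure (U.left.residueField u), inferInstance, inferInstance,
      Spec.map (CommRingCat.ofHom (algebraMap (U.left.residueField u)
        (AlgebraicClosure (U.left.residueField u)))) ≫ U.left.fromSpecResidueField u, ?_⟩
    intro p
    rw [Scheme.Hom.comp_apply]
    exact Scheme.fromSpecResidueField_apply _ _
  haveI := hc Ω (ū ≫ U.hom)
  have hcond : (pullback.snd f (ū ≫ U.hom) ≫ ū) ≫ U.hom = pullback.fst f (ū ≫ U.hom) ≫ f := by
    rw [Category.assoc]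
    exact pullback.condition.symm
  obtain ⟨γ, hγ1, hγ2⟩ : ∃ γ : pullback f (ū ≫ U.hom) ⟶ pullback U.hom f,
      γ ≫ pullback.fst U.hom f = pullback.snd f (ū ≫ U.hom) ≫ ū ∧
      γ ≫ pullback.snd U.hom f = pullback.fst f (ū ≫ U.hom) :=
    ⟨pullback.lift _ _ hcond, pullback.lift_fst _ _ _, pullback.lift_snd _ _ _⟩
  have sq : IsPullback γ (pullback.snd f (ū ≫ U.hom)) (pullback.fst U.hom f) ū := by
    refine IsPullback.of_right (h₁₂ := pullback.snd U.hom f) (v₁₃ := f) (h₂₂ := U.hom) ?_ hγ1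
      (IsPullback.of_hasPullback U.hom f).flip
    rw [hγ2]
    exact IsPullback.of_hasPullback f (ū ≫ U.hom)
  have hrange : Set.range γ.base = (pullback.fst U.hom f).base ⁻¹' {u} := by
    ext y
    constructor
    · rintro ⟨w, rfl⟩
      show (pullback.fst U.hom f).base (γ.base w) = u
      rw [← Scheme.Hom.comp_apply, hγ1, Scheme.Hom.comp_apply]
      exact hū _
    · intro hy
      have hy' : (pullback.fst U.hom f).base y = ū.base default :=
        (hy : (pullback.fst U.hom f).base y = u).trans (hū _).symm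
      obtain ⟨p, hp, -⟩ := Scheme.Pullback.exists_preimage_pullback
        (f := pullback.fst U.hom f) (g := ū) y default hy'
      refine ⟨sq.isoPullback.inv.base p, ?_⟩
      rw [← hp, ← Scheme.Hom.comp_apply, IsPullback.isoPullback_inv_fst]
  rw [← hrange]
  exact isPreconnected_range γ.continuous

theorem isQuotientMap_fst
    (hsub : ∀ (S' : Scheme.{u}) (g : S' ⟶ S), Topology.IsQuotientMap (pullback.snd f g).base)
    (U : S.Etale) : Topology.IsQuotientMap (pullback.fst U.hom f).base := by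
  have e : (pullbackSymmetry U.hom f).hom ≫ pullback.snd f U.hom = pullback.fst U.hom f :=
    pullbackSymmetry_hom_comp_snd U.hom f
  have h1 := hsub U.left U.hom
  have h2 : Topology.IsQuotientMap (pullbackSymmetry U.hom f).hom.base :=
    (Scheme.homeoOfIso (pullbackSymmetry U.hom f)).isQuotientMap
  have h3 := h1.comp h2
  rw [← e]
  exact h3

theorem surjective_of_sub
    (hsub : ∀ (S' : Scheme.{u}) (g : S' ⟶ S), Topology.IsQuotientMap (pullback.snd f g).base) :
    Function.Surjective f.base := by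
  intro s
  obtain ⟨z, hz⟩ := (hsub S (𝟙 S)).surjective s
  refine ⟨(pullback.fst f (𝟙 S)).base z, ?_⟩
  rw [← Scheme.Hom.comp_apply, pullback.condition, Scheme.Hom.comp_apply]
  exact hz

end Fibre

section Main

variable {X S : Scheme.{u}} (f : X ⟶ S) (F : EtCoh.Ab S)
  (t : ToType ((pF f F).obj.obj (op ((EtCoh.bc f).obj (EtCoh.top S)))))

theorem inD_of_fst_eq
    (hc : ∀ (Ω : Type u) [Field Ω] [IsAlgClosed Ω] (s : Spec (CommRingCat.of Ω) ⟶ S),
      ConnectedSpace ↥(pullback f s))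
    (U : S.Etale) (a : ToType (F.obj.obj (op U))) (y₁ y₂ : ((EtCoh.bc f).obj U).left)
    (h1 : InD f F t U a y₁)
    (h12 : (pullback.fst U.hom f).base y₁ = (pullback.fst U.hom f).base y₂) :
    InD f F t U a y₂ := by
  by_contra h2
  have hpre := isPreconnected_fibre f hc U ((pullback.fst U.hom f).base y₁)
  let C : Set ((EtCoh.bc f).obj U).left := {y | ∃ Q : Set ((EtCoh.bc f).obj U).left,
    IsOpen Q ∧ y ∈ Q ∧ ∀ y' ∈ Q, (pullback.fst U.hom f).base y' =
      (pullback.fst U.hom f).base y₁ → ¬ InD f F t U a y'}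
  have hCopen : IsOpen C := by
    rw [isOpen_iff_forall_mem_open]
    rintro y ⟨Q, hQ, hyQ, hQD⟩
    exact ⟨Q, fun y' hy' => ⟨Q, hQ, hy', hQD⟩, hQ, hyQ⟩
  have hcover : (pullback.fst U.hom f).base ⁻¹' {(pullback.fst U.hom f).base y₁} ⊆
      {y | InD f F t U a y} ∪ C := by
    intro y hy
    by_cases hD : InD f F t U a y
    · exact Or.inl hD
    · right
      obtain ⟨Q, hQ, hyQ, hQD⟩ := exists_nbhd_not_D f F t U a y hD
      have hy' : (pullback.fst U.hom f).base y = (pullback.fst U.hom f).base y₁ := hy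
      exact ⟨Q, hQ, hyQ, fun y' hy'Q hfy' => hQD y' hy'Q (hfy'.trans hy'.symm)⟩
  have hne1 : ((pullback.fst U.hom f).base ⁻¹' {(pullback.fst U.hom f).base y₁} ∩
      {y | InD f F t U a y}).Nonempty := ⟨y₁, rfl, h1⟩
  have hne2 : ((pullback.fst U.hom f).base ⁻¹' {(pullback.fst U.hom f).base y₁} ∩ C).Nonempty := by
    obtain ⟨Q, hQ, hyQ, hQD⟩ := exists_nbhd_not_D f F t U a y₂ h2
    exact ⟨y₂, h12.symm, Q, hQ, hyQ, fun y' hy'Q hfy' => hQD y' hy'Q (hfy'.trans h12)⟩
  obtain ⟨y, hyf, hyD, Q, hQ, hyQ, hQD⟩ :=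
    hpre _ _ (isOpen_D f F t U a) hCopen hcover hne1 hne2
  exact hQD y hyQ hyf hyD

theorem isOpen_image_D
    (hsub : ∀ (S' : Scheme.{u}) (g : S' ⟶ S), Topology.IsQuotientMap (pullback.snd f g).base)
    (hc : ∀ (Ω : Type u) [Field Ω] [IsAlgClosed Ω] (s : Spec (CommRingCat.of Ω) ⟶ S),
      ConnectedSpace ↥(pullback f s))
    (U : S.Etale) (a : ToType (F.obj.obj (op U))) :
    IsOpen ((pullback.fst U.hom f).base '' {y | InD f F t U a y}) := by
  rw [← (isQuotientMap_fst f hsub U).isOpen_preimage]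
  have h : (pullback.fst U.hom f).base ⁻¹' ((pullback.fst U.hom f).base '' {y | InD f F t U a y}) =
      {y | InD f F t U a y} := by
    ext y
    constructor
    · rintro ⟨y₁, h1, h12⟩
      exact inD_of_fst_eq f F t hc U a y₁ y h1 h12
    · intro hy
      exact ⟨y, hy, rfl⟩
  rw [h]
  exact isOpen_D f F t U a

end Main

section Final

variable {X S : Scheme.{u}} (f : X ⟶ S) (F : EtCoh.Ab S)

theorem exists_local_section
    (hsub : ∀ (S' : Scheme.{u}) (g : S' ⟶ S), Topology.IsQuotientMap (pullback.snd f g).base)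
    (hc : ∀ (Ω : Type u) [Field Ω] [IsAlgClosed Ω] (s : Spec (CommRingCat.of Ω) ⟶ S),
      ConnectedSpace ↥(pullback f s))
    (t : ToType ((pF f F).obj.obj (op ((EtCoh.bc f).obj (EtCoh.top S)))))
    (z : ((EtCoh.bc f).obj (EtCoh.top S)).left) :
    ∃ (W : S.Etale) (b : ToType (F.obj.obj (op W))) (y : ((EtCoh.bc f).obj W).left),
      (uS f F W).hom b = tU f F t W ∧ ((EtCoh.bc f).map (toTop W)).left.base y = z := by
  obtain ⟨V', k, v', U₁, h, φ, a₁, hv', hφ, hs⟩ :=
    exists_local_rep f AddCommGrpCat.{u + 1} F (EtCoh.top S) ((EtCoh.bc f).obj (EtCoh.top S))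
      (𝟙 _) t z
  have hs' : ((pF f F).obj.map k.op).hom t =
      ((pF f F).obj.map φ.op).hom ((uS f F U₁).hom a₁) := hs
  have hφ' : φ ≫ (EtCoh.bc f).map h = k := hφ.trans (Category.comp_id k)
  have hh : h = toTop U₁ := (EtCore.topIsTerminal S).hom_ext _ _
  have hD0 : InD f F t U₁ a₁ (φ.left.base v') := by
    refine ⟨V', φ, v', rfl, ?_⟩
    rw [← hs']
    unfold tU
    rw [← PullLC.map_comp_apply, ← hh, hφ']
  let Eo : U₁.left.Opens := ⟨(pullback.fst U₁.hom f).base '' {y | InD f F t U₁ a₁ y},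
    isOpen_image_D f F t hsub hc U₁ a₁⟩
  have hEo : ∀ p : U₁.left, p ∈ Eo ↔
      ∃ y, InD f F t U₁ a₁ y ∧ (pullback.fst U₁.hom f).base y = p := fun p => Iff.rfl
  let W : S.Etale := res U₁ Eo
  let ρ : W ⟶ U₁ := resMap U₁ Eo
  let b : ToType (F.obj.obj (op W)) := (F.obj.map ρ.op).hom a₁
  have hC1 : (uS f F W).hom b = tU f F t W := by
    apply eq_of_locally_eq (pF f F) ((EtCoh.bc f).obj W)
    intro y
    have hy₁E : (pullback.fst U₁.hom f).base (((EtCoh.bc f).map ρ).left.base y) ∈ Eo := by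
      rw [fst_bc_map]
      exact ((pullback.fst W.hom f).base y).2
    obtain ⟨y₂, hy₂D, hy₂⟩ := (hEo _).1 hy₁E
    have hy₁D := inD_of_fst_eq f F t hc U₁ a₁ y₂ _ hy₂D hy₂
    obtain ⟨N, n, y', hy', hn⟩ := hy₁D
    obtain ⟨R, r₁, r₂, xr, hr, -, hr2⟩ := exists_common_ref' n ((EtCoh.bc f).map ρ) y' y hy'
    refine ⟨R, r₂, xr, hr2, ?_⟩
    show ((pF f F).obj.map r₂.op).hom ((uS f F W).hom ((F.obj.map ρ.op).hom a₁)) =
      ((pF f F).obj.map r₂.op).hom (tU f F t W)
    rw [← map_uS, ← map_tU f F t ρ r₂, ← hr, PullLC.map_comp_apply, hn,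
      ← PullLC.map_comp_apply]
  have hy₀E : (pullback.fst U₁.hom f).base (φ.left.base v') ∈ Eo := (hEo _).2 ⟨_, hD0, rfl⟩
  have sq := EtCoh.isPullback_bc_map f ρ
  obtain ⟨p, hp1, -⟩ := Scheme.Pullback.exists_preimage_pullback
    (f := pullback.fst U₁.hom f) (g := ρ.left) (φ.left.base v') ⟨_, hy₀E⟩ rfl
  refine ⟨W, b, sq.isoPullback.inv.base p, hC1, ?_⟩
  have e1 : ((EtCoh.bc f).map ρ).left.base (sq.isoPullback.inv.base p) = φ.left.base v' := by
    have h5 := congrArg (fun m => m.base p) (IsPullback.isoPullback_inv_fst sq)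
    exact h5.trans hp1
  have e2 : (EtCoh.bc f).map (toTop W) = (EtCoh.bc f).map ρ ≫ (EtCoh.bc f).map h := by
    rw [← Functor.map_comp, hh, toTop_comp]
  rw [e2]
  show ((EtCoh.bc f).map h).left.base (((EtCoh.bc f).map ρ).left.base _) = z
  rw [e1]
  have e3 : ((EtCoh.bc f).map h).left.base (φ.left.base v') =
      (φ ≫ (EtCoh.bc f).map h).left.base v' := rfl
  rw [e3, hφ', hv']

/-- For a universally submersive morphism with connected geometric fibres, global sections of an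
abelian étale sheaf and of its inverse image agree. -/
theorem bijective_unit
    (hsub : ∀ (S' : Scheme.{u}) (g : S' ⟶ S), Topology.IsQuotientMap (pullback.snd f g).base)
    (hc : ∀ (Ω : Type u) [Field Ω] [IsAlgClosed Ω] (s : Spec (CommRingCat.of Ω) ⟶ S),
      ConnectedSpace ↥(pullback f s)) :
    Function.Bijective (((EtCoh.pullPushAdj f).unit.app F).hom.app (op (EtCoh.top S))) := by
  have hsf := surjective_of_sub f hsub
  constructor
  · intro a₁ a₂ h
    exact unit_injective f F hsf (EtCoh.top S) a₁ a₂ h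
  · intro t
    have hA := fun z => exists_local_section f F hsub hc t z
    choose W b yW hb hyW using hA
    let FT := (sheafCompose S.smallEtaleTopology (forget AddCommGrpCat.{u + 1})).obj F
    have hF : Presieve.IsSheaf S.smallEtaleTopology FT.obj :=
      (isSheaf_iff_isSheaf_of_type _ _).1 FT.2
    have hcovS : Sieve.generate (Presieve.ofArrows W (fun z => toTop (W z))) ∈
        S.smallEtaleTopology (EtCoh.top S) := by
      apply mem_smallEtaleTopology_of_forall
      intro s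
      obtain ⟨x, hx⟩ := hsf s
      obtain ⟨z, hz1, -⟩ := Scheme.Pullback.exists_preimage_pullback
        (f := (EtCoh.top S).hom) (g := f) s x hx.symm
      refine ⟨W z, toTop (W z), (pullback.fst (W z).hom f).base (yW z),
        ⟨_, 𝟙 _, _, Presieve.ofArrows.mk z, Category.id_comp _⟩, ?_⟩
      rw [← fst_bc_map, hyW, hz1]
    have h1 := (Presieve.isSheafFor_iff_generate _).2 (hF _ hcovS)
    have h2 := (Presieve.isSheafFor_arrows_iff _ _).1 h1
    have hcompat : Presieve.Arrows.Compatible FT.obj (fun z => toTop (W z)) b := by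
      intro z z' T g g' _
      apply unit_injective f F hsf T
      show (uS f F T).hom ((F.obj.map g.op).hom (b z)) =
        (uS f F T).hom ((F.obj.map g'.op).hom (b z'))
      rw [← uS_nat, ← uS_nat, hb, hb, tU_map, tU_map]
    obtain ⟨a, ha, -⟩ := h2 b hcompat
    have ha' : ∀ z, (F.obj.map (toTop (W z)).op).hom a = b z := ha
    refine ⟨a, ?_⟩
    apply eq_of_locally_eq (pF f F) ((EtCoh.bc f).obj (EtCoh.top S))
    intro z
    refine ⟨(EtCoh.bc f).obj (W z), (EtCoh.bc f).map (toTop (W z)), yW z, hyW z, ?_⟩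
    show ((pF f F).obj.map ((EtCoh.bc f).map (toTop (W z))).op).hom
        ((uS f F (EtCoh.top S)).hom a) =
      ((pF f F).obj.map ((EtCoh.bc f).map (toTop (W z))).op).hom t
    rw [uS_nat, ha', hb]
    rfl

end Final

end Groth.Agent.H4.ConnFibre
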