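import Mathlib
import Groth.Prelude.Def_SGA4b
import Groth.Agent.H4.PullLocal
import Groth.Agent.H4.ConnFibre

/-!
# Descent of sections of étale sheaves of sets along universally submersive morphisms (helper4 library)
-/

set_option autoImplicit false
open CategoryTheory CategoryTheory.Limits AlgebraicGeometry Opposite GrothendieckTopology
universe u

namespace Groth.Agent.H4.DescSets

open EtDesc

/-- The unit of `f^* ⊣ f_*` on sections over `U`. -/
noncomputable abbrev uSh {X Y : Scheme.{u}} (f : X ⟶ Y) (F : Sh Y) (U : Y.Etale) :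
    F.obj.obj (op U) → ((pullSh f).obj F).obj.obj (op ((EtCoh.bc f).obj U)) :=
  ((adjSh f).unit.app F).hom.app (op U)

theorem uSh_nat {X Y : Scheme.{u}} (f : X ⟶ Y) (F : Sh Y) {U₁ U₂ : Y.Etale} (k : U₂ ⟶ U₁)
    (x : F.obj.obj (op U₁)) :
    ((pullSh f).obj F).obj.map ((EtCoh.bc f).map k).op (uSh f F U₁ x) =
      uSh f F U₂ (F.obj.map k.op x) := by
  exact (NatTrans.naturality_apply ((adjSh f).unit.app F).hom k.op x).symm

theorem sh_nat {X : Scheme.{u}} {G H : Sh X} (c : G ⟶ H) {U₁ U₂ : X.Etale} (k : U₂ ⟶ U₁)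
    (x : G.obj.obj (op U₁)) :
    H.obj.map k.op (c.hom.app (op U₁) x) = c.hom.app (op U₂) (G.obj.map k.op x) := by
  exact (NatTrans.naturality_apply c.hom k.op x).symm

theorem map_comp_apply' {X : Scheme.{u}} (G : Sh X) {U V W : X.Etale} (p : V ⟶ U) (q : W ⟶ V)
    (z : G.obj.obj (op U)) :
    G.obj.map (q ≫ p).op z = G.obj.map q.op (G.obj.map p.op z) := by
  rw [op_comp, Functor.map_comp]
  rfl

variable {T S X : Scheme.{u}}

theorem pullVia_unit (g : T ⟶ S) (a : S ⟶ X) (b : T ⟶ X) (w : g ≫ a = b) (F : Sh X) (U : X.Etale) :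
    ∃ θ : (EtCoh.bc g).obj ((EtCoh.bc a).obj U) ≅ (EtCoh.bc b).obj U,
      θ.hom.left ≫ pullback.fst U.hom b =
        pullback.fst ((EtCoh.bc a).obj U).hom g ≫ pullback.fst U.hom a ∧
      ∀ x : F.obj.obj (op U),
        (pullVia g a b w F).hom.hom.app (op ((EtCoh.bc g).obj ((EtCoh.bc a).obj U)))
          (uSh g ((pullSh a).obj F) ((EtCoh.bc a).obj U) (uSh a F U x)) =
        ((pullSh b).obj F).obj.map θ.hom.op (uSh b F U x) := by
  subst w
  refine ⟨((MorphismProperty.Over.pullbackComp (P := EtCoh.etaleMP) (Q := ⊤) g a).app U).symm,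
    ?_, ?_⟩
  · have h : ((MorphismProperty.Over.pullbackComp (P := EtCoh.etaleMP) (Q := ⊤) g a).app U).symm.hom.left =
        (pullbackLeftPullbackSndIso U.hom a g).hom := by simp
    rw [h]
    exact pullbackLeftPullbackSndIso_hom_fst U.hom a g
  · intro x
    have h0 := Adjunction.unit_leftAdjointUniq_hom_app (adjSh (g ≫ a))
      (((adjSh a).comp (adjSh g)).ofNatIsoRight (pushCompSh a g)) F
    have hu : (((adjSh a).comp (adjSh g)).ofNatIsoRight (pushCompSh a g)).unit.app F =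
        ((adjSh a).comp (adjSh g)).unit.app F ≫ (pushCompSh a g).hom.app _ := by
      rw [← Adjunction.homEquiv_id, Adjunction.homEquiv_ofNatIsoRight_apply,
        Adjunction.homEquiv_id]
    rw [hu, Adjunction.comp_unit_app] at h0
    have h1 := congrArg (fun m => m.hom.app (op U) x) h0
    have h1' : ((pullCompSh g a).hom.app F).hom.app (op ((EtCoh.bc (g ≫ a)).obj U))
          (uSh (g ≫ a) F U x) =
        ((pullSh g).obj ((pullSh a).obj F)).obj.map
          ((MorphismProperty.Over.pullbackComp (P := EtCoh.etaleMP) (Q := ⊤) g a).hom.app U).op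
          (uSh g ((pullSh a).obj F) ((EtCoh.bc a).obj U) (uSh a F U x)) := h1
    obtain ⟨pbc, hpbc⟩ : ∃ pbc : (EtCoh.bc (g ≫ a)).obj U ≅ (EtCoh.bc g).obj ((EtCoh.bc a).obj U),
      pbc = (MorphismProperty.Over.pullbackComp (P := EtCoh.etaleMP) (Q := ⊤) g a).app U :=
      ⟨_, rfl⟩
    obtain ⟨y, hy⟩ : ∃ y, y = uSh g ((pullSh a).obj F) ((EtCoh.bc a).obj U) (uSh a F U x) :=
      ⟨_, rfl⟩
    have h2 : ((pullCompSh g a).hom.app F).hom.app (op ((EtCoh.bc (g ≫ a)).obj U))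
          (uSh (g ≫ a) F U x) =
        ((pullSh g).obj ((pullSh a).obj F)).obj.map pbc.hom.op y := by
      rw [hpbc, hy]
      exact h1'
    have e1 : ((pullSh g).obj ((pullSh a).obj F)).obj.map pbc.inv.op
        (((pullSh g).obj ((pullSh a).obj F)).obj.map pbc.hom.op y) = y := by
      rw [← map_comp_apply', pbc.inv_hom_id, op_id, CategoryTheory.Functor.map_id]
      rfl
    have e2 : ∀ z, ((pullCompSh g a).inv.app F).hom.app (op ((EtCoh.bc g).obj ((EtCoh.bc a).obj U)))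
        (((pullCompSh g a).hom.app F).hom.app (op ((EtCoh.bc g).obj ((EtCoh.bc a).obj U))) z) =
        z := by
      intro z
      have h3 := (pullCompSh g a).hom_inv_id_app F
      exact congrArg (fun m => m.hom.app (op ((EtCoh.bc g).obj ((EtCoh.bc a).obj U))) z) h3
    rw [← hy, ← hpbc]
    have e3 : (pullVia g a (g ≫ a) rfl F).hom = (pullCompSh g a).inv.app F := by
      simp [pullVia, pullCongrSh]
    rw [e3, ← e1, ← h2, sh_nat, e2]
    rfl

section Basic

open Groth.Agent.H4 Groth.Agent.H4.ConnFibre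

theorem eq_of_locally_eq_sh {Z : Scheme.{u}} (G : Sh Z) (B : Z.Etale) (x y : G.obj.obj (op B))
    (h : ∀ b : B.left, ∃ (Y : Z.Etale) (f : Y ⟶ B) (v : Y.left), f.left.base v = b ∧
      G.obj.map f.op x = G.obj.map f.op y) : x = y := by
  have hsep : Presieve.IsSeparated Z.smallEtaleTopology G.obj :=
    Presieve.IsSheaf.isSeparated ((isSheaf_iff_isSheaf_of_type _ _).1 G.2)
  let R : Sieve B :=
    { arrows := fun Y f => G.obj.map f.op x = G.obj.map f.op y
      downward_closed := by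
        intro Y W f hf g
        show G.obj.map (g ≫ f).op x = G.obj.map (g ≫ f).op y
        rw [map_comp_apply', map_comp_apply', hf] }
  have hcov : R ∈ Z.smallEtaleTopology B := by
    apply mem_smallEtaleTopology_of_forall
    intro b
    obtain ⟨Y, f, v, hv, hf⟩ := h b
    exact ⟨Y, f, v, hf, hv⟩
  exact (hsep R hcov).ext (fun _ _ hf => hf)

variable {X' X : Scheme.{u}} (f : X' ⟶ X) (F : Sh X)

/-- For surjective `f`, the unit `F ⟶ f_* f^* F` is injective on sections. -/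
theorem unit_injective_sh (hf : Function.Surjective f.base) (V : X.Etale)
    (a₁ a₂ : F.obj.obj (op V)) (h : uSh f F V a₁ = uSh f F V a₂) : a₁ = a₂ := by
  apply eq_of_locally_eq_sh F V
  intro b
  obtain ⟨x, hx⟩ := hf (V.hom.base b)
  obtain ⟨z, hz1, -⟩ :=
    Scheme.Pullback.exists_preimage_pullback (f := V.hom) (g := f) b x hx.symm
  have h0 : ((pullSh f).obj F).obj.map (𝟙 ((EtCoh.bc f).obj V)).op (uSh f F V a₁) =
      ((pullSh f).obj F).obj.map (𝟙 ((EtCoh.bc f).obj V)).op (uSh f F V a₂) := by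
    rw [h]
  obtain ⟨U', g, u', hu', hg⟩ := exists_eq_of_unit_eq' f (Type (u + 1)) F V a₁ a₂
    ((EtCoh.bc f).obj V) (𝟙 _) z h0
  exact ⟨U', g, u', hu'.trans hz1, hg⟩

/-- restriction of a global section to `P` -/
noncomputable abbrev rS {Z : Scheme.{u}} (G : Sh Z) (s : G.obj.obj (op (EtCoh.top Z))) (P : Z.Etale) :
    G.obj.obj (op P) :=
  G.obj.map (toTop P).op s

theorem rS_map {Z : Scheme.{u}} (G : Sh Z) (s : G.obj.obj (op (EtCoh.top Z))) {P₁ P₂ : Z.Etale}
    (k : P₂ ⟶ P₁) : G.obj.map k.op (rS G s P₁) = rS G s P₂ := by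
  unfold rS
  rw [← map_comp_apply', toTop_comp]

theorem map_id_apply' {Z : Scheme.{u}} (G : Sh Z) (P : Z.Etale) (z : G.obj.obj (op P)) :
    G.obj.map (𝟙 P).op z = z := by
  rw [op_id, CategoryTheory.Functor.map_id]
  rfl

/-- `secPull` in terms of the unit. -/
theorem secPull_eq {Y Z : Scheme.{u}} (g : Y ⟶ Z) (G : Sh Z) (s : G.obj.obj (op (EtCoh.top Z))) :
    secPull g G s = ((pullSh g).obj G).obj.map (EtCore.bcTopIso g).inv.op (uSh g G (EtCoh.top Z) s) :=
  rfl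

/-- The unit of a restricted global section is the restriction of `secPull`. -/
theorem uSh_rS {Y Z : Scheme.{u}} (g : Y ⟶ Z) (G : Sh Z) (s : G.obj.obj (op (EtCoh.top Z)))
    (P : Z.Etale) :
    uSh g G P (rS G s P) = rS ((pullSh g).obj G) (secPull g G s) ((EtCoh.bc g).obj P) := by
  unfold rS
  rw [← uSh_nat, secPull_eq, ← map_comp_apply']
  have e : toTop ((EtCoh.bc g).obj P) ≫ (EtCore.bcTopIso g).inv = (EtCoh.bc g).map (toTop P) :=
    (EtCore.bcTopIsTerminal g).hom_ext _ _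
  rw [e]

end Basic

section Descent

open Groth.Agent.H4 Groth.Agent.H4.ConnFibre

theorem iso_inv_hom_apply {Z : Scheme.{u}} {A B : Sh Z} (φ : A ≅ B) (V : Z.Etale)
    (z : A.obj.obj (op V)) : φ.inv.hom.app (op V) (φ.hom.hom.app (op V) z) = z :=
  congrArg (fun m : A ⟶ A => m.hom.app (op V) z) φ.hom_inv_id

theorem iso_hom_inv_apply {Z : Scheme.{u}} {A B : Sh Z} (φ : A ≅ B) (V : Z.Etale)
    (z : B.obj.obj (op V)) : φ.hom.hom.app (op V) (φ.inv.hom.app (op V) z) = z :=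
  congrArg (fun m : B ⟶ B => m.hom.app (op V) z) φ.inv_hom_id

variable {T S X : Scheme.{u}}

/-- `pullVia` sends the iterated pullback of a global section to its pullback along the composite. -/
theorem pullVia_secPull (g : T ⟶ S) (a : S ⟶ X) (b : T ⟶ X) (w : g ≫ a = b) (F : Sh X)
    (s : F.obj.obj (op (EtCoh.top X))) :
    (pullVia g a b w F).hom.hom.app (op (EtCoh.top T))
      (secPull g ((pullSh a).obj F) (secPull a F s)) = secPull b F s := by
  obtain ⟨θ, -, hθ⟩ := pullVia_unit g a b w F (EtCoh.top X)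
  rw [secPull_eq g, secPull_eq a, ← uSh_nat, ← map_comp_apply', ← sh_nat, hθ, ← map_comp_apply',
    secPull_eq b]
  have e : ((EtCore.bcTopIso g).inv ≫ (EtCoh.bc g).map (EtCore.bcTopIso a).inv) ≫ θ.hom =
      (EtCore.bcTopIso b).inv := (EtCore.bcTopIsTerminal b).hom_ext _ _
  rw [e]

/-- `pullVia` on the unit of a restricted global section. -/
theorem pullVia_uSh_rS (g : T ⟶ S) (a : S ⟶ X) (b : T ⟶ X) (w : g ≫ a = b) (F : Sh X)
    (s' : ((pullSh a).obj F).obj.obj (op (EtCoh.top S))) (P : S.Etale) :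
    (pullVia g a b w F).hom.hom.app (op ((EtCoh.bc g).obj P))
      (uSh g ((pullSh a).obj F) P (rS ((pullSh a).obj F) s' P)) =
    rS ((pullSh b).obj F)
      ((pullVia g a b w F).hom.hom.app (op (EtCoh.top T)) (secPull g ((pullSh a).obj F) s'))
      ((EtCoh.bc g).obj P) := by
  rw [uSh_rS]
  unfold rS
  rw [sh_nat]

end Descent

section Saturation

open Groth.Agent.H4 Groth.Agent.H4.ConnFibre Groth.Agent.H4.PullLocal

variable {X' X : Scheme.{u}} (f : X' ⟶ X) (F : Sh X)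
  (s' : ((pullSh f).obj F).obj.obj (op (EtCoh.top X')))

/-- `y` lies in the agreement locus of `u(a)` and `s'` on `U ×_X X'`. -/
def InD (U : X.Etale) (a : F.obj.obj (op U)) (y : ((EtCoh.bc f).obj U).left) : Prop :=
  ∃ (N : X'.Etale) (n : N ⟶ (EtCoh.bc f).obj U) (y' : N.left), n.left.base y' = y ∧
    ((pullSh f).obj F).obj.map n.op (uSh f F U a) = rS ((pullSh f).obj F) s' N

theorem isOpen_D (U : X.Etale) (a : F.obj.obj (op U)) : IsOpen {y | InD f F s' U a y} := by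
  rw [isOpen_iff_forall_mem_open]
  rintro y ⟨N, n, y', hy', hn⟩
  refine ⟨Set.range n.left.base, ?_, n.left.isOpenMap.isOpen_range, ⟨y', hy'⟩⟩
  rintro _ ⟨y'', rfl⟩
  exact ⟨N, n, y'', rfl, hn⟩

theorem inD_of_fst_eq {X2 : Scheme.{u}} (p1 p2 : X2 ⟶ X') (hpb : IsPullback p1 p2 f f)
    (w2 : p2 ≫ f = p1 ≫ f)
    (Hd : (pullVia p1 f (p1 ≫ f) rfl F).hom.hom.app (op (EtCoh.top X2))
        (secPull p1 ((pullSh f).obj F) s') =
      (pullVia p2 f (p1 ≫ f) w2 F).hom.hom.app (op (EtCoh.top X2))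
        (secPull p2 ((pullSh f).obj F) s'))
    (U : X.Etale) (a : F.obj.obj (op U)) (y₁ y₂ : ((EtCoh.bc f).obj U).left)
    (h1 : InD f F s' U a y₁)
    (h12 : (pullback.fst U.hom f).base y₁ = (pullback.fst U.hom f).base y₂) :
    InD f F s' U a y₂ := by
  obtain ⟨N, n, y', hy', hn⟩ := h1
  obtain ⟨θ₁, hθ₁f, hθ₁⟩ := pullVia_unit p1 f (p1 ≫ f) rfl F U
  obtain ⟨θ₂, hθ₂f, hθ₂⟩ := pullVia_unit p2 f (p1 ≫ f) w2 F U
  have g1 := pullVia_uSh_rS p1 f (p1 ≫ f) rfl F s'
  have g2 := pullVia_uSh_rS p2 f (p1 ≫ f) w2 F s'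
  obtain ⟨pv1, hpv1⟩ : ∃ pv : (pullSh p1).obj ((pullSh f).obj F) ≅ (pullSh (p1 ≫ f)).obj F,
    pv = pullVia p1 f (p1 ≫ f) rfl F := ⟨_, rfl⟩
  obtain ⟨pv2, hpv2⟩ : ∃ pv : (pullSh p2).obj ((pullSh f).obj F) ≅ (pullSh (p1 ≫ f)).obj F,
    pv = pullVia p2 f (p1 ≫ f) w2 F := ⟨_, rfl⟩
  rw [← hpv1] at hθ₁ Hd g1
  rw [← hpv2] at hθ₂ Hd g2
  obtain ⟨τ₁, hτ₁⟩ : ∃ τ, τ = pv1.hom.hom.app (op (EtCoh.top X2)) (secPull p1 ((pullSh f).obj F) s') := ⟨_, rfl⟩
  obtain ⟨τ₂, hτ₂⟩ : ∃ τ, τ = pv2.hom.hom.app (op (EtCoh.top X2)) (secPull p2 ((pullSh f).obj F) s') := ⟨_, rfl⟩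
  rw [← hτ₁, ← hτ₂] at Hd
  rw [← hτ₁] at g1
  rw [← hτ₂] at g2
  have E1 : ((pullSh (p1 ≫ f)).obj F).obj.map ((EtCoh.bc p1).map n).op
        (((pullSh (p1 ≫ f)).obj F).obj.map θ₁.hom.op (uSh (p1 ≫ f) F U a)) =
      rS ((pullSh (p1 ≫ f)).obj F) τ₁ ((EtCoh.bc p1).obj N) := by
    rw [← hθ₁, sh_nat, uSh_nat, hn]
    exact g1 N
  obtain ⟨ψ, hψ⟩ : ∃ ψ : (EtCoh.bc p1).obj N ⟶ (EtCoh.bc p2).obj ((EtCoh.bc f).obj U),
      ψ = (EtCoh.bc p1).map n ≫ θ₁.hom ≫ θ₂.inv := ⟨_, rfl⟩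
  have hψθ : ψ ≫ θ₂.hom = (EtCoh.bc p1).map n ≫ θ₁.hom := by
    rw [hψ, Category.assoc, Category.assoc, Iso.inv_hom_id, Category.comp_id]
  have E2 : ((pullSh p2).obj ((pullSh f).obj F)).obj.map ψ.op
        (uSh p2 ((pullSh f).obj F) ((EtCoh.bc f).obj U) (uSh f F U a)) =
      ((pullSh p2).obj ((pullSh f).obj F)).obj.map ψ.op
        (uSh p2 ((pullSh f).obj F) ((EtCoh.bc f).obj U) (rS ((pullSh f).obj F) s' ((EtCoh.bc f).obj U))) := by
    have hL : pv2.hom.hom.app (op ((EtCoh.bc p1).obj N))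
          (((pullSh p2).obj ((pullSh f).obj F)).obj.map ψ.op
            (uSh p2 ((pullSh f).obj F) ((EtCoh.bc f).obj U) (uSh f F U a))) =
        rS ((pullSh (p1 ≫ f)).obj F) τ₁ ((EtCoh.bc p1).obj N) := by
      rw [← sh_nat pv2.hom ψ, hθ₂, ← map_comp_apply', hψθ, map_comp_apply']
      exact E1
    have hR : pv2.hom.hom.app (op ((EtCoh.bc p1).obj N))
          (((pullSh p2).obj ((pullSh f).obj F)).obj.map ψ.op
            (uSh p2 ((pullSh f).obj F) ((EtCoh.bc f).obj U) (rS ((pullSh f).obj F) s' ((EtCoh.bc f).obj U)))) =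
        rS ((pullSh (p1 ≫ f)).obj F) τ₂ ((EtCoh.bc p1).obj N) := by
      rw [← sh_nat pv2.hom ψ, g2, rS_map]
    have h3 := hL.trans ((congrArg (fun τ => rS ((pullSh (p1 ≫ f)).obj F) τ
      ((EtCoh.bc p1).obj N)) Hd).trans hR.symm)
    have h4 := congrArg (fun z => pv2.inv.hom.app (op ((EtCoh.bc p1).obj N)) z) h3
    simp only [iso_inv_hom_apply] at h4
    exact h4
  -- the point chase
  obtain ⟨w₀, hw1, hw2⟩ := Scheme.Pullback.exists_preimage_pullback
    (f := pullback.fst U.hom f) (g := pullback.fst U.hom f) y₁ y₂ h12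
  obtain ⟨π₁, hπ₁⟩ : ∃ π : pullback (pullback.fst U.hom f) (pullback.fst U.hom f) ⟶
      ((EtCoh.bc f).obj U).left, π = pullback.fst _ _ := ⟨_, rfl⟩
  obtain ⟨π₂, hπ₂⟩ : ∃ π : pullback (pullback.fst U.hom f) (pullback.fst U.hom f) ⟶
      ((EtCoh.bc f).obj U).left, π = pullback.snd _ _ := ⟨_, rfl⟩
  have hπ : π₁ ≫ pullback.fst U.hom f = π₂ ≫ pullback.fst U.hom f := by
    rw [hπ₁, hπ₂]
    exact pullback.condition
  rw [← hπ₁] at hw1
  rw [← hπ₂] at hw2
  have hPhom : ((EtCoh.bc f).obj U).hom ≫ f = pullback.fst U.hom f ≫ U.hom :=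
    pullback.condition.symm
  have c₀ : (π₁ ≫ ((EtCoh.bc f).obj U).hom) ≫ f = (π₂ ≫ ((EtCoh.bc f).obj U).hom) ≫ f := by
    calc (π₁ ≫ ((EtCoh.bc f).obj U).hom) ≫ f
        = π₁ ≫ (((EtCoh.bc f).obj U).hom ≫ f) := Category.assoc _ _ _
      _ = π₁ ≫ (pullback.fst U.hom f ≫ U.hom) := congrArg (fun m => π₁ ≫ m) hPhom
      _ = (π₁ ≫ pullback.fst U.hom f) ≫ U.hom := (Category.assoc _ _ _).symm
      _ = (π₂ ≫ pullback.fst U.hom f) ≫ U.hom := congrArg (fun m => m ≫ U.hom) hπ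
      _ = π₂ ≫ (pullback.fst U.hom f ≫ U.hom) := Category.assoc _ _ _
      _ = π₂ ≫ (((EtCoh.bc f).obj U).hom ≫ f) := (congrArg (fun m => π₂ ≫ m) hPhom).symm
      _ = (π₂ ≫ ((EtCoh.bc f).obj U).hom) ≫ f := (Category.assoc _ _ _).symm
  obtain ⟨lam, hl1, hl2⟩ : ∃ l : pullback (pullback.fst U.hom f) (pullback.fst U.hom f) ⟶ X2,
      l ≫ p1 = π₁ ≫ ((EtCoh.bc f).obj U).hom ∧ l ≫ p2 = π₂ ≫ ((EtCoh.bc f).obj U).hom :=
    ⟨hpb.lift _ _ c₀, hpb.lift_fst _ _ _, hpb.lift_snd _ _ _⟩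
  obtain ⟨m₁, hm₁f, hm₁s⟩ : ∃ m : pullback (pullback.fst U.hom f) (pullback.fst U.hom f) ⟶
      ((EtCoh.bc p1).obj ((EtCoh.bc f).obj U)).left,
      m ≫ pullback.fst ((EtCoh.bc f).obj U).hom p1 = π₁ ∧
      m ≫ pullback.snd ((EtCoh.bc f).obj U).hom p1 = lam :=
    ⟨pullback.lift π₁ lam hl1.symm, pullback.lift_fst _ _ _, pullback.lift_snd _ _ _⟩
  obtain ⟨m₂, hm₂f, hm₂s⟩ : ∃ m : pullback (pullback.fst U.hom f) (pullback.fst U.hom f) ⟶
      ((EtCoh.bc p2).obj ((EtCoh.bc f).obj U)).left,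
      m ≫ pullback.fst ((EtCoh.bc f).obj U).hom p2 = π₂ ∧
      m ≫ pullback.snd ((EtCoh.bc f).obj U).hom p2 = lam :=
    ⟨pullback.lift π₂ lam hl2.symm, pullback.lift_fst _ _ _, pullback.lift_snd _ _ _⟩
  have hm : m₁ ≫ θ₁.hom.left = m₂ ≫ θ₂.hom.left := by
    apply pullback.hom_ext
    · calc (m₁ ≫ θ₁.hom.left) ≫ pullback.fst U.hom (p1 ≫ f)
          = m₁ ≫ (θ₁.hom.left ≫ pullback.fst U.hom (p1 ≫ f)) := Category.assoc _ _ _
        _ = m₁ ≫ (pullback.fst ((EtCoh.bc f).obj U).hom p1 ≫ pullback.fst U.hom f) :=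
            congrArg (fun m => m₁ ≫ m) hθ₁f
        _ = (m₁ ≫ pullback.fst ((EtCoh.bc f).obj U).hom p1) ≫ pullback.fst U.hom f :=
            (Category.assoc _ _ _).symm
        _ = π₁ ≫ pullback.fst U.hom f := congrArg (fun m => m ≫ pullback.fst U.hom f) hm₁f
        _ = π₂ ≫ pullback.fst U.hom f := hπ
        _ = (m₂ ≫ pullback.fst ((EtCoh.bc f).obj U).hom p2) ≫ pullback.fst U.hom f :=
            (congrArg (fun m => m ≫ pullback.fst U.hom f) hm₂f).symm
        _ = m₂ ≫ (pullback.fst ((EtCoh.bc f).obj U).hom p2 ≫ pullback.fst U.hom f) :=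
            Category.assoc _ _ _
        _ = m₂ ≫ (θ₂.hom.left ≫ pullback.fst U.hom (p1 ≫ f)) :=
            (congrArg (fun m => m₂ ≫ m) hθ₂f).symm
        _ = (m₂ ≫ θ₂.hom.left) ≫ pullback.fst U.hom (p1 ≫ f) := (Category.assoc _ _ _).symm
    · have o1 : θ₁.hom.left ≫ pullback.snd U.hom (p1 ≫ f) =
          pullback.snd ((EtCoh.bc f).obj U).hom p1 := MorphismProperty.Over.w θ₁.hom
      have o2 : θ₂.hom.left ≫ pullback.snd U.hom (p1 ≫ f) =
          pullback.snd ((EtCoh.bc f).obj U).hom p2 := MorphismProperty.Over.w θ₂.hom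
      calc (m₁ ≫ θ₁.hom.left) ≫ pullback.snd U.hom (p1 ≫ f)
          = m₁ ≫ (θ₁.hom.left ≫ pullback.snd U.hom (p1 ≫ f)) := Category.assoc _ _ _
        _ = m₁ ≫ pullback.snd ((EtCoh.bc f).obj U).hom p1 := congrArg (fun m => m₁ ≫ m) o1
        _ = lam := hm₁s
        _ = m₂ ≫ pullback.snd ((EtCoh.bc f).obj U).hom p2 := hm₂s.symm
        _ = m₂ ≫ (θ₂.hom.left ≫ pullback.snd U.hom (p1 ≫ f)) :=
            (congrArg (fun m => m₂ ≫ m) o2).symm
        _ = (m₂ ≫ θ₂.hom.left) ≫ pullback.snd U.hom (p1 ≫ f) := (Category.assoc _ _ _).symm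
  have sq := EtCoh.isPullback_bc_map p1 n
  have hcond : (pullback.fst ((EtCoh.bc f).obj U).hom p1).base (m₁.base w₀) = n.left.base y' := by
    have e0 := congrArg (fun m => m.base w₀) hm₁f
    exact e0.trans (hw1.trans hy'.symm)
  obtain ⟨p, hp1, -⟩ := Scheme.Pullback.exists_preimage_pullback
    (f := pullback.fst ((EtCoh.bc f).obj U).hom p1) (g := n.left) (m₁.base w₀) y' hcond
  obtain ⟨v, hv⟩ : ∃ v : ((EtCoh.bc p1).obj N).left,
      ((EtCoh.bc p1).map n).left.base v = m₁.base w₀ := by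
    refine ⟨sq.isoPullback.inv.base p, ?_⟩
    have h5 := congrArg (fun m => m.base p) (IsPullback.isoPullback_inv_fst sq)
    exact h5.trans hp1
  have hv' : (pullback.fst ((EtCoh.bc f).obj U).hom p2).base (ψ.left.base v) = y₂ := by
    have e1 : ψ.left.base v =
        θ₂.inv.left.base (θ₁.hom.left.base (((EtCoh.bc p1).map n).left.base v)) := by
      rw [hψ]
      rfl
    have e2 : θ₁.hom.left.base (m₁.base w₀) = θ₂.hom.left.base (m₂.base w₀) :=
      congrArg (fun m => m.base w₀) hm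
    have e3 : θ₂.inv.left.base (θ₂.hom.left.base (m₂.base w₀)) = m₂.base w₀ :=
      congrArg (fun m => m.left.base (m₂.base w₀)) θ₂.hom_inv_id
    have e4 := congrArg (fun m => m.base w₀) hm₂f
    rw [e1, hv, e2, e3]
    exact e4.trans hw2
  obtain ⟨P', g', p', hp', hg'⟩ := exists_eq_of_unit_eq' p2 (Type (u + 1)) ((pullSh f).obj F)
    ((EtCoh.bc f).obj U) (uSh f F U a) (rS ((pullSh f).obj F) s' ((EtCoh.bc f).obj U))
    ((EtCoh.bc p1).obj N) ψ v E2
  exact ⟨P', g', p', hp'.trans hv', hg'.trans (rS_map ((pullSh f).obj F) s' g')⟩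

end Saturation

section Final

open Groth.Agent.H4 Groth.Agent.H4.ConnFibre Groth.Agent.H4.PullLocal

variable {X' X : Scheme.{u}} (f : X' ⟶ X) (F : Sh X)
  (s' : ((pullSh f).obj F).obj.obj (op (EtCoh.top X')))

theorem isOpen_image_D
    (hsub : ∀ (S' : Scheme.{u}) (g : S' ⟶ X), Topology.IsQuotientMap (pullback.snd f g).base)
    (hsat : ∀ (U : X.Etale) (a : F.obj.obj (op U)) (y₁ y₂ : ((EtCoh.bc f).obj U).left),
      InD f F s' U a y₁ → (pullback.fst U.hom f).base y₁ = (pullback.fst U.hom f).base y₂ →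
      InD f F s' U a y₂)
    (U : X.Etale) (a : F.obj.obj (op U)) :
    IsOpen ((pullback.fst U.hom f).base '' {y | InD f F s' U a y}) := by
  rw [← (isQuotientMap_fst f hsub U).isOpen_preimage]
  have h : (pullback.fst U.hom f).base ⁻¹' ((pullback.fst U.hom f).base '' {y | InD f F s' U a y}) =
      {y | InD f F s' U a y} := by
    ext y
    constructor
    · rintro ⟨y₁, h1, h12⟩
      exact hsat U a y₁ y h1 h12
    · intro hy
      exact ⟨y, hy, rfl⟩
  rw [h]
  exact isOpen_D f F s' U a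

theorem exists_local_section
    (hsub : ∀ (S' : Scheme.{u}) (g : S' ⟶ X), Topology.IsQuotientMap (pullback.snd f g).base)
    (hsat : ∀ (U : X.Etale) (a : F.obj.obj (op U)) (y₁ y₂ : ((EtCoh.bc f).obj U).left),
      InD f F s' U a y₁ → (pullback.fst U.hom f).base y₁ = (pullback.fst U.hom f).base y₂ →
      InD f F s' U a y₂)
    (z : ((EtCoh.bc f).obj (EtCoh.top X)).left) :
    ∃ (W : X.Etale) (b : F.obj.obj (op W)) (y : ((EtCoh.bc f).obj W).left),
      uSh f F W b = rS ((pullSh f).obj F) s' ((EtCoh.bc f).obj W) ∧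
      ((EtCoh.bc f).map (toTop W)).left.base y = z := by
  obtain ⟨V', k, v', U₁, h, φ, a₁, hv', hφ, hs⟩ :=
    exists_local_rep f (Type (u + 1)) F (EtCoh.top X) ((EtCoh.bc f).obj (EtCoh.top X))
      (𝟙 _) (rS ((pullSh f).obj F) s' ((EtCoh.bc f).obj (EtCoh.top X))) z
  have hs' : ((pullSh f).obj F).obj.map k.op (rS ((pullSh f).obj F) s' ((EtCoh.bc f).obj (EtCoh.top X))) =
      ((pullSh f).obj F).obj.map φ.op (uSh f F U₁ a₁) := hs
  have hφ' : φ ≫ (EtCoh.bc f).map h = k := hφ.trans (Category.comp_id k)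
  have hh : h = toTop U₁ := (EtCore.topIsTerminal X).hom_ext _ _
  have hD0 : InD f F s' U₁ a₁ (φ.left.base v') := by
    refine ⟨V', φ, v', rfl, ?_⟩
    rw [← hs', rS_map]
  let Eo : U₁.left.Opens := ⟨(pullback.fst U₁.hom f).base '' {y | InD f F s' U₁ a₁ y},
    isOpen_image_D f F s' hsub hsat U₁ a₁⟩
  have hEo : ∀ p : U₁.left, p ∈ Eo ↔
      ∃ y, InD f F s' U₁ a₁ y ∧ (pullback.fst U₁.hom f).base y = p := fun p => Iff.rfl
  let W : X.Etale := res U₁ Eo
  let ρ : W ⟶ U₁ := resMap U₁ Eo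
  let b : F.obj.obj (op W) := F.obj.map ρ.op a₁
  have hC1 : uSh f F W b = rS ((pullSh f).obj F) s' ((EtCoh.bc f).obj W) := by
    apply eq_of_locally_eq_sh ((pullSh f).obj F) ((EtCoh.bc f).obj W)
    intro y
    have hy₁E : (pullback.fst U₁.hom f).base (((EtCoh.bc f).map ρ).left.base y) ∈ Eo := by
      rw [fst_bc_map]
      exact ((pullback.fst W.hom f).base y).2
    obtain ⟨y₂, hy₂D, hy₂⟩ := (hEo _).1 hy₁E
    have hy₁D := hsat U₁ a₁ y₂ _ hy₂D hy₂
    obtain ⟨N, n, y', hy', hn⟩ := hy₁D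
    obtain ⟨R, r₁, r₂, xr, hr, -, hr2⟩ := exists_common_ref' n ((EtCoh.bc f).map ρ) y' y hy'
    refine ⟨R, r₂, xr, hr2, ?_⟩
    show ((pullSh f).obj F).obj.map r₂.op (uSh f F W (F.obj.map ρ.op a₁)) =
      ((pullSh f).obj F).obj.map r₂.op (rS ((pullSh f).obj F) s' ((EtCoh.bc f).obj W))
    rw [rS_map, ← uSh_nat, ← map_comp_apply', ← hr, map_comp_apply', hn, rS_map]
  have hy₀E : (pullback.fst U₁.hom f).base (φ.left.base v') ∈ Eo := (hEo _).2 ⟨_, hD0, rfl⟩
  have sq := EtCoh.isPullback_bc_map f ρ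
  obtain ⟨p, hp1, -⟩ := Scheme.Pullback.exists_preimage_pullback
    (f := pullback.fst U₁.hom f) (g := ρ.left) (φ.left.base v') ⟨_, hy₀E⟩ rfl
  refine ⟨W, b, sq.isoPullback.inv.base p, hC1, ?_⟩
  have e1 : ((EtCoh.bc f).map ρ).left.base (sq.isoPullback.inv.base p) = φ.left.base v' := by
    have h5 := congrArg (fun m => m.base p) (IsPullback.isoPullback_inv_fst sq)
    exact h5.trans hp1
  have e2 : (EtCoh.bc f).map (toTop W) = (EtCoh.bc f).map ρ ≫ (EtCoh.bc f).map h := by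
    rw [← Functor.map_comp, hh, toTop_comp]
  rw [e2]
  show ((EtCoh.bc f).map h).left.base (((EtCoh.bc f).map ρ).left.base _) = z
  rw [e1]
  have e3 : ((EtCoh.bc f).map h).left.base (φ.left.base v') =
      (φ ≫ (EtCoh.bc f).map h).left.base v' := rfl
  rw [e3, hφ', hv']

/-- A global section of `f^* F` whose agreement loci are saturated comes from a global section of `F`. -/
theorem exists_section
    (hsub : ∀ (S' : Scheme.{u}) (g : S' ⟶ X), Topology.IsQuotientMap (pullback.snd f g).base)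
    (hsat : ∀ (U : X.Etale) (a : F.obj.obj (op U)) (y₁ y₂ : ((EtCoh.bc f).obj U).left),
      InD f F s' U a y₁ → (pullback.fst U.hom f).base y₁ = (pullback.fst U.hom f).base y₂ →
      InD f F s' U a y₂) :
    ∃ a : F.obj.obj (op (EtCoh.top X)),
      uSh f F (EtCoh.top X) a = rS ((pullSh f).obj F) s' ((EtCoh.bc f).obj (EtCoh.top X)) := by
  have hsf := surjective_of_sub f hsub
  have hA := fun z => exists_local_section f F s' hsub hsat z
  choose W b yW hb hyW using hA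
  have hF : Presieve.IsSheaf X.smallEtaleTopology F.obj :=
    (isSheaf_iff_isSheaf_of_type _ _).1 F.2
  have hcovS : Sieve.generate (Presieve.ofArrows W (fun z => toTop (W z))) ∈
      X.smallEtaleTopology (EtCoh.top X) := by
    apply mem_smallEtaleTopology_of_forall
    intro s
    obtain ⟨x, hx⟩ := hsf s
    obtain ⟨z, hz1, -⟩ := Scheme.Pullback.exists_preimage_pullback
      (f := (EtCoh.top X).hom) (g := f) s x hx.symm
    refine ⟨W z, toTop (W z), (pullback.fst (W z).hom f).base (yW z),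
      ⟨_, 𝟙 _, _, Presieve.ofArrows.mk z, Category.id_comp _⟩, ?_⟩
    rw [← fst_bc_map, hyW, hz1]
  have h1 := (Presieve.isSheafFor_iff_generate _).2 (hF _ hcovS)
  have h2 := (Presieve.isSheafFor_arrows_iff _ _).1 h1
  have hcompat : Presieve.Arrows.Compatible F.obj (fun z => toTop (W z)) b := by
    intro z z' T g g' _
    apply unit_injective_sh f F hsf T
    show uSh f F T (F.obj.map g.op (b z)) = uSh f F T (F.obj.map g'.op (b z'))
    rw [← uSh_nat, ← uSh_nat, hb, hb, rS_map, rS_map]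
  obtain ⟨a, ha, -⟩ := h2 b hcompat
  have ha' : ∀ z, F.obj.map (toTop (W z)).op a = b z := ha
  refine ⟨a, ?_⟩
  apply eq_of_locally_eq_sh ((pullSh f).obj F) ((EtCoh.bc f).obj (EtCoh.top X))
  intro z
  refine ⟨(EtCoh.bc f).obj (W z), (EtCoh.bc f).map (toTop (W z)), yW z, hyW z, ?_⟩
  rw [uSh_nat, ha', hb, rS_map]

end Final

section Main

open Groth.Agent.H4 Groth.Agent.H4.ConnFibre

theorem trans_symm_apply {Z : Scheme.{u}} {A B C : Sh Z} (α : A ≅ C) (β : B ≅ C) (V : Z.Etale)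
    (z : A.obj.obj (op V)) :
    (α ≪≫ β.symm).hom.hom.app (op V) z = β.inv.hom.app (op V) (α.hom.hom.app (op V) z) := rfl

variable {X' X : Scheme.{u}} (f : X' ⟶ X) (F : Sh X)

theorem secPull_of_uSh (a : F.obj.obj (op (EtCoh.top X)))
    (s' : ((pullSh f).obj F).obj.obj (op (EtCoh.top X')))
    (h : uSh f F (EtCoh.top X) a = rS ((pullSh f).obj F) s' ((EtCoh.bc f).obj (EtCoh.top X))) :
    secPull f F a = s' := by
  rw [secPull_eq, h]
  unfold rS
  rw [← map_comp_apply']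
  have e : (EtCore.bcTopIso f).inv ≫ toTop ((EtCoh.bc f).obj (EtCoh.top X)) =
      𝟙 (EtCoh.top X') := (EtCore.topIsTerminal X').hom_ext _ _
  rw [e, map_id_apply']

theorem uSh_eq_rS_secPull (a : F.obj.obj (op (EtCoh.top X))) :
    uSh f F (EtCoh.top X) a = rS ((pullSh f).obj F) (secPull f F a) ((EtCoh.bc f).obj (EtCoh.top X)) := by
  rw [secPull_eq]
  unfold rS
  rw [← map_comp_apply']
  have e : toTop ((EtCoh.bc f).obj (EtCoh.top X)) ≫ (EtCore.bcTopIso f).inv = 𝟙 _ :=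
    (EtCore.bcTopIsTerminal f).hom_ext _ _
  rw [e, map_id_apply']

theorem secPull_injective (hsf : Function.Surjective f.base) :
    Function.Injective (secPull f F) := by
  intro s₁ s₂ h
  apply unit_injective_sh f F hsf (EtCoh.top X)
  rw [uSh_eq_rS_secPull f F s₁, uSh_eq_rS_secPull f F s₂, h]

theorem canIso_eq : canIso f F = pullVia (pullback.fst f f) f (pullback.fst f f ≫ f) rfl F ≪≫
    (pullVia (pullback.snd f f) f (pullback.fst f f ≫ f) pullback.condition.symm F).symm := rfl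

theorem range_secPull
    (hsub : ∀ (S' : Scheme.{u}) (g : S' ⟶ X), Topology.IsQuotientMap (pullback.snd f g).base) :
    Set.range (secPull f F) =
      {s' | (canIso f F).hom.hom.app (op (EtCoh.top (X2 f)))
          (secPull (pullback.fst f f) ((pullSh f).obj F) s') = secPull (pullback.snd f f) ((pullSh f).obj F) s'} := by
  ext s'
  rw [Set.mem_setOf_eq, canIso_eq, trans_symm_apply]
  constructor
  · rintro ⟨s, rfl⟩
    have e1 := pullVia_secPull (pullback.fst f f) f (pullback.fst f f ≫ f) rfl F s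
    have e2 := pullVia_secPull (pullback.snd f f) f (pullback.fst f f ≫ f)
      pullback.condition.symm F s
    obtain ⟨pv2, hpv2⟩ : ∃ pv : (pullSh (pullback.snd f f)).obj ((pullSh f).obj F) ≅
        (pullSh (pullback.fst f f ≫ f)).obj F,
      pv = pullVia (pullback.snd f f) f (pullback.fst f f ≫ f) pullback.condition.symm F :=
      ⟨_, rfl⟩
    rw [← hpv2] at e2 ⊢
    exact (congrArg (fun z => pv2.inv.hom.app (op (EtCoh.top (X2 f))) z)
      (e1.trans e2.symm)).trans (iso_inv_hom_apply pv2 (EtCoh.top (X2 f)) _)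
  · intro hs'
    obtain ⟨pv1, hpv1⟩ : ∃ pv : (pullSh (pullback.fst f f)).obj ((pullSh f).obj F) ≅
        (pullSh (pullback.fst f f ≫ f)).obj F,
      pv = pullVia (pullback.fst f f) f (pullback.fst f f ≫ f) rfl F := ⟨_, rfl⟩
    obtain ⟨pv2, hpv2⟩ : ∃ pv : (pullSh (pullback.snd f f)).obj ((pullSh f).obj F) ≅
        (pullSh (pullback.fst f f ≫ f)).obj F,
      pv = pullVia (pullback.snd f f) f (pullback.fst f f ≫ f) pullback.condition.symm F :=
      ⟨_, rfl⟩
    rw [← hpv1, ← hpv2] at hs'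
    have Hd : pv1.hom.hom.app (op (EtCoh.top (pullback f f)))
          (secPull (pullback.fst f f) ((pullSh f).obj F) s') =
        pv2.hom.hom.app (op (EtCoh.top (pullback f f)))
          (secPull (pullback.snd f f) ((pullSh f).obj F) s') :=
      (iso_hom_inv_apply pv2 (EtCoh.top (pullback f f)) _).symm.trans
        (congrArg (fun z => pv2.hom.hom.app (op (EtCoh.top (pullback f f))) z) hs')
    rw [hpv1, hpv2] at Hd
    obtain ⟨a, ha⟩ := exists_section f F s' hsub (fun U a y₁ y₂ =>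
      inD_of_fst_eq f F s' (pullback.fst f f) (pullback.snd f f)
        (IsPullback.of_hasPullback f f) pullback.condition.symm Hd U a y₁ y₂)
    exact ⟨a, secPull_of_uSh f F a s' ha⟩

end Main

end Groth.Agent.H4.DescSets
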