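import Mathlib
import Groth.Prelude.Def_EtCore
import Groth.Prelude.Def_EtZar
import Groth.Agent.H45.LanExact
import Groth.Agent.H4.ExtTools
import Groth.Agent.H4.SiteBasics
import Groth.Agent.H4.ZarSection

/-!
# Étale versus Zariski cohomology for schemes with strictly henselian local rings
(helper4 library)

* `representablyFlat_zarToEt`: the functor `opens ⥤ étale schemes` is representably flat, hence the
  left adjoint of `EtZar.resZar` is exact and `resZar` preserves injectives.
* `epi_resZar`: if all local rings are strictly henselian, `resZar` preserves epimorphisms.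
* `main`: `H^i(S_et, F) ≃+ H^i(S_Zar, F|_Zar)`.
-/

set_option autoImplicit false
open CategoryTheory CategoryTheory.Limits AlgebraicGeometry Opposite CategoryTheory.Abelian
  TopologicalSpace
universe u

namespace Groth.Agent.H4.EtZarCmp

open Groth.Agent.H4

section Flat

variable {S : Scheme.{u}}

theorem zar_hom_ext {T : S.Etale} {U : S.Opens} (f g : T ⟶ (EtZar.zarToEt S).obj U) : f = g := by
  apply MorphismProperty.Over.Hom.ext
  have hf : f.left ≫ U.ι = T.hom := MorphismProperty.Over.w f
  have hg : g.left ≫ U.ι = T.hom := MorphismProperty.Over.w g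
  exact (cancel_mono U.ι).1 (hf.trans hg.symm)

theorem mem_of_hom {T : S.Etale} {U : S.Opens} (f : T ⟶ (EtZar.zarToEt S).obj U) (x : T.left) :
    T.hom.base x ∈ U := by
  have hw : f.left ≫ U.ι = T.hom := MorphismProperty.Over.w f
  let z : ↥U := f.left.base x
  have e : T.hom.base x = z.1 := by
    rw [← hw]
    rfl
  rw [e]
  exact z.2

/-- The underlying morphism of `toZar`. -/
noncomputable def toZarLeft (T : S.Etale) (U : S.Opens) (h : ∀ x : T.left, T.hom.base x ∈ U) :
    T.left ⟶ (U : Scheme.{u}) :=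
  IsOpenImmersion.lift U.ι T.hom (by
    rw [Scheme.Opens.range_ι]
    rintro _ ⟨x, rfl⟩
    exact h x)

theorem toZarLeft_fac (T : S.Etale) (U : S.Opens) (h : ∀ x : T.left, T.hom.base x ∈ U) :
    toZarLeft T U h ≫ U.ι = T.hom :=
  IsOpenImmersion.lift_fac _ _ _

/-- The unique morphism from an étale `S`-scheme with image in `U` to the open `U`. -/
noncomputable def toZar (T : S.Etale) (U : S.Opens) (h : ∀ x : T.left, T.hom.base x ∈ U) :
    T ⟶ (EtZar.zarToEt S).obj U :=
  MorphismProperty.Over.homMk (toZarLeft T U h) (toZarLeft_fac T U h) trivial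

instance representablyFlat_zarToEt : RepresentablyFlat (EtZar.zarToEt S) where
  cofiltered T :=
    { cone_objs := fun A B =>
        ⟨StructuredArrow.mk (toZar T (A.right ⊓ B.right)
            (fun x => TopologicalSpace.Opens.mem_inf.2 ⟨mem_of_hom A.hom x, mem_of_hom B.hom x⟩)),
          StructuredArrow.homMk (homOfLE inf_le_left) (zar_hom_ext _ _),
          StructuredArrow.homMk (homOfLE inf_le_right) (zar_hom_ext _ _), trivial⟩
      cone_maps := fun A B f g => ⟨A, 𝟙 A, by
        rw [StructuredArrow.ext f g (Subsingleton.elim _ _)]⟩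
      nonempty := ⟨StructuredArrow.mk (toZar T ⊤ (fun _ => TopologicalSpace.Opens.mem_top _))⟩ }

end Flat

section Exact

variable (S : Scheme.{u})

theorem hasExactColimitsOfShape_costructuredArrow_zar (A : Type (u + 2)) [Category.{u + 1} A]
    [HasFilteredColimitsOfSize.{u + 1, u + 1} A] [AB5OfSize.{u + 1, u + 1} A]
    (K : (S.Etale)ᵒᵖ) [HasColimitsOfShape (CostructuredArrow (EtZar.zarToEt S).op K) A] :
    HasExactColimitsOfShape (CostructuredArrow (EtZar.zarToEt S).op K) A := by
  have : HasFilteredColimitsOfSize.{u, u} A :=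
    hasFilteredColimitsOfSize_of_univLE.{u, u, u + 1, u + 1}
  have : AB5OfSize.{u, u} A := AB5OfSize_of_univLE.{u, u, u + 1, u + 1} A
  have : IsFiltered (CostructuredArrow (EtZar.zarToEt S).op K) :=
    IsFiltered.of_equivalence (structuredArrowOpEquivalence (EtZar.zarToEt S) (unop K))
  exact AB5OfSize.ofShape _

variable [EtZar.ZarCont S]

/-- The inverse image functor from Zariski sheaves to étale sheaves is left exact. -/
theorem preservesFiniteLimits_zarPull :
    PreservesFiniteLimits ((EtZar.zarToEt S).sheafPullback AddCommGrpCat.{u + 1}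
      (Opens.grothendieckTopology S) S.smallEtaleTopology) := by
  have : ∀ K : (S.Etale)ᵒᵖ,
      HasExactColimitsOfShape (CostructuredArrow (EtZar.zarToEt S).op K) AddCommGrpCat.{u + 1} :=
    fun K => hasExactColimitsOfShape_costructuredArrow_zar S _ K
  exact Groth.Agent.H45.sheafPullback_preservesFiniteLimits' (EtZar.zarToEt S)
    AddCommGrpCat.{u + 1} _ _

/-- The adjunction `ε⁻¹ ⊣ ε_* = resZar`. -/
noncomputable def adjZ :
    (EtZar.zarToEt S).sheafPullback AddCommGrpCat.{u + 1} (Opens.grothendieckTopology S)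
      S.smallEtaleTopology ⊣ EtZar.resZar S :=
  (EtZar.zarToEt S).sheafAdjunctionContinuous AddCommGrpCat.{u + 1}
    (Opens.grothendieckTopology S) S.smallEtaleTopology

theorem injective_resZar (I : EtCoh.Ab S) [Injective I] : Injective ((EtZar.resZar S).obj I) := by
  haveI := preservesFiniteLimits_zarPull S
  haveI : ((EtZar.zarToEt S).sheafPullback AddCommGrpCat.{u + 1} (Opens.grothendieckTopology S)
      S.smallEtaleTopology).PreservesMonomorphisms := inferInstance
  exact Injective.injective_of_adjoint (adjZ S) I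

instance resZar_additive : (EtZar.resZar S).Additive where

theorem preservesFiniteLimits_resZar : PreservesFiniteLimits (EtZar.resZar S) := by
  haveI : PreservesLimitsOfSize.{0, 0} (EtZar.resZar S) := (adjZ S).rightAdjoint_preservesLimits
  infer_instance

end Exact

section Epi

variable (S : Scheme.{u}) [EtZar.ZarCont S]

theorem epi_resZar (hS : ∀ s : S, EtCoh.IsStrictlyHenselianLocalRing (S.presheaf.stalk s))
    {F G : EtCoh.Ab S} (φ : F ⟶ G) [Epi φ] : Epi ((EtZar.resZar S).map φ) := by
  haveI : Sheaf.IsLocallySurjective φ :=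
    (Sheaf.isLocallySurjective_iff_epi' _ _).2 inferInstance
  have hls : Sheaf.IsLocallySurjective ((EtZar.resZar S).map φ) := by
    refine ⟨fun {U : S.Opens} s => ?_⟩
    refine (Opens.mem_grothendieckTopology _).2 (fun x hx => ?_)
    let s' : ToType (G.obj.obj (op ((EtZar.zarToEt S).obj U))) := s
    have hIm : Presheaf.imageSieve φ.hom s' ∈
        S.smallEtaleTopology ((EtZar.zarToEt S).obj U) :=
      Presheaf.imageSieve_mem S.smallEtaleTopology φ.hom s'
    obtain ⟨T, k, t, hk, ht⟩ := exists_of_mem_smallEtaleTopology _ _ hIm ⟨x, hx⟩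
    haveI : Etale T.hom := T.prop
    have hw : k.left ≫ U.ι = T.hom := MorphismProperty.Over.w k
    have htx : T.hom.base t = x := by
      rw [← hw]
      show U.ι.base (k.left.base t) = x
      rw [ht]
      rfl
    obtain ⟨V, hxV, σ, hσ⟩ := ZarSection.exists_zariski_section T.hom t x htx (hS x)
    have hVU : V ≤ U := by
      refine SetLike.le_def.2 (fun y hy => ?_)
      have e1 : (σ ≫ k.left ≫ U.ι).base ⟨y, hy⟩ = V.ι.base ⟨y, hy⟩ := by rw [hw, hσ]
      let z : ↥U := k.left.base (σ.base ⟨y, hy⟩)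
      have e2 : z.1 = y := e1
      rw [← e2]
      exact z.2
    let σ' : (EtZar.zarToEt S).obj V ⟶ T := MorphismProperty.Over.homMk σ hσ trivial
    have h2 : σ' ≫ k = (EtZar.zarToEt S).map (homOfLE hVU) := zar_hom_ext _ _
    have h1 : Presheaf.imageSieve φ.hom s' ((EtZar.zarToEt S).map (homOfLE hVU)) := by
      rw [← h2]
      exact (Presheaf.imageSieve φ.hom s').downward_closed hk σ'
    refine ⟨V, homOfLE hVU, ?_, hxV⟩
    obtain ⟨t₁, ht₁⟩ := h1
    exact ⟨t₁, ht₁⟩
  haveI := hls
  exact Sheaf.epi_of_isLocallySurjective _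

theorem preservesFiniteColimits_resZar
    (hS : ∀ s : S, EtCoh.IsStrictlyHenselianLocalRing (S.presheaf.stalk s)) :
    PreservesFiniteColimits (EtZar.resZar S) := by
  have hpl : PreservesFiniteLimits (EtZar.resZar S) := preservesFiniteLimits_resZar S
  rw [Functor.preservesFiniteColimits_iff_forall_exact_map_and_epi]
  intro T hT
  refine ⟨?_, ?_⟩
  · have h30 := (Functor.preservesFiniteLimits_tfae (EtZar.resZar S)).out 3 0
    exact (h30.1 hpl T hT).1
  · haveI := hT.epi_g
    exact epi_resZar S hS T.g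

end Epi

section Main

variable (S : Scheme.{u}) [EtZar.ZarCont S]

/-- The coefficient group `ℤ` (lifted). -/
abbrev ZZ : AddCommGrpCat.{u + 1} := AddCommGrpCat.of (ULift.{u + 1} ℤ)

/-- The constant sheaf adjunction on the Zariski site. -/
noncomputable abbrev adjZc :
    constantSheaf (Opens.grothendieckTopology S) AddCommGrpCat.{u + 1} ⊣
      (sheafSections (Opens.grothendieckTopology S) AddCommGrpCat.{u + 1}).obj (op (⊤ : S.Opens)) :=
  constantSheafAdj (Opens.grothendieckTopology S) AddCommGrpCat.{u + 1}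
    (isTerminalTop : IsTerminal (⊤ : S.Opens))

/-- The comparison map from the open `S` to the terminal étale `S`-scheme. -/
noncomputable def θ : (EtZar.zarToEt S).obj ⊤ ⟶ EtCoh.top S :=
  (EtCore.topIsTerminal S).from _

instance isIso_θ : IsIso (θ S) :=
  ⟨⟨toZar (EtCoh.top S) ⊤ (fun _ => TopologicalSpace.Opens.mem_top _), zar_hom_ext _ _,
    (EtCore.topIsTerminal S).hom_ext _ _⟩⟩

/-- `ℤ_Zar ⟶ (ℤ_et)|_Zar`. -/
noncomputable def uZ :
    (constantSheaf (Opens.grothendieckTopology S) AddCommGrpCat.{u + 1}).obj ZZ.{u} ⟶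
      (EtZar.resZar S).obj (EtCoh.const S ℤ) :=
  ((adjZc S).homEquiv ZZ.{u} ((EtZar.resZar S).obj (EtCoh.const S ℤ))).symm
    ((EtCore.constAdj S).unit.app ZZ.{u} ≫ (EtCoh.const S ℤ).obj.map (θ S).op)

theorem uZ_spec : (adjZc S).homEquiv ZZ.{u} ((EtZar.resZar S).obj (EtCoh.const S ℤ)) (uZ S) =
    (EtCore.constAdj S).unit.app ZZ.{u} ≫ (EtCoh.const S ℤ).obj.map (θ S).op :=
  Equiv.apply_symm_apply _ _

theorem h0_bijective (F : EtCoh.Ab S) :
    Function.Bijective (fun f : EtCoh.const S ℤ ⟶ F => uZ S ≫ (EtZar.resZar S).map f) := by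
  have key : ∀ f : EtCoh.const S ℤ ⟶ F,
      (adjZc S).homEquiv ZZ.{u} ((EtZar.resZar S).obj F) (uZ S ≫ (EtZar.resZar S).map f) =
        (EtCore.constAdj S).homEquiv ZZ.{u} F f ≫ F.obj.map (θ S).op := by
    intro f
    have hn : (EtCoh.const S ℤ).obj.map (θ S).op ≫ f.hom.app (op ((EtZar.zarToEt S).obj ⊤)) =
        f.hom.app (op (EtCoh.top S)) ≫ F.obj.map (θ S).op := f.hom.naturality (θ S).op
    calc (adjZc S).homEquiv ZZ.{u} ((EtZar.resZar S).obj F) (uZ S ≫ (EtZar.resZar S).map f)
        = (adjZc S).homEquiv ZZ.{u} _ (uZ S) ≫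
            ((sheafSections (Opens.grothendieckTopology S) AddCommGrpCat.{u + 1}).obj
              (op (⊤ : S.Opens))).map ((EtZar.resZar S).map f) :=
          Adjunction.homEquiv_naturality_right _ _ _
      _ = ((EtCore.constAdj S).unit.app ZZ.{u} ≫ (EtCoh.const S ℤ).obj.map (θ S).op) ≫
            f.hom.app (op ((EtZar.zarToEt S).obj ⊤)) := by
          rw [uZ_spec]
          rfl
      _ = (EtCore.constAdj S).unit.app ZZ.{u} ≫
            (f.hom.app (op (EtCoh.top S)) ≫ F.obj.map (θ S).op) := by
          rw [Category.assoc, hn]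
      _ = ((EtCore.constAdj S).unit.app ZZ.{u} ≫ (EtCore.gsec S).map f) ≫ F.obj.map (θ S).op := by
          rw [Category.assoc]
          rfl
      _ = (EtCore.constAdj S).homEquiv ZZ.{u} F f ≫ F.obj.map (θ S).op :=
          congrArg (fun z => z ≫ F.obj.map (θ S).op)
            ((EtCore.constAdj S).homEquiv_unit ZZ.{u} F f).symm
  have hm : Function.Bijective
      (fun g : ZZ.{u} ⟶ F.obj.obj (op (EtCoh.top S)) => g ≫ F.obj.map (θ S).op) := by
    constructor
    · intro a b h
      exact (cancel_mono (F.obj.map (θ S).op)).1 h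
    · intro c
      exact ⟨c ≫ inv (F.obj.map (θ S).op), by simp⟩
  have hfun : (fun f : EtCoh.const S ℤ ⟶ F => uZ S ≫ (EtZar.resZar S).map f) =
      ⇑((adjZc S).homEquiv ZZ.{u} ((EtZar.resZar S).obj F)).symm ∘
        (fun g : ZZ.{u} ⟶ F.obj.obj (op (EtCoh.top S)) => g ≫ F.obj.map (θ S).op) ∘
        ⇑((EtCore.constAdj S).homEquiv ZZ.{u} F) := by
    funext f
    apply ((adjZc S).homEquiv ZZ.{u} ((EtZar.resZar S).obj F)).injective
    rw [key f]
    exact (Equiv.apply_symm_apply _ _).symm
  rw [hfun]
  exact (Equiv.bijective _).comp (hm.comp (Equiv.bijective _))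

/-- Étale cohomology agrees with Zariski cohomology when all local rings are strictly henselian. -/
theorem main (hS : ∀ s : S, EtCoh.IsStrictlyHenselianLocalRing (S.presheaf.stalk s))
    (F : EtCoh.Ab S) (i : ℕ) :
    Nonempty (EtCoh.H S F i ≃+ EtZar.H ((EtZar.resZar S).obj F) i) := by
  haveI := preservesFiniteLimits_resZar S
  haveI := preservesFiniteColimits_resZar S hS
  have hb := ExtTools.rho_bijective (EtZar.resZar S) (uZ S)
    (fun I hI => by
      haveI := hI
      exact injective_resZar S I)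
    (fun F => h0_bijective S F) i F
  exact ⟨AddEquiv.ofBijective (ExtTools.rho (EtZar.resZar S) (uZ S) F i) hb⟩

end Main

end Groth.Agent.H4.EtZarCmp
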