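import Mathlib

/-!
# Extension by zero for sheaves of modules over a sheaf of (not necessarily commutative) rings

Port of helper31's `H31/ExtZeroPre`, `ExtZeroProj` (exactness part) and `ExtZeroSh`
(adjunction, exactness, faithfulness) from `Sheaf J CommRingCat` to `Sheaf J RingCat`.
-/

set_option autoImplicit false
universe u
open CategoryTheory CategoryTheory.Limits Opposite

namespace Groth.Agent.H4.ExtZeroNC

section Basics

variable {C : Type u} [SmallCategory C] {J : GrothendieckTopology C} (O : Sheaf J RingCat.{u})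

/-- The presheaf of rings underlying `O`. -/
abbrev R₀ : Cᵒᵖ ⥤ RingCat.{u} := O.obj

/-- Presheaves of modules over `O`. -/
abbrev PM : Type (u+1) := PresheafOfModules.{u} O.obj

/-- The forgetful functor from sheaves of modules to presheaves of modules. -/
noncomputable def toPM : SheafOfModules.{u} O ⥤ PM O := SheafOfModules.forget O

/-- Sheafification of presheaves of modules. -/
noncomputable def shf : PM O ⥤ SheafOfModules.{u} O :=
  PresheafOfModules.sheafification.{u} (𝟙 O.obj)

/-- The right adjoint of sheafification. -/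
noncomputable def incl : SheafOfModules.{u} O ⥤ PM O :=
  SheafOfModules.forget O ⋙ PresheafOfModules.restrictScalars (𝟙 O.obj)

/-- The sheafification adjunction. -/
noncomputable def shfAdj : shf O ⊣ incl O :=
  PresheafOfModules.sheafificationAdjunction (𝟙 O.obj)

variable {O}

theorem isIso_shf_map_iff {A B : PM O} (ψ : A ⟶ B) :
    IsIso ((shf O).map ψ) ↔ J.W ((PresheafOfModules.toPresheaf (R₀ O)).map ψ) := by
  have h := PresheafOfModules.inverseImage_W_toPresheaf_eq_inverseImage_isomorphisms.{u}
    (J := J) (R₀ := O.obj) (R := O) (𝟙 O.obj)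
  have h2 := congrFun (congrFun (congrFun h A) B) ψ
  exact (Iff.of_eq h2).symm

/-- The unit of the sheafification adjunction. -/
noncomputable def η (B : PM O) : B ⟶ (toPM O).obj ((shf O).obj B) := (shfAdj O).unit.app B

instance isIso_counit (P : SheafOfModules.{u} O) : IsIso ((shfAdj O).counit.app P) := by
  have : IsIso (shfAdj O).counit :=
    inferInstanceAs (IsIso (PresheafOfModules.sheafificationAdjunction
      (𝟙 O.obj)).counit)
  infer_instance

instance isIso_shf_map_unit (B : PM O) : IsIso ((shf O).map (η B)) := by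
  have h : (shf O).map (η B) ≫ (shfAdj O).counit.app ((shf O).obj B) = 𝟙 _ :=
    (shfAdj O).left_triangle_components B
  have h2 : IsIso ((shf O).map (η B) ≫ (shfAdj O).counit.app ((shf O).obj B)) := by
    rw [h]; infer_instance
  have h3 : IsIso ((shfAdj O).counit.app ((shf O).obj B)) := isIso_counit _
  exact @IsIso.of_isIso_comp_right _ _ _ _ _ ((shf O).map (η B))
    ((shfAdj O).counit.app ((shf O).obj B)) h3 h2

/-- `incl` is the forgetful functor. -/
noncomputable def inclIso : incl O ≅ toPM O := Iso.refl _

instance toPM_isRightAdjoint : (toPM O).IsRightAdjoint :=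
  have := (shfAdj O).isRightAdjoint
  Functor.isRightAdjoint_of_iso (inclIso (O := O))

instance shf_preservesFiniteLimits : PreservesFiniteLimits (shf O) :=
  inferInstanceAs (PreservesFiniteLimits
    (PresheafOfModules.sheafification.{u} (𝟙 O.obj)))

variable (O) (X : C)

/-- Restriction of presheaves of modules to `C/X`. -/
noncomputable def res : PM O ⥤ PM (O.over X) :=
  PresheafOfModules.pushforward (F := Over.forget X) (R := O.obj)
    (S := (O.over X).obj)
    (InducedCategory.Hom.hom (𝟙 (O.over X)))

theorem toPresheaf_map_res {A B : PM O} (φ : A ⟶ B) :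
    (PresheafOfModules.toPresheaf (R₀ (O.over X))).map ((res O X).map φ) =
      Functor.whiskerLeft (Over.forget X).op ((PresheafOfModules.toPresheaf (R₀ O)).map φ) := rfl

variable {O}

theorem W_toPresheaf_of_isIso {A B : PM O} (φ : A ⟶ B) [IsIso ((shf O).map φ)] :
    J.W ((PresheafOfModules.toPresheaf (R₀ O)).map φ) :=
  (isIso_shf_map_iff φ).1 inferInstance

/-- Restriction to `C/X` preserves local isomorphisms of presheaves of modules. -/
theorem isIso_shf_map_res {A B : PM O} (φ : A ⟶ B) [IsIso ((shf O).map φ)] :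
    IsIso ((shf (O.over X)).map ((res O X).map φ)) := by
  rw [isIso_shf_map_iff]
  have h := (GrothendieckTopology.W_iff_isLocallyBijective _ _).1 (W_toPresheaf_of_isIso φ)
  obtain ⟨h1, h2⟩ := h
  exact (GrothendieckTopology.W_iff_isLocallyBijective (J.over X)
    (Functor.whiskerLeft (Over.forget X).op ((PresheafOfModules.toPresheaf (R₀ O)).map φ))).2
    ⟨Presheaf.isLocallyInjective_whisker (J.over X) J (Over.forget X) _,
    Presheaf.isLocallySurjective_whisker (J.over X) J (Over.forget X) _⟩

end Basics

variable {C : Type u} [SmallCategory C] {J : GrothendieckTopology C} {O : Sheaf J RingCat.{u}}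
  {U : C}

/-- The component `G(f)` of a presheaf of modules on `C/U` at `f : V ⟶ U`, as an `O(V)`-module. -/
abbrev cmp (G : PM (O.over U)) {V : C} (f : V ⟶ U) : ModuleCat.{u} ((R₀ O).obj (op V)) :=
  G.obj (op (Over.mk f))

/-- The restriction map `G(f) → G(g ≫ f)` as an additive map. -/
noncomputable def rst (G : PM (O.over U)) {V W : C} (g : W ⟶ V) (f : V ⟶ U) :
    cmp G f →+ cmp G (g ≫ f) :=
  (G.map (Over.homMk g rfl : Over.mk (g ≫ f) ⟶ Over.mk f).op).hom.toAddMonoidHom

theorem rst_smul (G : PM (O.over U)) {V W : C} (g : W ⟶ V) (f : V ⟶ U)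
    (r : (R₀ O).obj (op V)) (x : cmp G f) :
    rst G g f (r • x) = ((R₀ O).map g.op).hom r • rst G g f x :=
  G.map_smul (Over.homMk g rfl : Over.mk (g ≫ f) ⟶ Over.mk f).op r x

attribute [local instance] Classical.propDecidable

/-- Sections of the extension by zero over `V`. -/
abbrev Sec (G : PM (O.over U)) (V : C) : Type u := DirectSum (V ⟶ U) (fun f => cmp G f)

/-- The restriction map on sections of the extension by zero. -/
noncomputable def secMap (G : PM (O.over U)) {V W : C} (g : W ⟶ V) : Sec G V →+ Sec G W :=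
  DirectSum.toAddMonoid (fun f =>
    (DirectSum.of (fun f' : W ⟶ U => cmp G f') (g ≫ f)).comp (rst G g f))

@[simp]
theorem secMap_of (G : PM (O.over U)) {V W : C} (g : W ⟶ V) (f : V ⟶ U) (x : cmp G f) :
    secMap G g (DirectSum.of (fun f' : V ⟶ U => cmp G f') f x) =
      DirectSum.of (fun f' : W ⟶ U => cmp G f') (g ≫ f) (rst G g f x) := by
  simp [secMap]

theorem of_map_congr (G : PM (O.over U)) {W : C} {Z : Over U} {f₁ f₂ : W ⟶ U} (h : f₁ = f₂)
    (a₁ : Over.mk f₁ ⟶ Z) (a₂ : Over.mk f₂ ⟶ Z) (ha : a₁.left = a₂.left)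
    (x : G.obj (op Z)) :
    DirectSum.of (fun f' : W ⟶ U => cmp G f') f₁ ((G.map a₁.op).hom x) =
      DirectSum.of (fun f' : W ⟶ U => cmp G f') f₂ ((G.map a₂.op).hom x) := by
  subst h
  have : a₁ = a₂ := Over.OverMorphism.ext ha
  subst this
  rfl

theorem secMap_id (G : PM (O.over U)) (V : C) : secMap G (𝟙 V) = AddMonoidHom.id _ := by
  refine DirectSum.addHom_ext (fun f x => ?_)
  rw [secMap_of]
  refine (of_map_congr G (Category.id_comp f)
    (Over.homMk (𝟙 V) rfl : Over.mk (𝟙 V ≫ f) ⟶ Over.mk f) (𝟙 _) rfl x).trans ?_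
  simp

theorem secMap_comp (G : PM (O.over U)) {V W T : C} (g : W ⟶ V) (g' : T ⟶ W) :
    secMap G (g' ≫ g) = (secMap G g').comp (secMap G g) := by
  refine DirectSum.addHom_ext (fun f x => ?_)
  rw [secMap_of, AddMonoidHom.comp_apply, secMap_of, secMap_of]
  refine (of_map_congr G (Category.assoc g' g f)
    (Over.homMk (g' ≫ g) rfl : Over.mk ((g' ≫ g) ≫ f) ⟶ Over.mk f)
    ((Over.homMk g' rfl : Over.mk (g' ≫ g ≫ f) ⟶ Over.mk (g ≫ f)) ≫
      (Over.homMk g rfl : Over.mk (g ≫ f) ⟶ Over.mk f)) rfl x).trans ?_
  simp [rst]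
  rfl

/-- The presheaf of abelian groups underlying the extension by zero. -/
noncomputable def jAb (G : PM (O.over U)) : Cᵒᵖ ⥤ Ab.{u} where
  obj X := AddCommGrpCat.of (Sec G X.unop)
  map {X Y} g := AddCommGrpCat.ofHom (secMap G g.unop)
  map_id X := by
    apply AddCommGrpCat.hom_ext
    exact secMap_id G X.unop
  map_comp g g' := by
    apply AddCommGrpCat.hom_ext
    exact secMap_comp G g.unop g'.unop

noncomputable instance (G : PM (O.over U)) (X : Cᵒᵖ) :
    Module ((R₀ O).obj X) ((jAb G).obj X) :=
  inferInstanceAs (Module ((R₀ O).obj (op X.unop)) (Sec G X.unop))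

theorem secMap_smul (G : PM (O.over U)) {V W : C} (g : W ⟶ V) (r : (R₀ O).obj (op V))
    (m : Sec G V) :
    secMap G g (r • m) = ((R₀ O).map g.op).hom r • secMap G g m := by
  induction m using DirectSum.induction_on with
  | zero => simp
  | of f x =>
    rw [← DirectSum.of_smul, secMap_of, secMap_of, rst_smul, DirectSum.of_smul]
  | add a b ha hb => rw [smul_add, map_add, map_add, smul_add, ha, hb]

theorem jAb_map_smul (G : PM (O.over U)) ⦃X Y : Cᵒᵖ⦄ (g : X ⟶ Y) (r : (R₀ O).obj X)
    (m : (jAb G).obj X) :
    (jAb G).map g (r • m) = (R₀ O).map g r • (jAb G).map g m :=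
  secMap_smul G g.unop r m

/-- The extension by zero of a presheaf of modules on `C/U`. -/
noncomputable def jObj (G : PM (O.over U)) : PM O :=
  PresheafOfModules.ofPresheaf (jAb G) (jAb_map_smul G)

theorem jObj_map_of (G : PM (O.over U)) {V W : C} (g : W ⟶ V) (f : V ⟶ U) (x : cmp G f) :
    ((jObj G).map g.op).hom (DirectSum.of (fun f' : V ⟶ U => cmp G f') f x) =
      DirectSum.of (fun f' : W ⟶ U => cmp G f') (g ≫ f) (rst G g f x) :=
  secMap_of G g f x

section Adjunction

variable (G : PM (O.over U)) (N : PM O)

/-- Forward direction of the adjunction: the component at `a : Over U`. -/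
noncomputable def fwdApp (α : jObj G ⟶ N) (a : Over U) :
    G.obj (op a) →+ N.obj (op a.left) :=
  (α.app (op a.left)).hom.toAddMonoidHom.comp
    (DirectSum.of (fun f' : a.left ⟶ U => cmp G f') a.hom)

theorem fwdApp_apply (α : jObj G ⟶ N) (a : Over U) (x : G.obj (op a)) :
    fwdApp G N α a x =
      (α.app (op a.left)).hom (DirectSum.of (fun f' : a.left ⟶ U => cmp G f') a.hom x) := rfl

theorem fwdApp_natural (α : jObj G ⟶ N) {a b : Over U} (h : b ⟶ a) (x : G.obj (op a)) :
    fwdApp G N α b ((G.map h.op).hom x) = (N.map h.left.op).hom (fwdApp G N α a x) := by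
  have h1 := PresheafOfModules.naturality_apply α h.left.op
    (DirectSum.of (fun f' : a.left ⟶ U => cmp G f') a.hom x)
  have h2 : DirectSum.of (fun f' : b.left ⟶ U => cmp G f') b.hom ((G.map h.op).hom x) =
      ((jObj G).map h.left.op).hom (DirectSum.of (fun f' : a.left ⟶ U => cmp G f') a.hom x) :=
    ((of_map_congr G (Over.w h) (Over.homMk h.left rfl : Over.mk (h.left ≫ a.hom) ⟶ a)
      h rfl x).symm).trans (jObj_map_of G h.left a.hom x).symm
  exact (congrArg (fun z => (α.app (op b.left)).hom z) h2).trans h1

theorem fwd_smul_aux (α : jObj G ⟶ N) {V : C} (f : V ⟶ U) (r : (R₀ O).obj (op V))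
    (x : cmp G f) :
    (α.app (op V)).hom (DirectSum.of (fun f' : V ⟶ U => cmp G f') f (r • x)) =
      r • (α.app (op V)).hom (DirectSum.of (fun f' : V ⟶ U => cmp G f') f x) := by
  have h1 : DirectSum.of (fun f' : V ⟶ U => cmp G f') f (r • x) =
      r • DirectSum.of (fun f' : V ⟶ U => cmp G f') f x := DirectSum.of_smul _ _ _ _
  exact (congrArg (fun z => (α.app (op V)).hom z) h1).trans
    ((α.app (op V)).hom.map_smul r _)

/-- Forward direction of the adjunction. -/
noncomputable def fwd (α : jObj G ⟶ N) : G ⟶ (res O U).obj N :=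
  PresheafOfModules.homMk
    { app := fun X => AddCommGrpCat.ofHom (fwdApp G N α X.unop)
      naturality := fun X Y h => by
        apply AddCommGrpCat.hom_ext
        apply AddMonoidHom.ext
        intro x
        exact fwdApp_natural G N α h.unop x }
    (fun X r m => fwd_smul_aux G N α X.unop.hom r m)

theorem fwd_app_apply (α : jObj G ⟶ N) (a : Over U) (x : G.obj (op a)) :
    ((fwd G N α).app (op a)).hom x =
      (α.app (op a.left)).hom (DirectSum.of (fun f' : a.left ⟶ U => cmp G f') a.hom x) := rfl

/-- Backward direction of the adjunction, on sections. -/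
noncomputable def bwdApp (β : G ⟶ (res O U).obj N) (V : C) : Sec G V →+ N.obj (op V) :=
  DirectSum.toAddMonoid (fun f : V ⟶ U => (β.app (op (Over.mk f))).hom.toAddMonoidHom)

theorem bwdApp_of (β : G ⟶ (res O U).obj N) (V : C) (f : V ⟶ U) (x : cmp G f) :
    bwdApp G N β V (DirectSum.of (fun f' : V ⟶ U => cmp G f') f x) =
      (β.app (op (Over.mk f))).hom x :=
  DirectSum.toAddMonoid_of _ _ _

theorem bwdApp_natural (β : G ⟶ (res O U).obj N) {V W : C} (g : W ⟶ V) (m : Sec G V) :
    bwdApp G N β W (secMap G g m) = (N.map g.op).hom (bwdApp G N β V m) := by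
  induction m using DirectSum.induction_on with
  | zero => simp; try rfl
  | of f x =>
    rw [secMap_of, bwdApp_of, bwdApp_of]
    exact PresheafOfModules.naturality_apply β
      (Over.homMk g rfl : Over.mk (g ≫ f) ⟶ Over.mk f).op x
  | add a b ha hb => rw [map_add, map_add, map_add, map_add, ha, hb]; try rfl

theorem bwdApp_smul (β : G ⟶ (res O U).obj N) (V : C) (r : (R₀ O).obj (op V)) (m : Sec G V) :
    bwdApp G N β V (r • m) = r • bwdApp G N β V m := by
  induction m using DirectSum.induction_on with
  | zero => simp; try rfl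
  | of f x =>
    rw [← DirectSum.of_smul, bwdApp_of, bwdApp_of]
    exact (β.app (op (Over.mk f))).hom.map_smul r x
  | add a b ha hb => rw [smul_add, map_add, map_add, smul_add, ha, hb]; try rfl

/-- Backward direction of the adjunction. -/
noncomputable def bwd (β : G ⟶ (res O U).obj N) : jObj G ⟶ N :=
  PresheafOfModules.homMk
    { app := fun X => AddCommGrpCat.ofHom (bwdApp G N β X.unop)
      naturality := fun X Y g => by
        apply AddCommGrpCat.hom_ext
        apply AddMonoidHom.ext
        intro m
        exact bwdApp_natural G N β g.unop m }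
    (fun X r m => bwdApp_smul G N β X.unop r m)

theorem bwd_app_of (β : G ⟶ (res O U).obj N) (V : C) (f : V ⟶ U) (x : cmp G f) :
    ((bwd G N β).app (op V)).hom (DirectSum.of (fun f' : V ⟶ U => cmp G f') f x) =
      (β.app (op (Over.mk f))).hom x :=
  bwdApp_of G N β V f x

variable {G N}

theorem hom_ext_sec {α α' : jObj G ⟶ N}
    (h : ∀ (V : C) (f : V ⟶ U) (x : cmp G f),
      (α.app (op V)).hom (DirectSum.of (fun f' : V ⟶ U => cmp G f') f x) =
        (α'.app (op V)).hom (DirectSum.of (fun f' : V ⟶ U => cmp G f') f x)) : α = α' := by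
  apply PresheafOfModules.hom_ext
  intro X
  apply ModuleCat.hom_ext
  apply LinearMap.ext
  intro (m : Sec G X.unop)
  induction m using DirectSum.induction_on with
  | zero => exact ((α.app X).hom.map_zero).trans ((α'.app X).hom.map_zero).symm
  | of f x => exact h X.unop f x
  | add a b ha hb =>
    exact ((α.app X).hom.map_add a b).trans
      ((congrArg₂ (· + ·) ha hb).trans ((α'.app X).hom.map_add a b).symm)

variable (G N)

/-- The hom equivalence of the adjunction `j_! ⊣ res`. -/
noncomputable def homEquiv : (jObj G ⟶ N) ≃ (G ⟶ (res O U).obj N) where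
  toFun := fwd G N
  invFun := bwd G N
  left_inv α := hom_ext_sec (fun V f x =>
    (bwd_app_of G N (fwd G N α) V f x).trans (fwd_app_apply G N α (Over.mk f) x))
  right_inv β := by
    apply PresheafOfModules.hom_ext
    intro X
    apply ModuleCat.hom_ext
    apply LinearMap.ext
    intro x
    exact (fwd_app_apply G N (bwd G N β) X.unop x).trans
      (bwd_app_of G N β X.unop.left X.unop.hom x)

theorem homEquiv_naturality {N N' : PM O} (α : jObj G ⟶ N) (γ : N ⟶ N') :
    homEquiv G N' (α ≫ γ) = homEquiv G N α ≫ (res O U).map γ := by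
  apply PresheafOfModules.hom_ext
  intro X
  apply ModuleCat.hom_ext
  apply LinearMap.ext
  intro x
  rfl

end Adjunction

/-- The explicit extension by zero functor on presheaves of modules. -/
noncomputable def jPre : PM (O.over U) ⥤ PM O :=
  Adjunction.leftAdjointOfEquiv (fun G N => homEquiv G N)
    (fun G N N' γ α => homEquiv_naturality G α γ)

/-- The adjunction `j_! ⊣ res` on presheaves of modules. -/
noncomputable def jPreAdj : (jPre : PM (O.over U) ⥤ PM O) ⊣ res O U :=
  Adjunction.adjunctionOfEquivLeft _ _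

theorem jPre_obj (G : PM (O.over U)) : (jPre : PM (O.over U) ⥤ PM O).obj G = jObj G := rfl


attribute [local instance] Classical.propDecidable

theorem unit_app_apply (G : PM (O.over U)) (a : Over U) (x : G.obj (op a)) :
    (((jPreAdj (O := O) (U := U)).unit.app G).app (op a)).hom x =
      DirectSum.of (fun f' : a.left ⟶ U => cmp G f') a.hom x := by
  rfl


theorem jPre_map_app_of {G G' : PM (O.over U)} (φ : G ⟶ G') {V : C} (f : V ⟶ U)
    (x : cmp G f) :
    (((jPre (O := O) (U := U)).map φ).app (op V)).hom
        (DirectSum.of (fun f' : V ⟶ U => cmp G f') f x) =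
      DirectSum.of (fun f' : V ⟶ U => cmp G' f') f ((φ.app (op (Over.mk f))).hom x) := by
  have h : (jPre (O := O) (U := U)).map φ = bwd _ _ (φ ≫ fwd _ _ (𝟙 (jObj G'))) := rfl
  rw [h]
  exact (bwd_app_of _ _ _ V f x).trans rfl


theorem jPre_map_app_eq_map {G G' : PM (O.over U)} (φ : G ⟶ G') (V : C) :
    (show Sec G V →+ Sec G' V from
      (((jPre (O := O) (U := U)).map φ).app (op V)).hom.toAddMonoidHom) =
      DirectSum.map (fun f : V ⟶ U => (φ.app (op (Over.mk f))).hom.toAddMonoidHom) := by
  refine DirectSum.addHom_ext (fun f x => ?_)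
  exact (jPre_map_app_of φ f x).trans
    (DirectSum.map_of (fun f : V ⟶ U => (φ.app (op (Over.mk f))).hom.toAddMonoidHom) f x).symm

instance jPre_preservesMonomorphisms :
    (jPre (O := O) (U := U)).PreservesMonomorphisms where
  preserves {G G'} φ hφ := by
    refine PresheafOfModules.mono_of_injective (fun X => ?_)
    have h := jPre_map_app_eq_map φ X.unop
    have h2 : Function.Injective
        (DirectSum.map (fun f : X.unop ⟶ U => (φ.app (op (Over.mk f))).hom.toAddMonoidHom)) :=
      (DirectSum.map_injective _).2 (fun f => PresheafOfModules.injective_of_mono φ _)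
    intro a b hab
    have hab' : (show Sec G X.unop →+ Sec G' X.unop from
      (((jPre (O := O) (U := U)).map φ).app (op X.unop)).hom.toAddMonoidHom) a =
      (show Sec G X.unop →+ Sec G' X.unop from
      (((jPre (O := O) (U := U)).map φ).app (op X.unop)).hom.toAddMonoidHom) b := hab
    rw [h] at hab'
    exact h2 hab'

instance jPre_isLeftAdjoint : (jPre (O := O) (U := U)).IsLeftAdjoint :=
  (jPreAdj (O := O) (U := U)).isLeftAdjoint

/-- A left adjoint between abelian categories which preserves monomorphisms is exact. -/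
theorem preservesFiniteLimits_of_isLeftAdjoint {A B : Type*} [Category A] [Category B]
    [Abelian A] [Abelian B] (L : A ⥤ B) [L.IsLeftAdjoint] [L.PreservesMonomorphisms] :
    PreservesFiniteLimits L := by
  have := preservesBinaryBiproducts_of_preservesBinaryCoproducts L
  have : L.Additive := Functor.additive_of_preservesBinaryBiproducts L
  rw [Functor.preservesFiniteLimits_iff_forall_exact_map_and_mono]
  intro S hS
  have := hS.epi_g
  have := hS.mono_f
  exact ⟨hS.exact.map_of_epi_of_preservesCokernel _ inferInstance inferInstance, inferInstance⟩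

instance jPre_preservesFiniteLimits : PreservesFiniteLimits (jPre (O := O) (U := U)) :=
  preservesFiniteLimits_of_isLeftAdjoint _


section Sheaves

variable (O) (U)

/-- The explicit extension by zero on sheaves of modules. -/
noncomputable def jSh : SheafOfModules.{u} (O.over U) ⥤ SheafOfModules.{u} O :=
  toPM (O.over U) ⋙ jPre (O := O) (U := U) ⋙ shf O

/-- Auxiliary isomorphism for `jShAdj`. -/
noncomputable def comm1Iso :
    toPM (O.over U) ⋙ (jPre (O := O) (U := U) ⋙ shf O) ≅ jSh O U ⋙ 𝟭 (SheafOfModules.{u} O) :=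
  (Functor.rightUnitor (jSh O U)).symm

/-- Auxiliary isomorphism for `jShAdj`. -/
noncomputable def comm2Iso :
    𝟭 (SheafOfModules.{u} O) ⋙ (incl O ⋙ res O U) ≅ SheafOfModules.overFunctor.{u} O U ⋙ toPM (O.over U) :=
  Functor.leftUnitor _ ≪≫ NatIso.ofComponents (fun P => Iso.refl _) (by
    intro P Q f
    simp
    rfl)

/-- The adjunction between the explicit extension by zero and restriction. -/
noncomputable def jShAdj : jSh O U ⊣ SheafOfModules.overFunctor.{u} O U :=
  ((jPreAdj (O := O) (U := U)).comp (shfAdj O)).restrictFullyFaithful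
    (iC := toPM (O.over U)) (iD := 𝟭 (SheafOfModules.{u} O))
    (SheafOfModules.fullyFaithfulForget _) (Functor.FullyFaithful.id _)
    (comm1Iso O U) (comm2Iso O U)

instance jSh_preservesFiniteLimits : PreservesFiniteLimits (jSh O U) := by
  unfold jSh
  infer_instance


attribute [local instance] Classical.propDecidable in
theorem mono_jPreAdj_unit_app (A : PM (O.over U)) :
    Mono ((jPreAdj (O := O) (U := U)).unit.app A) := by
  refine PresheafOfModules.mono_of_injective (fun X => ?_)
  intro x y hxy
  have h := (unit_app_apply A X.unop x).symm.trans (hxy.trans (unit_app_apply A X.unop y))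
  exact DirectSum.of_injective (β := fun f' : X.unop.left ⟶ U => cmp A f') X.unop.hom h

theorem toPM_map_jShAdj_unit_app (G : SheafOfModules.{u} (O.over U)) :
    (toPM (O.over U)).map ((jShAdj O U).unit.app G) =
      (jPreAdj (O := O) (U := U)).unit.app ((toPM (O.over U)).obj G) ≫
        (res O U).map (η ((jPre (O := O) (U := U)).obj ((toPM (O.over U)).obj G))) := by
  have h := Adjunction.map_restrictFullyFaithful_unit_app
    (adj := (jPreAdj (O := O) (U := U)).comp (shfAdj O))
    (iC := toPM (O.over U)) (iD := 𝟭 (SheafOfModules.{u} O))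
    (hiC := SheafOfModules.fullyFaithfulForget _) (hiD := Functor.FullyFaithful.id _)
    (comm1 := comm1Iso O U) (comm2 := comm2Iso O U) G
  refine h.trans ?_
  simp [Adjunction.comp_unit_app, η, comm1Iso, comm2Iso]
  rfl

theorem mono_jShAdj_unit_app (G : SheafOfModules.{u} (O.over U)) :
    Mono ((jShAdj O U).unit.app G) := by
  have ha := mono_jPreAdj_unit_app O U ((toPM (O.over U)).obj G)
  have hb : IsIso ((shf (O.over U)).map
      ((res O U).map (η ((jPre (O := O) (U := U)).obj ((toPM (O.over U)).obj G))))) :=
    isIso_shf_map_res U (η ((jPre (O := O) (U := U)).obj ((toPM (O.over U)).obj G)))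
  have e : (shf (O.over U)).map ((toPM (O.over U)).map ((jShAdj O U).unit.app G)) =
      (shf (O.over U)).map ((jPreAdj (O := O) (U := U)).unit.app ((toPM (O.over U)).obj G)) ≫
      (shf (O.over U)).map
        ((res O U).map (η ((jPre (O := O) (U := U)).obj ((toPM (O.over U)).obj G)))) :=
    (congrArg (shf (O.over U)).map (toPM_map_jShAdj_unit_app O U G)).trans
      ((shf (O.over U)).map_comp _ _)
  have h1 : Mono ((shf (O.over U)).map ((toPM (O.over U)).map ((jShAdj O U).unit.app G))) := by
    rw [e]
    have h0 : Mono ((shf (O.over U)).map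
        ((jPreAdj (O := O) (U := U)).unit.app ((toPM (O.over U)).obj G))) := inferInstance
    exact @mono_comp _ _ _ _ _ _ h0 _ (@IsIso.mono_of_iso _ _ _ _ _ hb)
  have nat := (shfAdj (O.over U)).counit.naturality ((jShAdj O U).unit.app G)
  have i1 : IsIso ((shfAdj (O.over U)).counit.app G) := isIso_counit (O := O.over U) G
  have i2 : IsIso ((shfAdj (O.over U)).counit.app
      ((SheafOfModules.overFunctor.{u} O U).obj ((jSh O U).obj G))) := isIso_counit (O := O.over U) _
  have h3 : Mono (((incl (O.over U)) ⋙ shf (O.over U)).map ((jShAdj O U).unit.app G) ≫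
      (shfAdj (O.over U)).counit.app ((SheafOfModules.overFunctor.{u} O U).obj ((jSh O U).obj G))) := by
    have : Mono (((incl (O.over U)) ⋙ shf (O.over U)).map ((jShAdj O U).unit.app G)) := h1
    exact mono_comp _ _
  have h2 : Mono ((shfAdj (O.over U)).counit.app G ≫ (jShAdj O U).unit.app G) := by
    have nat' : ((incl (O.over U)) ⋙ shf (O.over U)).map ((jShAdj O U).unit.app G) ≫
        (shfAdj (O.over U)).counit.app ((SheafOfModules.overFunctor.{u} O U).obj ((jSh O U).obj G)) =
        (shfAdj (O.over U)).counit.app G ≫ (jShAdj O U).unit.app G := nat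
    rw [← nat']
    exact h3
  exact (mono_comp_iff_of_isIso ((shfAdj (O.over U)).counit.app G)
    ((jShAdj O U).unit.app G)).1 h2

instance jSh_faithful : (jSh O U).Faithful := by
  have := mono_jShAdj_unit_app O U
  exact (jShAdj O U).faithful_L_of_mono_unit_app


end Sheaves

end Groth.Agent.H4.ExtZeroNC
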