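import Mathlib
import Groth.Prelude.Def_EtCore
import Groth.Agent.H4.Transfer

/-!
# Period and index have the same prime factors (helper4 library)

A class in the étale cohomology of a field killed by a finite separable extension is killed by a
finite separable extension of degree prime to `p`, for every prime `p` not dividing its order
(Sylow argument on the Galois closure + the transfer of `H4/Transfer`).
-/

set_option autoImplicit false
open CategoryTheory CategoryTheory.Limits AlgebraicGeometry Opposite CategoryTheory.Abelian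
universe u

namespace Groth.Agent.H4.Tr

open Groth.Agent.H4 Groth.Agent.H4.ExtTools

attribute [local instance] MV.pullExact

theorem Hpull_eq_zero_of_HpullVia {W T X : Scheme.{u}} (a : W ⟶ T) (j : T ⟶ X) (jW : W ⟶ X)
    (w : a ≫ j = jW) (F : EtCoh.Ab X) (n : ℕ) (y : EtCoh.H T ((EtCoh.pull j).obj F) n)
    (h : EtCore.HpullVia a j jW w F n y = 0) :
    EtCore.Hpull a ((EtCoh.pull j).obj F) n y = 0 := by
  have h' : ((EtCoh.HF W n).map
      ((((EtCore.pullComp a j).symm ≪≫ EtCore.pullCongr w).app F).hom)).hom
      (EtCore.Hpull a ((EtCoh.pull j).obj F) n y) = 0 := h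
  have hid : (EtCoh.HF W n).map ((((EtCore.pullComp a j).symm ≪≫ EtCore.pullCongr w).app F).hom) ≫
      (EtCoh.HF W n).map ((((EtCore.pullComp a j).symm ≪≫ EtCore.pullCongr w).app F).inv) =
      𝟙 _ := by
    rw [← Functor.map_comp, Iso.hom_inv_id, CategoryTheory.Functor.map_id]
  have h3 : ((EtCoh.HF W n).map
      ((((EtCore.pullComp a j).symm ≪≫ EtCore.pullCongr w).app F).inv)).hom
      (((EtCoh.HF W n).map
        ((((EtCore.pullComp a j).symm ≪≫ EtCore.pullCongr w).app F).hom)).hom
        (EtCore.Hpull a ((EtCoh.pull j).obj F) n y)) =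
      EtCore.Hpull a ((EtCoh.pull j).obj F) n y :=
    congrArg (fun q => q.hom (EtCore.Hpull a ((EtCoh.pull j).obj F) n y)) hid
  rw [h', map_zero] at h3
  exact h3.symm

theorem sm_comp (K E E' : Type u) [Field K] [Field E] [Field E'] [Algebra K E] [Algebra K E']
    [Algebra E E'] [IsScalarTower K E E'] : sm E E' ≫ sm K E = sm K E' := by
  rw [← Spec.map_comp]
  congr 1
  ext x
  exact (IsScalarTower.algebraMap_apply K E E' x).symm

open IntermediateField in
theorem isSeparable_normalClosure (K L : Type u) [Field K] [Field L] [Algebra K L]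
    [Algebra.IsSeparable K L] :
    Algebra.IsSeparable K (normalClosure K L (AlgebraicClosure L)) := by
  rw [← le_separableClosure_iff]
  rw [normalClosure_le_iff]
  intro φ y hy
  obtain ⟨x, rfl⟩ := hy
  rw [mem_separableClosure_iff]
  have hx : IsSeparable K x := Algebra.IsSeparable.isSeparable K x
  show IsSeparable K (φ x)
  exact hx.map φ φ.injective

open IntermediateField in
theorem exists_ext_prime_to_p (K : Type u) [Field K] (F : EtCoh.Ab (Spec (CommRingCat.of K)))
    (i : ℕ) (α : EtCoh.H (Spec (CommRingCat.of K)) F i) (L : Type u) [Field L] [Algebra K L]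
    [FiniteDimensional K L] [Algebra.IsSeparable K L]
    (hα : EtCore.Hpull (sm K L) F i α = 0) (p : ℕ) (hp : p.Prime) (hpα : ¬ p ∣ addOrderOf α) :
    ∃ (L' : Type u) (_ : Field L') (_ : Algebra K L') (_ : FiniteDimensional K L')
      (_ : Algebra.IsSeparable K L'),
      ¬ p ∣ Module.finrank K L' ∧ EtCore.Hpull (sm K L') F i α = 0 := by
  classical
  haveI : Fact p.Prime := ⟨hp⟩
  haveI : IsAlgClosure K (AlgebraicClosure L) := IsAlgClosure.ofAlgebraic K L (AlgebraicClosure L)
  haveI : Normal K (AlgebraicClosure L) := inferInstance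
  haveI : Normal K (normalClosure K L (AlgebraicClosure L)) := normalClosure.normal K L _
  haveI : FiniteDimensional K (normalClosure K L (AlgebraicClosure L)) :=
    normalClosure.is_finiteDimensional K L _
  haveI : Algebra.IsSeparable K (normalClosure K L (AlgebraicClosure L)) :=
    isSeparable_normalClosure K L
  haveI : IsGalois K (normalClosure K L (AlgebraicClosure L)) :=
    isGalois_iff.2 ⟨inferInstance, inferInstance⟩
  haveI := etale_sm K L
  haveI := etale_sm K (normalClosure K L (AlgebraicClosure L))
  have hM : EtCore.Hpull (sm K (normalClosure K L (AlgebraicClosure L))) F i α = 0 := by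
    rw [← Hpull_via (sm L (normalClosure K L (AlgebraicClosure L))) (sm K L)
      (sm K (normalClosure K L (AlgebraicClosure L)))
      (sm_comp K L (normalClosure K L (AlgebraicClosure L))) F i α, hα, map_zero]
  let P : Sylow p ((normalClosure K L (AlgebraicClosure L)) ≃ₐ[K]
    (normalClosure K L (AlgebraicClosure L))) := default
  haveI : Algebra.IsSeparable K (fixedField (P : Subgroup ((normalClosure K L (AlgebraicClosure L))
      ≃ₐ[K] (normalClosure K L (AlgebraicClosure L))))) :=
    Algebra.isSeparable_tower_bot_of_isSeparable K _ (normalClosure K L (AlgebraicClosure L))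
  haveI : Algebra.IsSeparable (fixedField (P : Subgroup ((normalClosure K L (AlgebraicClosure L))
      ≃ₐ[K] (normalClosure K L (AlgebraicClosure L)))))
      (normalClosure K L (AlgebraicClosure L)) :=
    Algebra.isSeparable_tower_top_of_isSeparable K _ (normalClosure K L (AlgebraicClosure L))
  haveI := etale_sm K (fixedField (P : Subgroup ((normalClosure K L (AlgebraicClosure L))
      ≃ₐ[K] (normalClosure K L (AlgebraicClosure L)))))
  have hdeg : ¬ p ∣ Module.finrank K (fixedField (P : Subgroup
      ((normalClosure K L (AlgebraicClosure L)) ≃ₐ[K]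
        (normalClosure K L (AlgebraicClosure L))))) := by
    rw [IntermediateField.finrank_eq_fixingSubgroup_index,
      IntermediateField.fixingSubgroup_fixedField]
    exact P.not_dvd_index
  obtain ⟨n, hn⟩ := (IsPGroup.iff_card.1 P.isPGroup')
  have hML' : Module.finrank (fixedField (P : Subgroup
      ((normalClosure K L (AlgebraicClosure L)) ≃ₐ[K]
        (normalClosure K L (AlgebraicClosure L)))))
      (normalClosure K L (AlgebraicClosure L)) = p ^ n := by
    rw [IntermediateField.finrank_fixedField_eq_card]
    exact hn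
  refine ⟨fixedField (P : Subgroup ((normalClosure K L (AlgebraicClosure L)) ≃ₐ[K]
    (normalClosure K L (AlgebraicClosure L)))), inferInstance, inferInstance, inferInstance,
    inferInstance, hdeg, ?_⟩
  have h1 : EtCore.Hpull (sm (fixedField (P : Subgroup ((normalClosure K L (AlgebraicClosure L))
      ≃ₐ[K] (normalClosure K L (AlgebraicClosure L))))) (normalClosure K L (AlgebraicClosure L)))
      ((EtCoh.pull (sm K (fixedField (P : Subgroup ((normalClosure K L (AlgebraicClosure L))
        ≃ₐ[K] (normalClosure K L (AlgebraicClosure L))))))).obj F) i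
      (EtCore.Hpull (sm K (fixedField (P : Subgroup ((normalClosure K L (AlgebraicClosure L))
        ≃ₐ[K] (normalClosure K L (AlgebraicClosure L)))))) F i α) = 0 := by
    apply Hpull_eq_zero_of_HpullVia _ _ (sm K (normalClosure K L (AlgebraicClosure L)))
      (sm_comp K _ (normalClosure K L (AlgebraicClosure L)))
    rw [Hpull_via, hM]
  have h2 : p ^ n • (EtCore.Hpull (sm K (fixedField (P : Subgroup
      ((normalClosure K L (AlgebraicClosure L)) ≃ₐ[K]
        (normalClosure K L (AlgebraicClosure L)))))) F i α) = 0 := by
    rw [← hML']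
    exact finrank_nsmul_eq_zero _ _ i _ (normalClosure K L (AlgebraicClosure L)) h1
  have h3 : addOrderOf α • (EtCore.Hpull (sm K (fixedField (P : Subgroup
      ((normalClosure K L (AlgebraicClosure L)) ≃ₐ[K]
        (normalClosure K L (AlgebraicClosure L)))))) F i α) = 0 := by
    rw [← map_nsmul, addOrderOf_nsmul_eq_zero, map_zero]
  have hcop : Nat.Coprime (p ^ n) (addOrderOf α) :=
    ((Nat.Prime.coprime_iff_not_dvd hp).2 hpα).pow_left n
  have hd := Nat.dvd_gcd (addOrderOf_dvd_of_nsmul_eq_zero h2) (addOrderOf_dvd_of_nsmul_eq_zero h3)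
  rw [hcop.gcd_eq_one] at hd
  exact AddMonoid.addOrderOf_eq_one_iff.1 (Nat.dvd_one.1 hd)

end Groth.Agent.H4.Tr
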