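import Mathlib
import Groth.Prelude.Def_EtCore
import Groth.Agent.H4.Transfer
import Groth.Agent.H4.Transfer2
import Groth.Agent.H4.LocVanish
import Groth.Agent.H4.ZarSection

/-!
# Gabber's criterion for the vanishing of étale cohomology of affine schemes whose local rings are
strictly henselian (helper4 library)

* `io`, `res`: the transition maps `j_{T'!}ℤ ⟶ j_{T!}ℤ` for opens `T' ≤ T` and the induced
  restriction maps on `Ext(j_{T!}ℤ, F) ≃ H(T, F|_T)`.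
* `mv_inj`: relative Mayer–Vietoris injectivity.
* `local_vanish_rel`: classes of positive degree vanish Zariski-locally when the local rings are
  strictly henselian.
* `gabber_step`, `gabber_main`: Gabber's argument.
-/

set_option autoImplicit false
open CategoryTheory CategoryTheory.Limits AlgebraicGeometry Opposite CategoryTheory.Abelian
universe u

namespace Groth.Agent.H4.Gabber

open Groth.Agent.H4 Groth.Agent.H4.ExtTools

attribute [local instance] MV.pullExact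

variable {X : Scheme.{u}}

section Res

/-- `j_{T'!}ℤ ⟶ j_{T!}ℤ` for `T' ≤ T`. -/
noncomputable def io {T' T : X.Opens} (h : T' ≤ T) : MV.PP T'.ι ⟶ MV.PP T.ι :=
  MV.iotaAbs (X.homOfLE h) T.ι T'.ι (X.homOfLE_ι h)

theorem io_eps {T' T : X.Opens} (h : T' ≤ T) : io h ≫ MV.eps T.ι = MV.eps T'.ι :=
  MV.iotaAbs_eps _ _ _ _

theorem io_comp {T'' T' T : X.Opens} (h₁ : T'' ≤ T') (h₂ : T' ≤ T) :
    io h₁ ≫ io h₂ = io (h₁.trans h₂) := by
  haveI := MV.mono_eps T.ι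
  rw [← cancel_mono (MV.eps T.ι), Category.assoc, io_eps, io_eps, io_eps]

theorem io_refl (T : X.Opens) : io (le_refl T) = 𝟙 _ := by
  haveI := MV.mono_eps T.ι
  rw [← cancel_mono (MV.eps T.ι), io_eps, Category.id_comp]

/-- Restriction `Ext(j_{T!}ℤ, F) → Ext(j_{T'!}ℤ, F)`. -/
noncomputable def res {T' T : X.Opens} (h : T' ≤ T) (F : EtCoh.Ab X) (n : ℕ)
    (x : Ext.{u + 1} (MV.PP T.ι) F n) : Ext.{u + 1} (MV.PP T'.ι) F n :=
  (Ext.mk₀ (io h)).comp x (zero_add n)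

theorem res_res {T'' T' T : X.Opens} (h₁ : T'' ≤ T') (h₂ : T' ≤ T) (F : EtCoh.Ab X) (n : ℕ)
    (x : Ext.{u + 1} (MV.PP T.ι) F n) :
    res h₁ F n (res h₂ F n x) = res (h₁.trans h₂) F n x := by
  unfold res
  rw [Ext.mk₀_comp_mk₀_assoc, io_comp]

theorem res_refl (T : X.Opens) (F : EtCoh.Ab X) (n : ℕ) (x : Ext.{u + 1} (MV.PP T.ι) F n) :
    res (le_refl T) F n x = x := by
  unfold res
  rw [io_refl, Ext.mk₀_id_comp]

theorem res_zero {T' T : X.Opens} (h : T' ≤ T) (F : EtCoh.Ab X) (n : ℕ) :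
    res h F n (0 : Ext.{u + 1} (MV.PP T.ι) F n) = 0 := by
  unfold res
  rw [Ext.comp_zero]

end Res

section Empty

theorem hom_ext_of_isEmpty (G : EtCoh.Ab X) (Y : X.Etale) [IsEmpty Y.left]
    {E : AddCommGrpCat.{u + 1}} (t t' : E ⟶ G.obj.obj (op Y)) : t = t' := by
  refine Presheaf.IsSheaf.hom_ext_ofArrows G.property (I := PEmpty.{1})
    (X := fun i => i.elim) (fun i => i.elim) ?_ (fun i => i.elim)
  exact mem_smallEtaleTopology_of_forall _ _ (fun x => (IsEmpty.false x).elim)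

theorem ext_eq_zero_of_eq_bot (T : X.Opens) (hT : T = ⊥) (F : EtCoh.Ab X) (n : ℕ)
    (x : Ext.{u + 1} (MV.PP T.ι) F n) : x = 0 := by
  subst hT
  haveI : IsEmpty (MV.tildeOf X (⊥ : X.Opens)).left := by
    refine ⟨fun y => ?_⟩
    have hy : (y : ↥(⊥ : X.Opens)).1 ∈ (⊥ : X.Opens) := (y : ↥(⊥ : X.Opens)).2
    exact TopologicalSpace.Opens.mem_bot.1 hy
  have h1 : 𝟙 (MV.PP (⊥ : X.Opens).ι) = 0 := by
    apply (MV.isRep_P (⊥ : X.Opens).ι (MV.PP (⊥ : X.Opens).ι)).1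
    exact hom_ext_of_isEmpty _ _ _ _
  have h2 : x = (Ext.mk₀ (𝟙 _)).comp x (zero_add n) := (Ext.mk₀_id_comp x).symm
  rw [h2, h1, Ext.mk₀_zero, Ext.zero_comp]

end Empty

section RelMV

variable (U V W : X.Opens)

theorem cover_mem_rel (hle : ∀ b : Bool, cond b U V ≤ W) (hUV : W ≤ U ⊔ V) :
    Sieve.ofArrows (fun b : Bool => MV.tildeOf X (cond b U V)) (fun b => MV.qLE X (hle b)) ∈
      X.smallEtaleTopology (MV.tildeOf X W) := by
  apply mem_smallEtaleTopology_of_forall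
  intro x
  have hx : (x : ↥W).1 ∈ (U ⊔ V : X.Opens) := hUV (x : ↥W).2
  rcases hx with hx | hx
  · refine ⟨MV.tildeOf X U, MV.qLE X (hle true), ⟨(x : ↥W).1, hx⟩,
      Sieve.ofArrows_mk (fun b : Bool => MV.tildeOf X (cond b U V))
        (fun b => MV.qLE X (hle b)) true, ?_⟩
    exact Subtype.ext (X.homOfLE_apply (hle true) ⟨(x : ↥W).1, hx⟩)
  · refine ⟨MV.tildeOf X V, MV.qLE X (hle false), ⟨(x : ↥W).1, hx⟩,
      Sieve.ofArrows_mk (fun b : Bool => MV.tildeOf X (cond b U V))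
        (fun b => MV.qLE X (hle b)) false, ?_⟩
    exact Subtype.ext (X.homOfLE_apply (hle false) ⟨(x : ↥W).1, hx⟩)

theorem glue_unique_rel (hU : U ≤ W) (hV : V ≤ W) (hUV : W ≤ U ⊔ V) (G : EtCoh.Ab X)
    {E : AddCommGrpCat.{u + 1}} (t t' : E ⟶ G.obj.obj (op (MV.tildeOf X W)))
    (h₁ : t ≫ G.obj.map (MV.qLE X hU).op = t' ≫ G.obj.map (MV.qLE X hU).op)
    (h₂ : t ≫ G.obj.map (MV.qLE X hV).op = t' ≫ G.obj.map (MV.qLE X hV).op) : t = t' := by
  have hle : ∀ b : Bool, cond b U V ≤ W := fun b => by cases b; exacts [hV, hU]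
  apply Presheaf.IsSheaf.hom_ext_ofArrows G.property (fun b => MV.qLE X (hle b))
    (cover_mem_rel U V W hle hUV)
  intro b
  cases b
  · exact h₂
  · exact h₁

theorem glue_exists_rel (hU : U ≤ W) (hV : V ≤ W) (hUV : W ≤ U ⊔ V) (G : EtCoh.Ab X)
    {E : AddCommGrpCat.{u + 1}}
    (t₁ : E ⟶ G.obj.obj (op (MV.tildeOf X U))) (t₂ : E ⟶ G.obj.obj (op (MV.tildeOf X V)))
    (h : t₁ ≫ G.obj.map (MV.qLE X (inf_le_left : U ⊓ V ≤ U)).op =
      t₂ ≫ G.obj.map (MV.qLE X (inf_le_right : U ⊓ V ≤ V)).op) :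
    ∃ t : E ⟶ G.obj.obj (op (MV.tildeOf X W)),
      t ≫ G.obj.map (MV.qLE X hU).op = t₁ ∧ t ≫ G.obj.map (MV.qLE X hV).op = t₂ := by
  have hle : ∀ b : Bool, cond b U V ≤ W := fun b => by cases b; exacts [hV, hU]
  let x : ∀ b : Bool, E ⟶ G.obj.obj (op (MV.tildeOf X (cond b U V))) := fun b =>
    match b with
    | true => t₁
    | false => t₂
  have hmix : ∀ {W' : X.Etale} (a' : W' ⟶ MV.tildeOf X U) (b' : W' ⟶ MV.tildeOf X V),
      t₁ ≫ G.obj.map a'.op = t₂ ≫ G.obj.map b'.op := by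
    intro W' a' b'
    have hw : a'.left ≫ U.ι = b'.left ≫ V.ι := (MV.w_tilde a').trans (MV.w_tilde b').symm
    let r₀ : W'.left ⟶ ((U ⊓ V : X.Opens) : Scheme.{u}) :=
      (isPullback_opens_inf U V).lift a'.left b'.left hw
    have hr₀ : r₀ ≫ (U ⊓ V).ι = W'.hom := by
      have h1 : r₀ ≫ X.homOfLE (inf_le_left : U ⊓ V ≤ U) = a'.left :=
        (isPullback_opens_inf U V).lift_fst _ _ _
      rw [← X.homOfLE_ι (inf_le_left : U ⊓ V ≤ U), ← Category.assoc, h1]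
      exact MV.w_tilde a'
    let r : W' ⟶ MV.tildeOf X (U ⊓ V) := MorphismProperty.Over.homMk r₀
      ((congrArg (fun z => r₀ ≫ z) (MV.tilde_hom X (U ⊓ V))).trans hr₀) trivial
    have e1 : a' = r ≫ MV.qLE X (inf_le_left : U ⊓ V ≤ U) := MV.hom_ext_tilde _ _
    have e2 : b' = r ≫ MV.qLE X (inf_le_right : U ⊓ V ≤ V) := MV.hom_ext_tilde _ _
    rw [e1, e2, op_comp, op_comp, Functor.map_comp, Functor.map_comp, ← Category.assoc,
      ← Category.assoc, h]
  have hx : ∀ ⦃W' : X.Etale⦄ ⦃i j : Bool⦄ (a' : W' ⟶ MV.tildeOf X (cond i U V))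
      (b' : W' ⟶ MV.tildeOf X (cond j U V)),
      a' ≫ MV.qLE X (hle i) = b' ≫ MV.qLE X (hle j) →
      x i ≫ G.obj.map a'.op = x j ≫ G.obj.map b'.op := by
    intro W' i j a' b' _
    cases i <;> cases j
    · rw [MV.hom_ext_tilde a' b']
    · exact (hmix b' a').symm
    · exact hmix a' b'
    · rw [MV.hom_ext_tilde a' b']
  obtain ⟨t, ht, -⟩ := Presheaf.IsSheaf.existsUnique_amalgamation_ofArrows G.property
    (fun b => MV.qLE X (hle b)) (cover_mem_rel U V W hle hUV) x hx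
  exact ⟨t, ht true, ht false⟩

variable {U V W}

/-- Relative Mayer–Vietoris: a class on `W = U ∪ V` vanishing on `U` and on `V` vanishes, provided
the cohomology of `U ∩ V` one degree lower vanishes. -/
theorem mv_inj (hU : U ≤ W) (hV : V ≤ W) (hUV : W ≤ U ⊔ V) (F : EtCoh.Ab X)
    (n m : ℕ) (hnm : 1 + n = m)
    (hsub : Subsingleton (Ext.{u + 1} (MV.PP (U ⊓ V).ι) F n))
    (x : Ext.{u + 1} (MV.PP W.ι) F m)
    (h1 : res hU F m x = 0) (h2 : res hV F m x = 0) : x = 0 := by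
  obtain ⟨hz, hex, hepi⟩ := MV.rightExact_of_rep (MV.qLE X hU) (MV.qLE X hV)
    (MV.qLE X (inf_le_left : U ⊓ V ≤ U)) (MV.qLE X (inf_le_right : U ⊓ V ≤ V))
    (MV.hom_ext_tilde _ _)
    (MV.sigmaP W.ι) (MV.sigmaP U.ι) (MV.sigmaP V.ι) (MV.sigmaP (U ⊓ V).ι)
    (MV.isRep_P W.ι) (MV.isRep_P U.ι) (MV.isRep_P V.ι) (MV.isRep_P (U ⊓ V).ι)
    (io hU) (io hV) (MV.iotaL U V) (MV.iotaR U V)
    (MV.sigmaP_of_comp_eps hU (io hU) (io_eps hU))
    (MV.sigmaP_of_comp_eps hV (io hV) (io_eps hV))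
    (MV.sigmaP_of_comp_eps inf_le_left (MV.iotaL U V) (MV.iotaL_eps U V))
    (MV.sigmaP_of_comp_eps inf_le_right (MV.iotaR U V) (MV.iotaR_eps U V))
    (fun G t t' h₁ h₂ => glue_unique_rel U V W hU hV hUV G t t' h₁ h₂)
    (fun G t₁ t₂ h => glue_exists_rel U V W hU hV hUV G t₁ t₂ h)
  haveI : Mono (MV.iotaL U V) := by
    haveI : Mono (MV.iotaL U V ≫ MV.eps U.ι) := by
      rw [MV.iotaL_eps]
      exact MV.mono_eps _
    exact mono_of_mono (MV.iotaL U V) (MV.eps U.ι)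
  haveI : Mono (biprod.lift (MV.iotaL U V) (-MV.iotaR U V)) := by
    haveI : Mono (biprod.lift (MV.iotaL U V) (-MV.iotaR U V) ≫ biprod.fst) := by
      rw [biprod.lift_fst]
      infer_instance
    exact mono_of_mono _ biprod.fst
  have hS : (ShortComplex.mk _ _ hz).ShortExact :=
    { exact := hex
      mono_f := inferInstanceAs (Mono (biprod.lift (MV.iotaL U V) (-MV.iotaR U V)))
      epi_g := hepi }
  have hx : (Ext.mk₀ (biprod.desc (io hU) (io hV))).comp x (zero_add m) = 0 := by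
    apply Ext.biprod_ext
    · rw [Ext.mk₀_comp_mk₀_assoc, biprod.inl_desc, Ext.comp_zero]
      exact h1
    · rw [Ext.mk₀_comp_mk₀_assoc, biprod.inr_desc, Ext.comp_zero]
      exact h2
  obtain ⟨x₁, hx₁⟩ := Ext.contravariant_sequence_exact₃ hS F x hx hnm
  have hx₁0 : x₁ = 0 := hsub.elim x₁ 0
  rw [← hx₁, hx₁0, Ext.comp_zero]

end RelMV

section Local

/-- If all local rings of `X` are strictly henselian, a class of positive degree on an open `T`
vanishes on a Zariski neighbourhood of any point of `T`. -/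
theorem local_vanish_rel
    (hS : ∀ s : X, EtCoh.IsStrictlyHenselianLocalRing (X.presheaf.stalk s))
    (T : X.Opens) (F : EtCoh.Ab X) (m : ℕ) (hm : 1 ≤ m) (x : Ext.{u + 1} (MV.PP T.ι) F m)
    (p : X) (hp : p ∈ T) : ∃ (U : X.Opens) (hU : U ≤ T), p ∈ U ∧ res hU F m x = 0 := by
  obtain ⟨n, rfl⟩ : ∃ n, m = n + 1 := ⟨m - 1, by omega⟩
  obtain ⟨T', k, hk, t', ht', h0⟩ := Tr.exists_etale_nbhd_comp_eps_eq_zero n
    ((EtCoh.pull T.ι).obj F) (Tr.rhoP T.ι F (n + 1) x) ⟨p, hp⟩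
  haveI := hk
  have hH : EtCore.Hpull k ((EtCoh.pull T.ι).obj F) (n + 1) (Tr.rhoP T.ι F (n + 1) x) = 0 := by
    rw [← Tr.rhoP_eps k _ (n + 1) (Tr.rhoP T.ι F (n + 1) x), h0, map_zero]
  have hV : EtCore.HpullVia k T.ι (k ≫ T.ι) rfl F (n + 1) (Tr.rhoP T.ι F (n + 1) x) = 0 := by
    have e : EtCore.HpullVia k T.ι (k ≫ T.ι) rfl F (n + 1) (Tr.rhoP T.ι F (n + 1) x) =
        ((EtCoh.HF T' (n + 1)).map
          ((((EtCore.pullComp k T.ι).symm ≪≫ EtCore.pullCongr rfl).app F).hom)).hom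
          (EtCore.Hpull k ((EtCoh.pull T.ι).obj F) (n + 1) (Tr.rhoP T.ι F (n + 1) x)) := rfl
    rw [e, hH]
    exact map_zero _
  have h1 : (Ext.mk₀ (Tr.iotaAbs k T.ι (k ≫ T.ι) rfl)).comp x (zero_add (n + 1)) = 0 := by
    apply (Tr.rhoP_bijective (k ≫ T.ι) F (n + 1)).1
    exact ((Tr.rhoP_iotaAbs k T.ι (k ≫ T.ι) rfl F (n + 1) x).symm.trans hV).trans
      (map_zero (Tr.rhoP (k ≫ T.ι) F (n + 1))).symm
  have hkp : (k ≫ T.ι).base t' = p := by
    show T.ι.base (k.base t') = p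
    rw [ht']
    rfl
  obtain ⟨U, hpU, s, hs⟩ := ZarSection.exists_zariski_section (k ≫ T.ι) t' p hkp (hS p)
  have hUT : U ≤ T := by
    refine SetLike.le_def.2 (fun y hy => ?_)
    have e1 : (s ≫ k ≫ T.ι).base ⟨y, hy⟩ = U.ι.base ⟨y, hy⟩ := by rw [hs]
    let z : ↥T := k.base (s.base ⟨y, hy⟩)
    have e2 : z.1 = y := e1
    rw [← e2]
    exact z.2
  refine ⟨U, hUT, hpU, ?_⟩
  have hio : io hUT = Tr.iotaAbs s (k ≫ T.ι) U.ι hs ≫ Tr.iotaAbs k T.ι (k ≫ T.ι) rfl := by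
    haveI := MV.mono_eps T.ι
    apply (cancel_mono (MV.eps T.ι)).1
    have a1 : Tr.iotaAbs k T.ι (k ≫ T.ι) rfl ≫ MV.eps T.ι = Tr.eps (k ≫ T.ι) :=
      Tr.iotaAbs_eps k T.ι (k ≫ T.ι) rfl
    have a2 : Tr.iotaAbs s (k ≫ T.ι) U.ι hs ≫ Tr.eps (k ≫ T.ι) = MV.eps U.ι :=
      Tr.iotaAbs_eps s (k ≫ T.ι) U.ι hs
    exact (io_eps hUT).trans ((Category.assoc _ _ _).trans
      ((congrArg (fun z => Tr.iotaAbs s (k ≫ T.ι) U.ι hs ≫ z) a1).trans a2)).symm
  have e := Ext.mk₀_comp_mk₀_assoc (Tr.iotaAbs s (k ≫ T.ι) U.ι hs)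
    (Tr.iotaAbs k T.ι (k ≫ T.ι) rfl) x
  have e3 : res hUT F (n + 1) x =
      (Ext.mk₀ (Tr.iotaAbs s (k ≫ T.ι) U.ι hs ≫ Tr.iotaAbs k T.ι (k ≫ T.ι) rfl)).comp x
        (zero_add (n + 1)) := by
    unfold res
    rw [hio]
  exact e3.trans (e.symm.trans
    ((congrArg (fun z => (Ext.mk₀ (Tr.iotaAbs s (k ≫ T.ι) U.ι hs)).comp z (zero_add (n + 1))) h1).trans
      (Ext.comp_zero _ _ _ _ _)))

end Local

section Step

theorem vanish_add (F : EtCoh.Ab X)
    (K1 : ∀ (f g : Γ(X, ⊤)) (x : Ext.{u + 1} (MV.PP (X.basicOpen (f + g)).ι) F 1),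
      res ((X.basicOpen_mul f (f + g)).trans_le inf_le_right) F 1 x = 0 →
      res ((X.basicOpen_mul g (f + g)).trans_le inf_le_right) F 1 x = 0 → x = 0)
    (p : ℕ) (hp : 1 ≤ p)
    (ih : ∀ (h : Γ(X, ⊤)) (q : ℕ), 1 ≤ q → q < p →
      Subsingleton (Ext.{u + 1} (MV.PP (X.basicOpen h).ι) F q))
    (h : Γ(X, ⊤)) (x : Ext.{u + 1} (MV.PP (X.basicOpen h).ι) F p) (f g : Γ(X, ⊤))
    (hf : ∀ (t : Γ(X, ⊤)) (ht : X.basicOpen t ≤ X.basicOpen h),
      X.basicOpen t ≤ X.basicOpen f → res ht F p x = 0)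
    (hg : ∀ (t : Γ(X, ⊤)) (ht : X.basicOpen t ≤ X.basicOpen h),
      X.basicOpen t ≤ X.basicOpen g → res ht F p x = 0)
    (t : Γ(X, ⊤)) (ht : X.basicOpen t ≤ X.basicOpen h)
    (htfg : X.basicOpen t ≤ X.basicOpen (f + g)) : res ht F p x = 0 := by
  have hU : X.basicOpen (t * f) ≤ X.basicOpen t := (X.basicOpen_mul t f).trans_le inf_le_left
  have hV : X.basicOpen (t * g) ≤ X.basicOpen t := (X.basicOpen_mul t g).trans_le inf_le_left
  have hUf : X.basicOpen (t * f) ≤ X.basicOpen f := (X.basicOpen_mul t f).trans_le inf_le_right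
  have hVg : X.basicOpen (t * g) ≤ X.basicOpen g := (X.basicOpen_mul t g).trans_le inf_le_right
  rcases Nat.eq_or_lt_of_le hp with hp1 | hp1
  · subst hp1
    have e : t * f + t * g = t * (f + g) := (mul_add t f g).symm
    have hW1 : X.basicOpen (t * f + t * g) ≤ X.basicOpen t := by
      rw [e]
      exact (X.basicOpen_mul t (f + g)).trans_le inf_le_left
    have hW2 : X.basicOpen t ≤ X.basicOpen (t * f + t * g) := by
      rw [e, X.basicOpen_mul]
      exact le_inf le_rfl htfg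
    have hy1 : res ((X.basicOpen_mul (t * f) (t * f + t * g)).trans_le inf_le_right) F 1
        (res hW1 F 1 (res ht F 1 x)) = 0 :=
      (res_res _ hW1 F 1 (res ht F 1 x)).trans ((res_res _ ht F 1 x).trans
        (hf _ _ (((X.basicOpen_mul (t * f) (t * f + t * g)).trans_le inf_le_left).trans hUf)))
    have hy2 : res ((X.basicOpen_mul (t * g) (t * f + t * g)).trans_le inf_le_right) F 1
        (res hW1 F 1 (res ht F 1 x)) = 0 :=
      (res_res _ hW1 F 1 (res ht F 1 x)).trans ((res_res _ ht F 1 x).trans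
        (hg _ _ (((X.basicOpen_mul (t * g) (t * f + t * g)).trans_le inf_le_left).trans hVg)))
    have hy0 : res hW1 F 1 (res ht F 1 x) = 0 := K1 (t * f) (t * g) _ hy1 hy2
    have e5 : res hW2 F 1 (res hW1 F 1 (res ht F 1 x)) = res ht F 1 x :=
      (res_res hW2 hW1 F 1 (res ht F 1 x)).trans (res_refl _ F 1 _)
    exact e5.symm.trans ((congrArg (res hW2 F 1) hy0).trans (res_zero hW2 F 1))
  · have hUV : X.basicOpen t ≤ X.basicOpen (t * f) ⊔ X.basicOpen (t * g) := by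
      rw [X.basicOpen_mul t f, X.basicOpen_mul t g, ← inf_sup_left]
      exact le_inf le_rfl (htfg.trans (X.basicOpen_add_le f g))
    have r1 : res hU F p (res ht F p x) = 0 :=
      (res_res hU ht F p x).trans (hf (t * f) (hU.trans ht) hUf)
    have r2 : res hV F p (res ht F p x) = 0 :=
      (res_res hV ht F p x).trans (hg (t * g) (hV.trans ht) hVg)
    have hsub : Subsingleton
        (Ext.{u + 1} (MV.PP (X.basicOpen (t * f) ⊓ X.basicOpen (t * g)).ι) F (p - 1)) := by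
      rw [← X.basicOpen_mul (t * f) (t * g)]
      exact ih _ (p - 1) (by omega) (by omega)
    exact mv_inj hU hV hUV F (p - 1) p (by omega) hsub (res ht F p x) r1 r2

/-- Gabber's induction step. -/
theorem gabber_step [IsAffine X]
    (hS : ∀ s : X, EtCoh.IsStrictlyHenselianLocalRing (X.presheaf.stalk s)) (F : EtCoh.Ab X)
    (K1 : ∀ (f g : Γ(X, ⊤)) (x : Ext.{u + 1} (MV.PP (X.basicOpen (f + g)).ι) F 1),
      res ((X.basicOpen_mul f (f + g)).trans_le inf_le_right) F 1 x = 0 →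
      res ((X.basicOpen_mul g (f + g)).trans_le inf_le_right) F 1 x = 0 → x = 0)
    (p : ℕ) (hp : 1 ≤ p)
    (ih : ∀ (h : Γ(X, ⊤)) (q : ℕ), 1 ≤ q → q < p →
      Subsingleton (Ext.{u + 1} (MV.PP (X.basicOpen h).ι) F q))
    (h : Γ(X, ⊤)) (x : Ext.{u + 1} (MV.PP (X.basicOpen h).ι) F p) : x = 0 := by
  let J : Ideal Γ(X, ⊤) :=
    { carrier := {f | ∀ (t : Γ(X, ⊤)) (ht : X.basicOpen t ≤ X.basicOpen h),
        X.basicOpen t ≤ X.basicOpen f → res ht F p x = 0}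
      add_mem' := by
        intro f g hf hg
        exact fun t ht htfg => vanish_add F K1 p hp ih h x f g hf hg t ht htfg
      zero_mem' := by
        exact fun t ht htf => ext_eq_zero_of_eq_bot (X.basicOpen t)
          (le_bot_iff.1 (htf.trans (X.basicOpen_zero ⊤).le)) F p (res ht F p x)
      smul_mem' := by
        intro a f hf
        exact fun t ht htf => hf t ht (htf.trans ((X.basicOpen_mul a f).trans_le inf_le_right)) }
  have hmemJ : ∀ f : Γ(X, ⊤), f ∈ J ↔ ∀ (t : Γ(X, ⊤)) (ht : X.basicOpen t ≤ X.basicOpen h),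
      X.basicOpen t ≤ X.basicOpen f → res ht F p x = 0 := fun f => Iff.rfl
  have hrad : h ∈ J.radical := by
    rw [Ideal.radical_eq_sInf, Ideal.mem_sInf]
    rintro P ⟨hJP, hPprime⟩
    by_contra hhP
    let pt : X := (isAffineOpen_top X).fromSpec.base ⟨P, hPprime⟩
    have hmem : ∀ f : Γ(X, ⊤), pt ∈ X.basicOpen f ↔ f ∉ P := by
      intro f
      have e := (isAffineOpen_top X).fromSpec_preimage_basicOpen f
      have e' : (⟨P, hPprime⟩ : PrimeSpectrum Γ(X, ⊤)) ∈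
          (isAffineOpen_top X).fromSpec ⁻¹ᵁ X.basicOpen f ↔ pt ∈ X.basicOpen f := Iff.rfl
      have e2 : (⟨P, hPprime⟩ : PrimeSpectrum Γ(X, ⊤)) ∈
          (isAffineOpen_top X).fromSpec ⁻¹ᵁ X.basicOpen f ↔
          (⟨P, hPprime⟩ : PrimeSpectrum Γ(X, ⊤)) ∈ PrimeSpectrum.basicOpen f := by
        rw [e]
        exact Iff.rfl
      exact (e'.symm.trans e2).trans (PrimeSpectrum.mem_basicOpen f ⟨P, hPprime⟩)
    have hpt : pt ∈ X.basicOpen h := (hmem h).2 hhP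
    obtain ⟨U, hU, hptU, hres⟩ := local_vanish_rel hS (X.basicOpen h) F p hp x pt hpt
    obtain ⟨f, hfU, hptf⟩ := (isAffineOpen_top X).exists_basicOpen_le (V := U) ⟨pt, hptU⟩
      (TopologicalSpace.Opens.mem_top _)
    have hfJ : f ∈ J := by
      refine (hmemJ f).2 (fun t ht htf => ?_)
      exact (res_res (htf.trans hfU) hU F p x).symm.trans
        ((congrArg (res (htf.trans hfU) F p) hres).trans (res_zero _ F p))
    exact (hmem f).1 hptf (hJP hfJ)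
  obtain ⟨N, hN⟩ := Ideal.mem_radical_iff.1 hrad
  have hN1 : h ^ (N + 1) ∈ J := by
    rw [pow_succ']
    exact J.mul_mem_left h hN
  have h0 := (hmemJ _).1 hN1 h le_rfl (X.basicOpen_pow h (Nat.succ_pos N)).ge
  exact (res_refl (X.basicOpen h) F p x).symm.trans h0

end Step

section Top

theorem isIso_eps_of_eq_top (T : X.Opens) (hT : T = ⊤) : IsIso (MV.eps T.ι) := by
  subst hT
  haveI := MV.mono_eps (⊤ : X.Opens).ι
  have hS := MV.mvSC_shortExact (⊤ : X.Opens) ⊤ (sup_idem _)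
  haveI hE : Epi (biprod.desc (MV.eps (⊤ : X.Opens).ι) (MV.eps (⊤ : X.Opens).ι)) := hS.epi_g
  have e : biprod.desc (MV.eps (⊤ : X.Opens).ι) (MV.eps (⊤ : X.Opens).ι) =
      biprod.desc (𝟙 _) (𝟙 _) ≫ MV.eps (⊤ : X.Opens).ι := by
    apply biprod.hom_ext' <;> simp
  haveI : Epi (biprod.desc (𝟙 (MV.PP (⊤ : X.Opens).ι)) (𝟙 _) ≫ MV.eps (⊤ : X.Opens).ι) := by
    rw [← e]
    exact hE
  haveI : Epi (MV.eps (⊤ : X.Opens).ι) :=
    epi_of_epi (biprod.desc (𝟙 (MV.PP (⊤ : X.Opens).ι)) (𝟙 _)) _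
  exact isIso_of_mono_of_epi _

theorem subsingleton_H_of_top (T : X.Opens) (hT : T = ⊤) (F : EtCoh.Ab X) (q : ℕ)
    (h : Subsingleton (Ext.{u + 1} (MV.PP T.ι) F q)) : Subsingleton (EtCoh.H X F q) := by
  haveI := isIso_eps_of_eq_top T hT
  refine ⟨fun a b => ?_⟩
  have key : ∀ e : EtCoh.H X F q, e = (Ext.mk₀ (inv (MV.eps T.ι))).comp
      ((Ext.mk₀ (MV.eps T.ι)).comp e (zero_add q)) (zero_add q) := by
    intro e
    rw [Ext.mk₀_comp_mk₀_assoc, IsIso.inv_hom_id, Ext.mk₀_id_comp]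
  rw [key a, key b, h.elim ((Ext.mk₀ (MV.eps T.ι)).comp a (zero_add q))
    ((Ext.mk₀ (MV.eps T.ι)).comp b (zero_add q))]

end Top

section Main

/-- Gabber's criterion. -/
theorem gabber_main (X : Scheme.{u}) [IsAffine X]
    (hS : ∀ s : X, EtCoh.IsStrictlyHenselianLocalRing (X.presheaf.stalk s)) (F : EtCoh.Ab X)
    (hker : ∀ (f g : Γ(X, ⊤))
      (ξ : EtCoh.H ↑(X.basicOpen (f + g)) ((EtCoh.pull (X.basicOpen (f + g)).ι).obj F) 1),
      EtCore.HpullVia (X.homOfLE ((X.basicOpen_mul f (f + g)).trans_le inf_le_right))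
        (X.basicOpen (f + g)).ι (X.basicOpen (f * (f + g))).ι
        (X.homOfLE_ι ((X.basicOpen_mul f (f + g)).trans_le inf_le_right)) F 1 ξ = 0 →
      EtCore.HpullVia (X.homOfLE ((X.basicOpen_mul g (f + g)).trans_le inf_le_right))
        (X.basicOpen (f + g)).ι (X.basicOpen (g * (f + g))).ι
        (X.homOfLE_ι ((X.basicOpen_mul g (f + g)).trans_le inf_le_right)) F 1 ξ = 0 →
      ξ = 0)
    (q : ℕ) (hq : 1 ≤ q) : Subsingleton (EtCoh.H X F q) := by
  have K1 : ∀ (f g : Γ(X, ⊤)) (x : Ext.{u + 1} (MV.PP (X.basicOpen (f + g)).ι) F 1),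
      res ((X.basicOpen_mul f (f + g)).trans_le inf_le_right) F 1 x = 0 →
      res ((X.basicOpen_mul g (f + g)).trans_le inf_le_right) F 1 x = 0 → x = 0 := by
    intro f g x h1 h2
    apply (MV.rhoP_bijective (X.basicOpen (f + g)).ι F 1).1
    refine (hker f g (MV.rhoP (X.basicOpen (f + g)).ι F 1 x) ?_ ?_).trans
      (map_zero (MV.rhoP (X.basicOpen (f + g)).ι F 1)).symm
    · exact (MV.rhoP_iotaAbs _ _ _ _ F 1 x).trans
        ((congrArg (fun z => MV.rhoP (X.basicOpen (f * (f + g))).ι F 1 z) h1).trans (map_zero _))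
    · exact (MV.rhoP_iotaAbs _ _ _ _ F 1 x).trans
        ((congrArg (fun z => MV.rhoP (X.basicOpen (g * (f + g))).ι F 1 z) h2).trans (map_zero _))
  have key : ∀ (p : ℕ), 1 ≤ p → ∀ (h : Γ(X, ⊤)),
      Subsingleton (Ext.{u + 1} (MV.PP (X.basicOpen h).ι) F p) := by
    intro p
    induction p using Nat.strong_induction_on with
    | _ p ihp =>
      intro hp h
      have hz : ∀ x : Ext.{u + 1} (MV.PP (X.basicOpen h).ι) F p, x = 0 :=
        fun x => gabber_step hS F K1 p hp (fun h' q' hq1 hq2 => ihp q' hq2 hq1 h') h x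
      exact ⟨fun a b => (hz a).trans (hz b).symm⟩
  exact subsingleton_H_of_top (X.basicOpen (1 : Γ(X, ⊤))) X.basicOpen_one F q (key q hq 1)

end Main

end Groth.Agent.H4.Gabber
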