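import Mathlib
import Groth.Prelude.Def_EtCore
import Groth.Agent.H4.Transfer
import Groth.Agent.H4.LocVanish

/-!
# Gluing two copies of a scheme along an open, and surjectivity of restriction for
acyclic étale sheaves (helper4 library).

The pushout lemmas of the first section are adapted from helper89's `H89/LocImm7`.
-/

set_option autoImplicit false
open CategoryTheory CategoryTheory.Limits AlgebraicGeometry Opposite CategoryTheory.Abelian
universe u

namespace Groth.Agent.H4.GluePush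

open Groth.Agent.H4 Groth.Agent.H4.ExtTools Groth.Agent.H4.Tr

attribute [local instance] MV.pullExact

section Pushout

variable {W Y₁ Y₂ : Scheme.{u}} (g₁ : W ⟶ Y₁) (g₂ : W ⟶ Y₂) [IsOpenImmersion g₁]
  [IsOpenImmersion g₂]

instance span_isOpenImmersion : ∀ {i j : WalkingSpan} (f : i ⟶ j),
    IsOpenImmersion ((span g₁ g₂).map f) := by
  intro i j f
  change WidePushoutShape.Hom i j at f
  cases f with
  | id =>
    have : (span g₁ g₂).map (WidePushoutShape.Hom.id i) = 𝟙 _ := (span g₁ g₂).map_id i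
    rw [this]; infer_instance
  | init j =>
    cases j
    · show IsOpenImmersion g₁; infer_instance
    · show IsOpenImmersion g₂; infer_instance

instance hasPushout_of_isOpenImmersion : HasPushout g₁ g₂ := by
  show HasColimit (span g₁ g₂)
  infer_instance

instance isOpenImmersion_inl : IsOpenImmersion (pushout.inl g₁ g₂) := by
  show IsOpenImmersion (colimit.ι (span g₁ g₂) WalkingSpan.left)
  infer_instance

instance isOpenImmersion_inr : IsOpenImmersion (pushout.inr g₁ g₂) := by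
  show IsOpenImmersion (colimit.ι (span g₁ g₂) WalkingSpan.right)
  infer_instance

lemma inl_eq_inr_iff (y₁ : Y₁) (y₂ : Y₂) :
    pushout.inl g₁ g₂ y₁ = pushout.inr g₁ g₂ y₂ ↔ ∃ w : W, g₁ w = y₁ ∧ g₂ w = y₂ := by
  have := Scheme.IsLocallyDirected.ι_eq_ι_iff (span g₁ g₂) (i := WalkingSpan.left)
    (j := WalkingSpan.right) (xi := y₁) (xj := y₂)
  constructor
  · intro h
    obtain ⟨k, fi, fj, x, hx1, hx2⟩ := this.mp h
    change WidePushoutShape.Hom k WalkingSpan.left at fi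
    change WidePushoutShape.Hom k WalkingSpan.right at fj
    cases fi with
    | id => cases fj
    | init j =>
      cases fj
      exact ⟨x, hx1, hx2⟩
  · rintro ⟨w, rfl, rfl⟩
    rw [← Scheme.Hom.comp_apply, ← Scheme.Hom.comp_apply, pushout.condition]

lemma inl_or_inr (y : ↥(pushout g₁ g₂)) :
    (∃ y₁ : Y₁, pushout.inl g₁ g₂ y₁ = y) ∨ (∃ y₂ : Y₂, pushout.inr g₁ g₂ y₂ = y) := by
  obtain ⟨i, xi, h⟩ := Scheme.IsLocallyDirected.ι_jointly_surjective (span g₁ g₂) y
  match i, xi, h with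
  | none, xi, h =>
    left
    have hw : (span g₁ g₂).map WalkingSpan.Hom.fst ≫ colimit.ι (span g₁ g₂) WalkingSpan.left =
        colimit.ι (span g₁ g₂) WalkingSpan.zero := colimit.w _ _
    refine ⟨((span g₁ g₂).map WalkingSpan.Hom.fst) xi, ?_⟩
    rw [← h]
    show (pushout.inl g₁ g₂) (((span g₁ g₂).map WalkingSpan.Hom.fst) xi) =
      (colimit.ι (span g₁ g₂) WalkingSpan.zero) xi
    rw [← hw, Scheme.Hom.comp_apply]
    rfl
  | some WalkingPair.left, xi, h => exact Or.inl ⟨xi, h⟩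
  | some WalkingPair.right, xi, h => exact Or.inr ⟨xi, h⟩

end Pushout

section Glue

variable {V X : Scheme.{u}} (j : V ⟶ X) [IsOpenImmersion j]

/-- Two copies of `X` glued along the open `V`. -/
noncomputable abbrev TT : Scheme.{u} := pushout j j

/-- The fold map. -/
noncomputable def tt : TT j ⟶ X := pushout.desc (𝟙 X) (𝟙 X) rfl

theorem inl_tt : pushout.inl j j ≫ tt j = 𝟙 X := pushout.inl_desc _ _ _

theorem inr_tt : pushout.inr j j ≫ tt j = 𝟙 X := pushout.inr_desc _ _ _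

instance etale_tt : Etale (tt j) := by
  rw [IsZariskiLocalAtSource.iff_of_openCover (P := @Etale)
    (Scheme.IsLocallyDirected.openCover (span j j))]
  intro i
  have h : (Scheme.IsLocallyDirected.openCover (span j j)).f i ≫ tt j =
      (PushoutCocone.mk (𝟙 X) (𝟙 X) (rfl : j ≫ 𝟙 X = j ≫ 𝟙 X)).ι.app i := colimit.ι_desc _ _
  rw [h]
  rcases i with _ | _ | _
  · show Etale (j ≫ 𝟙 X)
    infer_instance
  · show Etale (𝟙 X)
    infer_instance
  · show Etale (𝟙 X)
    infer_instance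

/-- The glued scheme as an object of the small étale site of `X`. -/
noncomputable abbrev Y0 : X.Etale := (EtShriek.compEtale (tt j)).obj (EtCoh.top (TT j))

/-- The open `V` as an object of the small étale site of `X`. -/
noncomputable abbrev Vt : X.Etale := (EtShriek.compEtale j).obj (EtCoh.top V)

theorem Y0_hom : (Y0 j).hom = tt j := Category.id_comp _

theorem Vt_hom : (Vt j).hom = j := Category.id_comp _

noncomputable def q₁ : EtCoh.top X ⟶ Y0 j :=
  MorphismProperty.Over.homMk (pushout.inl j j)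
    ((congrArg (fun z => pushout.inl j j ≫ z) (Y0_hom j)).trans (inl_tt j)) trivial

noncomputable def q₂ : EtCoh.top X ⟶ Y0 j :=
  MorphismProperty.Over.homMk (pushout.inr j j)
    ((congrArg (fun z => pushout.inr j j ≫ z) (Y0_hom j)).trans (inr_tt j)) trivial

noncomputable def kk : Vt j ⟶ EtCoh.top X :=
  MorphismProperty.Over.homMk j ((Category.comp_id _).trans (Vt_hom j).symm) trivial

theorem kk_q : kk j ≫ q₁ j = kk j ≫ q₂ j := by
  apply MorphismProperty.Over.Hom.ext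
  exact (pushout.condition (f := j) (g := j))

theorem cover_mem :
    Sieve.ofArrows (fun _ : Bool => EtCoh.top X) (fun b => cond b (q₁ j) (q₂ j)) ∈
      X.smallEtaleTopology (Y0 j) := by
  apply mem_smallEtaleTopology_of_forall
  intro y
  rcases inl_or_inr j j y with ⟨x, hx⟩ | ⟨x, hx⟩
  · exact ⟨EtCoh.top X, q₁ j, x,
      Sieve.ofArrows_mk (fun _ : Bool => EtCoh.top X) (fun b => cond b (q₁ j) (q₂ j)) true, hx⟩
  · exact ⟨EtCoh.top X, q₂ j, x,
      Sieve.ofArrows_mk (fun _ : Bool => EtCoh.top X) (fun b => cond b (q₁ j) (q₂ j)) false, hx⟩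

theorem glue_unique (G : EtCoh.Ab X) {E : AddCommGrpCat.{u + 1}}
    (t t' : E ⟶ G.obj.obj (op (Y0 j)))
    (h₁ : t ≫ G.obj.map (q₁ j).op = t' ≫ G.obj.map (q₁ j).op)
    (h₂ : t ≫ G.obj.map (q₂ j).op = t' ≫ G.obj.map (q₂ j).op) : t = t' := by
  apply Presheaf.IsSheaf.hom_ext_ofArrows G.property (fun b : Bool => cond b (q₁ j) (q₂ j))
    (cover_mem j)
  intro b
  cases b
  · exact h₂
  · exact h₁

theorem glue_exists (G : EtCoh.Ab X) {E : AddCommGrpCat.{u + 1}}
    (t₁ t₂ : E ⟶ G.obj.obj (op (EtCoh.top X)))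
    (h : t₁ ≫ G.obj.map (kk j).op = t₂ ≫ G.obj.map (kk j).op) :
    ∃ t : E ⟶ G.obj.obj (op (Y0 j)),
      t ≫ G.obj.map (q₁ j).op = t₁ ∧ t ≫ G.obj.map (q₂ j).op = t₂ := by
  let x : ∀ _ : Bool, E ⟶ G.obj.obj (op (EtCoh.top X)) := fun b => cond b t₁ t₂
  have huniq : ∀ {W' : X.Etale} (a' b' : W' ⟶ EtCoh.top X), a' = b' :=
    fun a' b' => (EtCore.topIsTerminal X).hom_ext a' b'
  have hmix : ∀ {W' : X.Etale} (a' b' : W' ⟶ EtCoh.top X), a' ≫ q₁ j = b' ≫ q₂ j →
      t₁ ≫ G.obj.map a'.op = t₂ ≫ G.obj.map b'.op := by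
    intro W' a' b' hab
    have hab' : a'.left ≫ pushout.inl j j = b'.left ≫ pushout.inr j j :=
      congrArg (fun φ => φ.left) hab
    have hr : Set.range a'.left.base ⊆ Set.range j.base := by
      rintro _ ⟨w, rfl⟩
      have h0 : (pushout.inl j j).base (a'.left.base w) = (pushout.inr j j).base (b'.left.base w) :=
        congrArg (fun φ : W'.left ⟶ pushout j j => φ.base w) hab'
      obtain ⟨v, hv, -⟩ := (inl_eq_inr_iff j j (a'.left.base w) (b'.left.base w)).1 h0
      exact ⟨v, hv⟩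
    let r₀ : W'.left ⟶ V := IsOpenImmersion.lift j a'.left hr
    have hr₀ : r₀ ≫ j = a'.left := IsOpenImmersion.lift_fac _ _ _
    have hr₀' : r₀ ≫ j = W'.hom := by
      rw [hr₀]
      exact (Category.comp_id _).symm.trans (MorphismProperty.Over.w a')
    let r : W' ⟶ Vt j := MorphismProperty.Over.homMk r₀
      ((congrArg (fun z => r₀ ≫ z) (Vt_hom j)).trans hr₀') trivial
    have e1 : a' = r ≫ kk j := huniq _ _
    have e2 : b' = r ≫ kk j := huniq _ _
    rw [e1, e2, op_comp, Functor.map_comp, ← Category.assoc, ← Category.assoc, h]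
  have hx : ∀ ⦃W' : X.Etale⦄ ⦃i i' : Bool⦄ (a' : W' ⟶ EtCoh.top X) (b' : W' ⟶ EtCoh.top X),
      a' ≫ cond i (q₁ j) (q₂ j) = b' ≫ cond i' (q₁ j) (q₂ j) →
      x i ≫ G.obj.map a'.op = x i' ≫ G.obj.map b'.op := by
    intro W' i i' a' b' hab
    cases i <;> cases i'
    · rw [huniq a' b']
    · exact (hmix b' a' hab.symm).symm
    · exact hmix a' b' hab
    · rw [huniq a' b']
  obtain ⟨t, ht, -⟩ := Presheaf.IsSheaf.existsUnique_amalgamation_ofArrows G.property
    (fun b : Bool => cond b (q₁ j) (q₂ j)) (cover_mem j) x hx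
  exact ⟨t, ht true, ht false⟩

/-- If `H¹` of the glued scheme vanishes, restriction of sections from `X` to `V` is
surjective. -/
theorem surjective_of_subsingleton (F : EtCoh.Ab X)
    (hF : Subsingleton (EtCoh.H (TT j) ((EtCoh.pull (tt j)).obj F) 1)) :
    Function.Surjective (F.obj.map (kk j).op).hom := by
  let P₀ : EtCoh.Ab X := Tr.PP (tt j)
  let Z : EtCoh.Ab X := EtCoh.const X ℤ
  let η : MV.ZZ.{u} ⟶ Z.obj.obj (op (EtCoh.top X)) := (EtCore.constAdj X).unit.app MV.ZZ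
  have r₀ := Tr.isRep_P (tt j)
  have r₁ := MV.isRep_const X
  have r₃ := MV.isRep_P j
  obtain ⟨ε₁, hε₁⟩ := (r₁ P₀).2 (Tr.sigmaP (tt j) ≫ P₀.obj.map (q₁ j).op)
  obtain ⟨ε₂, hε₂⟩ := (r₁ P₀).2 (Tr.sigmaP (tt j) ≫ P₀.obj.map (q₂ j).op)
  obtain ⟨hz, hex, hepi⟩ := MV.rightExact_of_rep (q₁ j) (q₂ j) (kk j) (kk j) (kk_q j)
    (Tr.sigmaP (tt j)) η η (MV.sigmaP j) r₀ r₁ r₁ r₃ ε₁ ε₂ (MV.eps j) (MV.eps j) hε₁ hε₂
    (MV.sigmaP_eps j (kk j)) (MV.sigmaP_eps j (kk j))
    (fun G t t' h₁ h₂ => glue_unique j G t t' h₁ h₂)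
    (fun G t₁ t₂ h => glue_exists j G t₁ t₂ h)
  haveI := MV.mono_eps j
  haveI : Mono (biprod.lift (MV.eps j) (-MV.eps j)) := by
    haveI : Mono (biprod.lift (MV.eps j) (-MV.eps j) ≫ biprod.fst) := by
      rw [biprod.lift_fst]
      infer_instance
    exact mono_of_mono _ biprod.fst
  have hS : (ShortComplex.mk _ _ hz).ShortExact :=
    { exact := hex
      mono_f := inferInstanceAs (Mono (biprod.lift (MV.eps j) (-MV.eps j)))
      epi_g := hepi }
  haveI hsub : Subsingleton (Ext.{u + 1} P₀ F 1) :=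
    (Tr.rhoP_bijective (tt j) F 1).1.subsingleton
  intro s
  obtain ⟨φ, hφ⟩ := (r₃ F).2 (fromZZ s)
  have hφ' : MV.sigmaP j ≫ φ.hom.app (op (Vt j)) = fromZZ s := hφ
  have h0 : hS.extClass.comp (Ext.mk₀ φ : Ext.{u + 1} (MV.PP j) F 0) (rfl : 1 + 0 = 1) = 0 := by
    haveI : Subsingleton (Ext.{u + 1} (ShortComplex.mk _ _ hz).X₃ F 1) := hsub
    exact Subsingleton.elim _ _
  obtain ⟨x₂, hx₂⟩ := Ext.contravariant_sequence_exact₁ hS F
    (Ext.mk₀ φ : Ext.{u + 1} (MV.PP j) F 0) (rfl : 1 + 0 = 1) h0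
  obtain ⟨h, rfl⟩ := (Ext.mk₀_bijective _ _).2 x₂
  rw [Ext.mk₀_comp_mk₀] at hx₂
  have hφ2 : biprod.lift (MV.eps j) (-MV.eps j) ≫ h = φ := (Ext.mk₀_bijective _ _).1 hx₂
  let ψ : Z ⟶ F := biprod.inl ≫ h - biprod.inr ≫ h
  have hφ3 : φ = MV.eps j ≫ ψ := by
    rw [← hφ2]
    have e0 : h = biprod.desc (biprod.inl ≫ h) (biprod.inr ≫ h) := by
      apply biprod.hom_ext' <;> simp
    conv_lhs => rw [e0]
    rw [biprod.lift_desc, Preadditive.neg_comp, ← sub_eq_add_neg, ← Preadditive.comp_sub]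
  have key : (η ≫ ψ.hom.app (op (EtCoh.top X))) ≫ F.obj.map (kk j).op = fromZZ s := by
    have hn := ψ.hom.naturality (kk j).op
    have h1 : MV.sigmaP j ≫ (MV.eps j ≫ ψ).hom.app (op (Vt j)) =
        (MV.sigmaP j ≫ (MV.eps j).hom.app (op (Vt j))) ≫ ψ.hom.app (op (Vt j)) := by
      rw [ObjectProperty.FullSubcategory.comp_hom, NatTrans.comp_app, Category.assoc]
    rw [← hφ', hφ3, h1, MV.sigmaP_eps j (kk j), Category.assoc, Category.assoc, hn]
  refine ⟨(η ≫ ψ.hom.app (op (EtCoh.top X))).hom ⟨1⟩, ?_⟩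
  have h2 := congrArg (fun q => q.hom ⟨1⟩) key
  exact h2.trans (fromZZ_one s)

end Glue

end Groth.Agent.H4.GluePush
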