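import Mathlib
import Groth.Prelude.Def_DDual2

/-!
# (FAITH) of helper46's S11187 squad: tensoring with an invertible module detects zero modules
-/

set_option autoImplicit false
universe u
open CategoryTheory Limits MonoidalCategory
attribute [local instance] HasDerivedCategory.standard

namespace Groth.Agent.H4.Inv2_FAITH

theorem FAITH (A : Type u) [CommRing A] (M P : Type u) [AddCommGroup M] [Module A M]
    [AddCommGroup P] [Module A P] [Module.Invertible A P] :
    Subsingleton (TensorProduct A M P) ↔ Subsingleton M := by
  constructor
  · intro h
    let e : M ≃ₗ[A] TensorProduct A (TensorProduct A M P) (Module.Dual A P) :=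
      (TensorProduct.rid A M).symm ≪≫ₗ
      (LinearEquiv.lTensor M ((TensorProduct.comm A P (Module.Dual A P)) ≪≫ₗ
        Module.Invertible.linearEquiv A P)).symm ≪≫ₗ
      (TensorProduct.assoc A M P (Module.Dual A P)).symm
    have h0 : ∀ z : TensorProduct A (TensorProduct A M P) (Module.Dual A P), z = 0 := by
      intro z
      induction z using TensorProduct.induction_on with
      | zero => rfl
      | tmul m p => rw [Subsingleton.elim m 0, TensorProduct.zero_tmul]
      | add a b ha hb => rw [ha, hb, add_zero]
    constructor
    intro x y
    apply e.injective
    rw [h0 (e x), h0 (e y)]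
  · intro h
    have h0 : ∀ z : TensorProduct A M P, z = 0 := by
      intro z
      induction z using TensorProduct.induction_on with
      | zero => rfl
      | tmul m p => rw [Subsingleton.elim m 0, TensorProduct.zero_tmul]
      | add a b ha hb => rw [ha, hb, add_zero]
    constructor
    intro x y
    rw [h0 x, h0 y]

end Groth.Agent.H4.Inv2_FAITH
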