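import Mathlib
import Groth.Prelude.Def_EtGm
import Groth.Agent.H4.GeomPoints

/-!
Etale neighbourhoods obtained by adjoining a root of a monic polynomial with invertible derivative
(standard etale algebras with trivial localisation), and the resulting criterion for epimorphisms of
abelian etale sheaves.
-/

set_option autoImplicit false
open CategoryTheory CategoryTheory.Limits AlgebraicGeometry Opposite Polynomial
universe u

namespace Groth.Agent.H4

/-- The spectrum of a standard etale algebra `A[X]/(f)` with `f` monic nonconstant surjects onto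
`Spec A`. -/
theorem exists_prime_over_standardEtale {A : Type u} [CommRing A] (P : StandardEtalePair A)
    (hg : P.g = 1) (hdeg : P.f.natDegree ≠ 0) (p : PrimeSpectrum A) :
    ∃ q : PrimeSpectrum P.Ring, PrimeSpectrum.comap (algebraMap A P.Ring) q = p := by
  let L := AlgebraicClosure p.asIdeal.ResidueField
  let ι : A →+* L :=
    (algebraMap p.asIdeal.ResidueField L).comp (algebraMap A p.asIdeal.ResidueField)
  letI : Algebra A L := ι.toAlgebra
  have hmonic : (P.f.map ι).Monic := P.monic_f.map ι
  have hdeg' : (P.f.map ι).degree ≠ 0 := by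
    intro h0
    have h1 : (P.f.map ι).natDegree = 0 := natDegree_eq_zero_iff_degree_le_zero.2 h0.le
    rw [P.monic_f.natDegree_map ι] at h1
    exact hdeg h1
  obtain ⟨x, hx⟩ := IsAlgClosed.exists_root (P.f.map ι) hdeg'
  have hmap : P.HasMap x := by
    refine ⟨?_, ?_⟩
    · have h2 : aeval x P.f = eval x (P.f.map ι) := by
        rw [aeval_def, Polynomial.eval_map]
        rfl
      rw [h2]
      exact hx
    · rw [hg]
      simp
  let ψ : P.Ring →ₐ[A] L := P.lift x hmap
  refine ⟨⟨RingHom.ker ψ.toRingHom, RingHom.ker_isPrime _⟩, ?_⟩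
  apply PrimeSpectrum.ext
  ext a
  have h3 : ψ.toRingHom (algebraMap A P.Ring a) = ι a := ψ.commutes a
  have h4 : ι a = 0 ↔ a ∈ p.asIdeal := by
    have h5 : ι a = algebraMap p.asIdeal.ResidueField L (algebraMap A p.asIdeal.ResidueField a) :=
      rfl
    rw [h5, map_eq_zero_iff _ (algebraMap p.asIdeal.ResidueField L).injective,
      Ideal.algebraMap_residueField_eq_zero]
  show algebraMap A P.Ring a ∈ RingHom.ker ψ.toRingHom ↔ a ∈ p.asIdeal
  rw [RingHom.mem_ker, h3, h4]

/-- An etale neighbourhood on which a monic polynomial with invertible derivative acquires a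
root. -/
theorem exists_nbhd_of_pair {X : Scheme.{u}} (U : X.Etale) (A : CommRingCat.{u})
    (j : Spec A ⟶ U.left) [IsOpenImmersion j] (y : Spec A) (P : StandardEtalePair A)
    (hg : P.g = 1) (hdeg : P.f.natDegree ≠ 0) :
    ∃ (V : X.Etale) (g : V ⟶ U) (v : V.left) (e : Γ(V.left, ⊤) ≅ CommRingCat.of P.Ring),
      g.left.base v = j.base y ∧
      g.left.appTop ≫ e.hom =
        j.appTop ≫ (Scheme.ΓSpecIso A).hom ≫ CommRingCat.ofHom (algebraMap A P.Ring) := by
  let φ : A ⟶ CommRingCat.of P.Ring := CommRingCat.ofHom (algebraMap A P.Ring)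
  haveI : Etale (Spec.map φ) := by
    refine (HasRingHomProperty.Spec_iff (P := @Etale)).2 ?_
    show (algebraMap A P.Ring).Etale
    exact RingHom.etale_algebraMap.2 inferInstance
  haveI : Etale U.hom := U.prop
  let V : X.Etale := Scheme.Etale.mk ((Spec.map φ ≫ j) ≫ U.hom)
  let g : V ⟶ U := MorphismProperty.Over.homMk (Spec.map φ ≫ j) rfl trivial
  obtain ⟨q, hq⟩ := exists_prime_over_standardEtale P hg hdeg y
  refine ⟨V, g, q, Scheme.ΓSpecIso (CommRingCat.of P.Ring), ?_, ?_⟩
  · show (Spec.map φ ≫ j).base q = j.base y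
    rw [Scheme.Hom.comp_apply]
    exact congrArg j.base hq
  · show (Spec.map φ ≫ j).appTop ≫ (Scheme.ΓSpecIso (CommRingCat.of P.Ring)).hom = _
    rw [Scheme.Hom.comp_appTop, Category.assoc, Scheme.ΓSpecIso_naturality]

/-- A morphism of abelian etale sheaves is an epimorphism as soon as every section of the target
lifts etale-locally around every point. -/
theorem epi_of_local_lift {X : Scheme.{u}} {F G : EtCoh.Ab X} (φ : F ⟶ G)
    (h : ∀ (U : X.Etale) (t : G.obj.obj (op U)) (x : U.left),
      ∃ (V : X.Etale) (g : V ⟶ U) (v : V.left), g.left.base v = x ∧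
        ∃ s : F.obj.obj (op V), φ.hom.app (op V) s = G.obj.map g.op t) : Epi φ := by
  haveI : Sheaf.IsLocallySurjective φ := by
    constructor
    intro U t
    apply mem_smallEtaleTopology_of_forall
    intro x
    obtain ⟨V, g, v, hv, s, hs⟩ := h U t x
    exact ⟨V, g, v, ⟨s, hs⟩, hv⟩
  exact (Sheaf.isLocallySurjective_iff_epi' _ φ).1 inferInstance

theorem nsmul_hom_app {X : Scheme.{u}} {F G : EtCoh.Ab X} (f : F ⟶ G) (n : ℕ)
    (V : X.Etaleᵒᵖ) (s : F.obj.obj V) : (n • f).hom.app V s = n • f.hom.app V s := by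
  induction n with
  | zero =>
    rw [zero_nsmul, zero_nsmul]
    rfl
  | succ k ih =>
    rw [succ_nsmul, succ_nsmul, Sheaf.Hom.add_app]
    show (k • f).hom.app V s + f.hom.app V s = _
    rw [ih]

end Groth.Agent.H4
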