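import Mathlib

/-!
# (LEN) of helper7's S14471 squad: length of `M ⧸ (m)` for `M` free of rank one over a DVR
-/

set_option autoImplicit false
universe u

namespace Groth.Agent.H4.LSO_LEN

/-- (LEN) length of `M ⧸ (m)` for `M` free of rank one over a DVR. -/
theorem length_quotient_span_eq_addVal {O M : Type u} [CommRing O] [IsDomain O]
    [IsDiscreteValuationRing O] [AddCommGroup M] [Module O M] (e : M ≃ₗ[O] O) (m : M) :
    Module.length O (M ⧸ Submodule.span O {m}) = IsDiscreteValuationRing.addVal O (e m) := by
  rw [← Ring.ord_eq_addVal]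
  have h : (Submodule.span O {m}).map (e : M →ₗ[O] O) = Ideal.span {e m} := by
    rw [Submodule.map_span, Set.image_singleton]
    rfl
  exact (Submodule.Quotient.equiv _ _ e h).length_eq

end Groth.Agent.H4.LSO_LEN
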