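import Mathlib
import Groth.Prelude.Def_ProEtW

/-!
# Étale retractions pass to localizations along specializing sets (helper4 library)

Let `A` be a ring all of whose faithfully flat étale algebras have retractions, `I ⊆ A` an ideal and
`B = S⁻¹A` a localization whose spectrum is the set of points specializing into `V(I)`.  Then every
faithfully flat étale `B`-algebra has a retraction.
-/

set_option autoImplicit false
open TensorProduct
universe u

namespace Groth.Agent.H4.LocRetract

section Fam

variable (X Y : Type u)

/-- The family `true ↦ X`, `false ↦ Y`. -/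
def Fam : Bool → Type u := fun b => cond b X Y

instance famCommRing [CommRing X] [CommRing Y] : ∀ b, CommRing (Fam X Y b)
  | true => inferInstanceAs (CommRing X)
  | false => inferInstanceAs (CommRing Y)

instance famAlgebra {R : Type u} [CommRing R] [CommRing X] [CommRing Y] [Algebra R X]
    [Algebra R Y] : ∀ b, Algebra R (Fam X Y b)
  | true => inferInstanceAs (Algebra R X)
  | false => inferInstanceAs (Algebra R Y)

theorem famEtale {R : Type u} [CommRing R] [CommRing X] [CommRing Y] [Algebra R X]
    [Algebra R Y] [Algebra.Etale R X] [Algebra.Etale R Y] : ∀ b, Algebra.Etale R (Fam X Y b)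
  | true => inferInstanceAs (Algebra.Etale R X)
  | false => inferInstanceAs (Algebra.Etale R Y)

end Fam

section Core

variable (A B : Type u) [CommRing A] [CommRing B] [Algebra A B]

theorem core (I : Ideal A) (hA : ProEtW.HasEtaleRetractions A)
    (hB' : ∀ P : PrimeSpectrum B, ∃ z : PrimeSpectrum A, I ≤ z.asIdeal ∧
      (PrimeSpectrum.comap (algebraMap A B) P).asIdeal ≤ z.asIdeal)
    (F : Bool → Type u) [∀ b, CommRing (F b)] [∀ b, Algebra A (F b)]
    (het : ∀ b, Algebra.Etale A (F b)) (g : A) (hgI : g ∈ I)
    (hgu : IsUnit (algebraMap A (F false) g))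
    (hsurj : ∀ p : PrimeSpectrum A,
      (∃ q : PrimeSpectrum (F true), PrimeSpectrum.comap (algebraMap A (F true)) q = p) ∨
      (∃ q : PrimeSpectrum (F false), PrimeSpectrum.comap (algebraMap A (F false)) q = p)) :
    ∃ ρ₁ : F true →+* B, ∀ a, ρ₁ (algebraMap A (F true) a) = algebraMap A B a := by
  classical
  haveI : ∀ b, Algebra.Etale A (F b) := het
  haveI hetP : Algebra.Etale A (Π b, F b) := inferInstance
  haveI : Module.Flat A (Π b, F b) := inferInstance
  have hff : Module.FaithfullyFlat A (Π b, F b) := by
    apply Module.FaithfullyFlat.of_comap_surjective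
    intro p
    rcases hsurj p with ⟨q, hq⟩ | ⟨q, hq⟩
    · refine ⟨PrimeSpectrum.comap (Pi.evalRingHom F true) q, ?_⟩
      apply PrimeSpectrum.ext
      ext a
      show algebraMap A (Π b, F b) a ∈ Ideal.comap (Pi.evalRingHom F true) q.asIdeal ↔
        a ∈ p.asIdeal
      rw [← hq]
      rfl
    · refine ⟨PrimeSpectrum.comap (Pi.evalRingHom F false) q, ?_⟩
      apply PrimeSpectrum.ext
      ext a
      show algebraMap A (Π b, F b) a ∈ Ideal.comap (Pi.evalRingHom F false) q.asIdeal ↔
        a ∈ p.asIdeal
      rw [← hq]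
      rfl
  obtain ⟨σ⟩ := hA (Π b, F b) hff hetP
  have hsum : σ (Pi.single true 1) + σ (Pi.single false 1) = 1 := by
    rw [← map_add, ← map_one σ]
    congr 1
    funext b
    cases b <;> simp
  have he_false : σ (Pi.single false 1) ∈ I := by
    obtain ⟨v, hv⟩ := hgu.exists_right_inv
    have h1 : (Pi.single false (1 : F false) : Π b, F b) = g • Pi.single false v := by
      rw [← Pi.single_smul, Algebra.smul_def, hv]
    rw [h1, map_smul, smul_eq_mul]
    exact I.mul_mem_right _ hgI
  have hidem : σ (Pi.single true 1) * σ (Pi.single true 1) = σ (Pi.single true 1) := by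
    rw [← map_mul, ← Pi.single_mul, one_mul]
  have hunit : IsUnit (algebraMap A B (σ (Pi.single true 1))) := by
    by_contra hnu
    obtain ⟨m, hm, ham⟩ := exists_max_ideal_of_mem_nonunits (mem_nonunits_iff.2 hnu)
    obtain ⟨z, hIz, hpz⟩ := hB' ⟨m, hm.isPrime⟩
    have h1 : σ (Pi.single true 1) ∈ z.asIdeal := hpz ham
    have h2 : σ (Pi.single false 1) ∈ z.asIdeal := hIz he_false
    have h3 : (1 : A) ∈ z.asIdeal := hsum ▸ z.asIdeal.add_mem h1 h2
    exact z.isPrime.ne_top ((Ideal.eq_top_iff_one _).2 h3)
  have hone : algebraMap A B (σ (Pi.single true 1)) = 1 := by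
    have h := congrArg (algebraMap A B) hidem
    rw [map_mul] at h
    exact hunit.mul_left_cancel (h.trans (mul_one _).symm)
  refine ⟨{ toFun := fun x => algebraMap A B (σ (Pi.single true x))
            map_one' := hone
            map_mul' := fun x y => by rw [Pi.single_mul, map_mul, map_mul]
            map_zero' := by rw [Pi.single_zero, map_zero, map_zero]
            map_add' := fun x y => by rw [Pi.single_add, map_add, map_add] }, fun a => ?_⟩
  show algebraMap A B (σ (Pi.single true (algebraMap A (F true) a))) = algebraMap A B a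
  have h1 : (Pi.single true (algebraMap A (F true) a) : Π b, F b) =
      a • Pi.single true (1 : F true) := by
    rw [← Pi.single_smul, Algebra.smul_def, mul_one]
  rw [h1, map_smul, smul_eq_mul, map_mul, hone, mul_one]

end Core

section Descent

variable (A B : Type u) [CommRing A] [CommRing B] [Algebra A B]

theorem descent (S : Submonoid A) [IsLocalization S B] (C : Type u) [CommRing C] [Algebra B C] [Algebra.FinitePresentation B C]
    [Algebra A C] [IsScalarTower A B C] :
    ∃ (D : Type u) (_ : CommRing D) (_ : Algebra A D), Algebra.FinitePresentation A D ∧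
      Nonempty (B ⊗[A] D ≃ₐ[B] C) := by
  classical
  let P := Algebra.Presentation.ofFinitePresentation B C
  obtain ⟨s, hs⟩ := IsLocalization.exist_integer_multiples_of_finset S P.finite_coeffs.toFinset
  have hu : IsUnit (algebraMap A B s) := IsLocalization.map_units B s
  let P' : Algebra.Presentation B C _ _ :=
    { toGenerators := P.toGenerators
      relation := fun j => MvPolynomial.C (algebraMap A B s) * P.relation j
      span_range_relation_eq_ker := by
        rw [← P.span_range_relation_eq_ker]
        apply le_antisymm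
        · rw [Ideal.span_le]
          rintro _ ⟨j, rfl⟩
          exact Ideal.mul_mem_left _ _ (Ideal.subset_span ⟨j, rfl⟩)
        · rw [Ideal.span_le]
          rintro _ ⟨j, rfl⟩
          have h1 : P.relation j = MvPolynomial.C (↑(hu.unit⁻¹) : B) *
              (MvPolynomial.C (algebraMap A B s) * P.relation j) := by
            rw [← mul_assoc, ← MvPolynomial.C_mul, IsUnit.val_inv_mul, MvPolynomial.C_1, one_mul]
          rw [h1]
          exact Ideal.mul_mem_left _ _ (Ideal.subset_span ⟨j, rfl⟩) }
  haveI : P'.HasCoeffs A :=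
    ⟨by
      intro x hx
      obtain ⟨j, hj⟩ := Set.mem_iUnion.1 hx
      obtain ⟨m, -, rfl⟩ := MvPolynomial.mem_coeffs_iff.1 (Finset.mem_coe.1 hj)
      show MvPolynomial.coeff m (MvPolynomial.C (algebraMap A B s) * P.relation j) ∈
        Set.range (algebraMap A B)
      rw [MvPolynomial.coeff_C_mul]
      by_cases h0 : MvPolynomial.coeff m (P.relation j) = 0
      · rw [h0, mul_zero]
        exact ⟨0, map_zero _⟩
      · have hmem : MvPolynomial.coeff m (P.relation j) ∈ P.finite_coeffs.toFinset := by
          rw [Set.Finite.mem_toFinset]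
          exact P.coeffs_relation_subset_coeffs j
            (Finset.mem_coe.2 (MvPolynomial.coeff_mem_coeffs m h0))
        obtain ⟨a, ha⟩ := hs _ hmem
        exact ⟨a, ha.trans (Algebra.smul_def _ _)⟩⟩
  exact ⟨P'.ModelOfHasCoeffs A, inferInstance, inferInstance, inferInstance,
    ⟨P'.tensorModelOfHasCoeffsEquiv A⟩⟩

end Descent

section Main

attribute [local instance] Algebra.TensorProduct.rightAlgebra

variable (A B : Type u) [CommRing A] [CommRing B] [Algebra A B]

theorem main (S : Submonoid A) [IsLocalization S B] (I : Ideal A)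
    (hB : Set.range (PrimeSpectrum.comap (algebraMap A B)) =
      {x | ∃ z : PrimeSpectrum A, z ∈ PrimeSpectrum.zeroLocus (R := A) I ∧ x ⤳ z})
    (hA : ProEtW.HasEtaleRetractions A)
    (D : Type u) [CommRing D] [Algebra A D] [Algebra.FinitePresentation A D]
    [Algebra.Etale B (B ⊗[A] D)] [Module.FaithfullyFlat B (B ⊗[A] D)] :
    Nonempty (B ⊗[A] D →ₐ[B] B) := by
  classical
  haveI hloc : IsLocalization (Algebra.algebraMapSubmonoid D S) (B ⊗[A] D) := inferInstance
  have hB' : ∀ P : PrimeSpectrum B, ∃ z : PrimeSpectrum A, I ≤ z.asIdeal ∧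
      (PrimeSpectrum.comap (algebraMap A B) P).asIdeal ≤ z.asIdeal := by
    intro P
    have hP : PrimeSpectrum.comap (algebraMap A B) P ∈
        Set.range (PrimeSpectrum.comap (algebraMap A B)) := ⟨P, rfl⟩
    rw [hB] at hP
    obtain ⟨z, hz, hs⟩ := hP
    exact ⟨z, fun a ha => hz ha, (PrimeSpectrum.le_iff_specializes _ _).2 hs⟩
  -- the étale locus of `D` over `A` contains the image of `Spec (B ⊗ D)`
  have hE1 : ∀ Q : PrimeSpectrum (B ⊗[A] D),
      PrimeSpectrum.comap (algebraMap D (B ⊗[A] D)) Q ∈ Algebra.etaleLocus A D := by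
    intro Q
    have hl : IsLocalization.AtPrime (Localization.AtPrime Q.asIdeal)
        (PrimeSpectrum.comap (algebraMap D (B ⊗[A] D)) Q).asIdeal :=
      IsLocalization.isLocalization_isLocalization_atPrime_isLocalization
        (Algebra.algebraMapSubmonoid D S) _ Q.asIdeal
    haveI : Algebra.FormallyEtale A B := Algebra.FormallyEtale.of_isLocalization S
    haveI : Algebra.FormallyEtale A (B ⊗[A] D) := Algebra.FormallyEtale.comp A B _
    haveI : Algebra.FormallyEtale A (Localization.AtPrime Q.asIdeal) := inferInstance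
    show Algebra.FormallyEtale A (Localization.AtPrime
      (PrimeSpectrum.comap (algebraMap D (B ⊗[A] D)) Q).asIdeal)
    exact (Algebra.FormallyEtale.iff_of_equiv
      ((IsLocalization.algEquiv
        (PrimeSpectrum.comap (algebraMap D (B ⊗[A] D)) Q).asIdeal.primeCompl
        (Localization.AtPrime (PrimeSpectrum.comap (algebraMap D (B ⊗[A] D)) Q).asIdeal)
        (Localization.AtPrime Q.asIdeal)).restrictScalars A)).2 inferInstance
  -- an element of `S` whose basic open lies in the étale locus
  have hopen : IsOpen (Algebra.etaleLocus A D) := Algebra.isOpen_etaleLocus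
  have hJ : PrimeSpectrum.zeroLocus
      ((PrimeSpectrum.vanishingIdeal (Algebra.etaleLocus A D)ᶜ : Ideal D) : Set D) =
      (Algebra.etaleLocus A D)ᶜ := by
    rw [PrimeSpectrum.zeroLocus_vanishingIdeal_eq_closure, hopen.isClosed_compl.closure_eq]
  have hnd : ¬ Disjoint
      ((PrimeSpectrum.vanishingIdeal (Algebra.etaleLocus A D)ᶜ : Ideal D) : Set D)
      (Algebra.algebraMapSubmonoid D S : Set D) := by
    intro hd
    obtain ⟨q, hq, hJq, hqM⟩ := Ideal.exists_le_prime_disjoint _ _ hd
    have h1 : (⟨q, hq⟩ : PrimeSpectrum D) ∈ (Algebra.etaleLocus A D)ᶜ := by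
      rw [← hJ]
      exact hJq
    apply h1
    have hprime : (Ideal.map (algebraMap D (B ⊗[A] D)) q).IsPrime :=
      IsLocalization.isPrime_of_isPrime_disjoint (Algebra.algebraMapSubmonoid D S) _ q hq hqM.symm
    have hcm : Ideal.comap (algebraMap D (B ⊗[A] D)) (Ideal.map (algebraMap D (B ⊗[A] D)) q) = q :=
      IsLocalization.under_map_of_isPrime_disjoint (Algebra.algebraMapSubmonoid D S) _ hq hqM.symm
    have h2 := hE1 ⟨_, hprime⟩
    have h3 : PrimeSpectrum.comap (algebraMap D (B ⊗[A] D)) ⟨_, hprime⟩ = ⟨q, hq⟩ :=
      PrimeSpectrum.ext hcm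
    rw [h3] at h2
    exact h2
  obtain ⟨m, hmJ, hmM⟩ := Set.not_disjoint_iff.1 hnd
  obtain ⟨s, hs, rfl⟩ := hmM
  have hsub : (↑(PrimeSpectrum.basicOpen (algebraMap A D s)) : Set (PrimeSpectrum D)) ⊆
      Algebra.etaleLocus A D := by
    intro q hq
    by_contra hn
    have h1 : q ∈ PrimeSpectrum.zeroLocus
        ((PrimeSpectrum.vanishingIdeal (Algebra.etaleLocus A D)ᶜ : Ideal D) : Set D) := by
      rw [hJ]
      exact hn
    exact hq (h1 hmJ)
  haveI hetDm : Algebra.Etale A (Localization.Away (algebraMap A D s)) :=
    Algebra.basicOpen_subset_etaleLocus_iff_etale.1 hsub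
  -- the image of `Spec B` lies in the image of `Spec Dm`
  have hW : Set.range (PrimeSpectrum.comap (algebraMap A B)) ⊆
      Set.range (PrimeSpectrum.comap (algebraMap A (Localization.Away (algebraMap A D s)))) := by
    rintro _ ⟨P, rfl⟩
    obtain ⟨Q, hQ⟩ := PrimeSpectrum.comap_surjective_of_faithfullyFlat (A := B) (B := B ⊗[A] D) P
    have hsu : IsUnit (algebraMap D (B ⊗[A] D) (algebraMap A D s)) :=
      IsLocalization.map_units (B ⊗[A] D)
        (⟨algebraMap A D s, ⟨s, hs, rfl⟩⟩ : Algebra.algebraMapSubmonoid D S)
    have hq : PrimeSpectrum.comap (algebraMap D (B ⊗[A] D)) Q ∈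
        Set.range (PrimeSpectrum.comap
          (algebraMap D (Localization.Away (algebraMap A D s)))) := by
      rw [PrimeSpectrum.localization_away_comap_range _ (algebraMap A D s)]
      intro hmem
      exact Q.isPrime.ne_top (Ideal.eq_top_of_isUnit_mem _ hmem hsu)
    obtain ⟨q', hq'⟩ := hq
    refine ⟨q', ?_⟩
    apply PrimeSpectrum.ext
    ext a
    have e1 : a ∈ (PrimeSpectrum.comap
        (algebraMap A (Localization.Away (algebraMap A D s))) q').asIdeal ↔
        algebraMap A D a ∈ (PrimeSpectrum.comap
          (algebraMap D (Localization.Away (algebraMap A D s))) q').asIdeal := by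
      show algebraMap A (Localization.Away (algebraMap A D s)) a ∈ q'.asIdeal ↔
        algebraMap D (Localization.Away (algebraMap A D s)) (algebraMap A D a) ∈ q'.asIdeal
      rw [← IsScalarTower.algebraMap_apply]
    rw [e1, hq', ← hQ]
    show algebraMap D (B ⊗[A] D) (algebraMap A D a) ∈ Q.asIdeal ↔
      algebraMap B (B ⊗[A] D) (algebraMap A B a) ∈ Q.asIdeal
    rw [← IsScalarTower.algebraMap_apply, ← IsScalarTower.algebraMap_apply]
  -- the complement of the image of `Spec Dm` is disjoint from `V(I)`
  have hWo : IsOpen (Set.range (PrimeSpectrum.comap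
      (algebraMap A (Localization.Away (algebraMap A D s))))) :=
    (PrimeSpectrum.isOpenMap_comap_of_hasGoingDown_of_finitePresentation (R := A)
      (S := Localization.Away (algebraMap A D s))).isOpen_range
  have hK : PrimeSpectrum.zeroLocus ((PrimeSpectrum.vanishingIdeal
      (Set.range (PrimeSpectrum.comap
        (algebraMap A (Localization.Away (algebraMap A D s)))))ᶜ : Ideal A) : Set A) =
      (Set.range (PrimeSpectrum.comap
        (algebraMap A (Localization.Away (algebraMap A D s)))))ᶜ := by
    rw [PrimeSpectrum.zeroLocus_vanishingIdeal_eq_closure, hWo.isClosed_compl.closure_eq]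
  have hKI : PrimeSpectrum.vanishingIdeal
      (Set.range (PrimeSpectrum.comap
        (algebraMap A (Localization.Away (algebraMap A D s)))))ᶜ ⊔ I = ⊤ := by
    rw [← PrimeSpectrum.zeroLocus_empty_iff_eq_top, PrimeSpectrum.zeroLocus_sup, hK,
      Set.eq_empty_iff_forall_notMem]
    rintro z ⟨hzW, hzI⟩
    apply hzW
    apply hW
    rw [hB]
    exact ⟨z, hzI, specializes_rfl⟩
  obtain ⟨k, hk, g, hg, hkg⟩ := Submodule.mem_sup.1 ((Ideal.eq_top_iff_one _).1 hKI)
  have hsurj : ∀ p : PrimeSpectrum A,
      (∃ q : PrimeSpectrum (Localization.Away (algebraMap A D s)),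
        PrimeSpectrum.comap (algebraMap A (Localization.Away (algebraMap A D s))) q = p) ∨
      (∃ q : PrimeSpectrum (Localization.Away g),
        PrimeSpectrum.comap (algebraMap A (Localization.Away g)) q = p) := by
    intro p
    by_cases hp : p ∈ Set.range (PrimeSpectrum.comap
        (algebraMap A (Localization.Away (algebraMap A D s))))
    · exact Or.inl hp
    · right
      have hkp : k ∈ p.asIdeal := by
        have h1 : p ∈ PrimeSpectrum.zeroLocus ((PrimeSpectrum.vanishingIdeal
            (Set.range (PrimeSpectrum.comap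
              (algebraMap A (Localization.Away (algebraMap A D s)))))ᶜ : Ideal A) : Set A) := by
          rw [hK]
          exact hp
        exact h1 hk
      have hgp : g ∉ p.asIdeal := by
        intro hgp
        have h1 : (1 : A) ∈ p.asIdeal := hkg ▸ p.asIdeal.add_mem hkp hgp
        exact p.isPrime.ne_top ((Ideal.eq_top_iff_one _).2 h1)
      have hr : p ∈ Set.range (PrimeSpectrum.comap (algebraMap A (Localization.Away g))) := by
        rw [PrimeSpectrum.localization_away_comap_range _ g]
        exact hgp
      exact hr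
  obtain ⟨ρ₁, hρ₁⟩ := core A B I hA hB'
    (Fam (Localization.Away (algebraMap A D s)) (Localization.Away g))
    (famEtale _ _) g hg
    (show IsUnit (algebraMap A (Localization.Away g) g) from
      IsLocalization.Away.algebraMap_isUnit g) hsurj
  -- the induced map on the localization
  let ρ₀ : D →+* B := (ρ₁ : Localization.Away (algebraMap A D s) →+* B).comp
    (algebraMap D (Localization.Away (algebraMap A D s)))
  have hρ₀ : ∀ a : A, ρ₀ (algebraMap A D a) = algebraMap A B a := by
    intro a
    show ρ₁ (algebraMap D (Localization.Away (algebraMap A D s)) (algebraMap A D a)) = _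
    rw [← IsScalarTower.algebraMap_apply]
    exact hρ₁ a
  have hunits : ∀ y : Algebra.algebraMapSubmonoid D S, IsUnit (ρ₀ y) := by
    rintro ⟨_, ⟨s', hs', rfl⟩⟩
    show IsUnit (ρ₀ (algebraMap A D s'))
    rw [hρ₀]
    exact IsLocalization.map_units B (⟨s', hs'⟩ : S)
  let ρ : B ⊗[A] D →+* B := IsLocalization.lift (M := Algebra.algebraMapSubmonoid D S) hunits
  have hid : ρ.comp (algebraMap B (B ⊗[A] D)) = RingHom.id B := by
    apply IsLocalization.ringHom_ext S
    apply RingHom.ext
    intro a
    show ρ (algebraMap B (B ⊗[A] D) (algebraMap A B a)) = algebraMap A B a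
    have e1 : algebraMap B (B ⊗[A] D) (algebraMap A B a) =
        algebraMap D (B ⊗[A] D) (algebraMap A D a) :=
      (IsScalarTower.algebraMap_apply A B (B ⊗[A] D) a).symm.trans
        (IsScalarTower.algebraMap_apply A D (B ⊗[A] D) a)
    rw [e1]
    exact (IsLocalization.lift_eq hunits (algebraMap A D a)).trans (hρ₀ a)
  exact ⟨{ ρ with commutes' := fun b => RingHom.congr_fun hid b }⟩

end Main

end Groth.Agent.H4.LocRetract
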