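import Mathlib
import Groth.Prelude.Def_Rees
import Groth.Prelude.Def_BlowUp2
import Groth.Prelude.Def_ega3
import Groth.Agent.H95.ReesProjDefs
import Groth.Agent.H98.BC_A1

/-!
# (GLU) of helper95's S16054 squad: gluing the local lifts to `Proj` of the Rees algebra

`GLU_of` takes the affine existence (EA) and uniqueness (UA) statements as hypotheses.
-/

set_option autoImplicit false
universe u
open CategoryTheory CategoryTheory.Limits AlgebraicGeometry
open Groth.Agent.H95.ReesProj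

namespace Groth.Agent.H4.RP_GLU

variable (A : Type u) [CommRing A] (I : Ideal A)

/-- the ring map `A → Γ(T, V)` induced by `t` -/
noncomputable def phi {T : Scheme.{u}} (t : T ⟶ Spec (CommRingCat.of A)) (V : T.Opens) :
    A →+* Γ(T, V) :=
  (t.appLE ⊤ V le_top).hom.comp (Scheme.ΓSpecIso (CommRingCat.of A)).inv.hom

theorem ι_comp {T : Scheme.{u}} (t : T ⟶ Spec (CommRingCat.of A)) (V : T.Opens)
    (hV : IsAffineOpen V) :
    hV.isoSpec.hom ≫ Spec.map (CommRingCat.ofHom (phi A t V)) = V.ι ≫ t := by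
  have h := IsAffineOpen.SpecMap_appLE_fromSpec t (isAffineOpen_top _) hV le_top
  rw [IsAffineOpen.fromSpec_top, Scheme.isoSpec_Spec_inv, ← Spec.map_comp] at h
  rw [← hV.isoSpec_inv_ι, Category.assoc] at h
  rw [← Iso.eq_inv_comp, ← h]
  rfl

theorem phi_basicOpen {T : Scheme.{u}} (t : T ⟶ Spec (CommRingCat.of A)) (V : T.Opens)
    (f : Γ(T, V)) :
    phi A t (T.basicOpen f) =
      (T.presheaf.map (homOfLE (T.basicOpen_le f)).op).hom.comp (phi A t V) := by
  unfold phi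
  have h := Scheme.Hom.appLE_map t (U := ⊤) (V := V) (show V ≤ t ⁻¹ᵁ ⊤ from le_top)
    (homOfLE (T.basicOpen_le f)).op
  rw [← h]
  rfl


theorem GLU_of
    (EA : ∀ (a : A) (_ : a ∈ I) {C : Type u} [CommRing C] (φ : A →+* C)
      (_ : I.map φ = Ideal.span {φ a}) (_ : φ a ∈ nonZeroDivisors C),
      ∃ v : Spec (CommRingCat.of C) ⟶ Proj (Rees.deg (reesAlgebra I)),
        v ≫ (Proj (Rees.deg (reesAlgebra I)) ↘ Spec (CommRingCat.of A)) =
          Spec.map (CommRingCat.ofHom φ))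
    (UA : ∀ (a : A) (_ : a ∈ I) {C : Type u} [CommRing C] (φ : A →+* C)
      (_ : I.map φ = Ideal.span {φ a}) (_ : φ a ∈ nonZeroDivisors C)
      (v₁ v₂ : Spec (CommRingCat.of C) ⟶ Proj (Rees.deg (reesAlgebra I)))
      (_ : v₁ ≫ (Proj (Rees.deg (reesAlgebra I)) ↘ Spec (CommRingCat.of A)) =
        Spec.map (CommRingCat.ofHom φ))
      (_ : v₂ ≫ (Proj (Rees.deg (reesAlgebra I)) ↘ Spec (CommRingCat.of A)) =
        Spec.map (CommRingCat.ofHom φ)), v₁ = v₂)
    {T : Scheme.{u}} (t : T ⟶ Spec (CommRingCat.of A))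
    (ht : BlowUp.IsEffCartierIdeal ((Scheme.IdealSheafData.ofIdealTop
      (I.map (Scheme.ΓSpecIso (CommRingCat.of A)).inv.hom)).comap t)) :
    ∃! l : T ⟶ Proj (Rees.deg (reesAlgebra I)),
      l ≫ (Proj (Rees.deg (reesAlgebra I)) ↘ Spec (CommRingCat.of A)) = t := by
  classical
  let ℬ : Set T.Opens := {V | IsAffineOpen V ∧ ∃ a ∈ I,
    I.map (phi A t V) = Ideal.span {phi A t V a} ∧ phi A t V a ∈ nonZeroDivisors Γ(T, V)}
  have hcov : ∀ x : T, ∃ V ∈ ℬ, x ∈ V := by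
    intro x
    obtain ⟨a, ha, W, hxW, hideal, hnzd⟩ := Groth.Agent.H98.BC_A1.A1 A I t ht x
    have hmap : ((Scheme.IdealSheafData.ofIdealTop
        (I.map (Scheme.ΓSpecIso (CommRingCat.of A)).inv.hom)).comap t).ideal W =
        I.map (phi A t W.1) := by
      rw [Groth.Agent.H9.comap_ideal t _ ⟨⊤, isAffineOpen_top _⟩ W le_top,
        Scheme.IdealSheafData.ofIdealTop_ideal, Ideal.map_map, Ideal.map_map]
      rfl
    refine ⟨W.1, ⟨W.2, a, ha, ?_, hnzd⟩, hxW⟩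
    rw [← hmap, hideal]
    rfl
  have hdir : ∀ V ∈ ℬ, ∀ V' ∈ ℬ, ∀ x : T, x ∈ V → x ∈ V' →
      ∃ V'' ∈ ℬ, x ∈ V'' ∧ V'' ≤ V ∧ V'' ≤ V' := by
    rintro V ⟨hV, a, ha, hgen, hnzd⟩ V' _ x hxV hxV'
    obtain ⟨f, hfV', hxf⟩ := hV.exists_basicOpen_le (V := V') ⟨x, hxV'⟩ hxV
    refine ⟨T.basicOpen f, ⟨hV.basicOpen f, a, ha, ?_, ?_⟩, hxf, T.basicOpen_le f, hfV'⟩
    · rw [phi_basicOpen, ← Ideal.map_map, hgen, Ideal.map_span, Set.image_singleton]
      rfl
    · rw [phi_basicOpen]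
      haveI := hV.isLocalization_basicOpen f
      exact IsLocalization.map_nonZeroDivisors_le (Submonoid.powers f) _
        (Submonoid.mem_map_of_mem _ hnzd)
  have huniq : ∀ V ∈ ℬ, ∀ g g' : V.toScheme ⟶ Proj (Rees.deg (reesAlgebra I)),
      g ≫ (Proj (Rees.deg (reesAlgebra I)) ↘ Spec (CommRingCat.of A)) = V.ι ≫ t →
      g' ≫ (Proj (Rees.deg (reesAlgebra I)) ↘ Spec (CommRingCat.of A)) = V.ι ≫ t → g = g' := by
    rintro V ⟨hV, a, ha, hgen, hnzd⟩ g g' hg hg'
    have e1 : (hV.isoSpec.inv ≫ g) ≫ (Proj (Rees.deg (reesAlgebra I)) ↘ Spec (CommRingCat.of A)) =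
        Spec.map (CommRingCat.ofHom (phi A t V)) := by
      rw [Category.assoc, hg, ← ι_comp A t V hV, Iso.inv_hom_id_assoc]
    have e2 : (hV.isoSpec.inv ≫ g') ≫ (Proj (Rees.deg (reesAlgebra I)) ↘ Spec (CommRingCat.of A)) =
        Spec.map (CommRingCat.ofHom (phi A t V)) := by
      rw [Category.assoc, hg', ← ι_comp A t V hV, Iso.inv_hom_id_assoc]
    have := UA a ha (phi A t V) hgen hnzd _ _ e1 e2
    exact (cancel_epi hV.isoSpec.inv).mp this
  have hex : ∀ V ∈ ℬ, ∃ g : V.toScheme ⟶ Proj (Rees.deg (reesAlgebra I)),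
      g ≫ (Proj (Rees.deg (reesAlgebra I)) ↘ Spec (CommRingCat.of A)) = V.ι ≫ t := by
    rintro V ⟨hV, a, ha, hgen, hnzd⟩
    obtain ⟨v, hv⟩ := EA a ha (phi A t V) hgen hnzd
    exact ⟨hV.isoSpec.hom ≫ v, by rw [Category.assoc, hv, ι_comp]⟩
  choose g hg using hex
  let 𝒰 : T.OpenCover :=
    { I₀ := ℬ
      X := fun V => V.1.toScheme
      f := fun V => V.1.ι
      mem₀ := by
        rw [Scheme.presieve₀_mem_precoverage_iff]
        refine ⟨fun x => ?_, inferInstance⟩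
        obtain ⟨V, hV, hx⟩ := hcov x
        exact ⟨⟨V, hV⟩, ⟨x, hx⟩, rfl⟩ }
  letI : Category 𝒰.I₀ := inferInstanceAs (Category ℬ)
  letI : 𝒰.LocallyDirected :=
    { trans := fun {i j} f => T.homOfLE (show i.1 ≤ j.1 from f.le)
      trans_id := fun i => by
        rw [← cancel_mono (𝒰.f i)]
        simp [𝒰]
      trans_comp := fun {i j k} f g => by
        rw [← cancel_mono (𝒰.f k)]
        simp [𝒰]
      w := fun {i j} f => T.homOfLE_ι _
      directed := fun {U V} x => by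
        let a := (pullback.fst U.1.ι V.1.ι ≫ U.1.ι) x
        have haU : a ∈ U.1 := (pullback.fst U.1.ι V.1.ι x).2
        have haV : a ∈ V.1 := by
          unfold a; rw [pullback.condition]; exact (pullback.snd U.1.ι V.1.ι x).2
        obtain ⟨W, hW, haW, hWU, hWV⟩ := hdir U.1 U.2 V.1 V.2 a haU haV
        refine ⟨⟨W, hW⟩, homOfLE hWU, homOfLE hWV, ⟨a, haW⟩, ?_⟩
        apply (pullback.fst U.1.ι V.1.ι ≫ U.1.ι).isOpenEmbedding.injective
        dsimp
        change (pullback.lift _ _ _ ≫ pullback.fst _ _ ≫ U.1.ι) _ = _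
        simp only [pullback.lift_fst_assoc, Scheme.homOfLE_ι]
        rfl
      property_trans := fun {i j} f => by
        change IsOpenImmersion (T.homOfLE _)
        infer_instance }
  let l : T ⟶ Proj (Rees.deg (reesAlgebra I)) :=
    𝒰.glueMorphismsOfLocallyDirected (fun V => g V.1 V.2) (fun {V V'} hij => by
      apply huniq V.1 V.2
      · change (T.homOfLE (show V.1 ≤ V'.1 from hij.le) ≫ g V'.1 V'.2) ≫ _ = _
        rw [Category.assoc, hg, ← Category.assoc, Scheme.homOfLE_ι]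
      · exact hg _ _)
  have hl : ∀ V : ℬ, V.1.ι ≫ l = g V.1 V.2 :=
    fun V => 𝒰.map_glueMorphismsOfLocallyDirected _ _ V
  refine ⟨l, ?_, ?_⟩
  · apply 𝒰.hom_ext
    intro V
    change V.1.ι ≫ l ≫ _ = V.1.ι ≫ t
    rw [← Category.assoc, hl, hg]
  · intro l' hl'
    apply 𝒰.hom_ext
    intro V
    change V.1.ι ≫ l' = V.1.ι ≫ l
    rw [hl]
    apply huniq V.1 V.2
    · rw [Category.assoc, hl']
    · exact hg _ _

end Groth.Agent.H4.RP_GLU
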