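import Mathlib
import Groth.Prelude.Def_Rees
import Groth.Prelude.Def_BlowUp2
import Groth.Prelude.Def_ega3
import Groth.Agent.H95.ReesProjDefs
import Groth.Agent.H13.RP_ECA
import Groth.Agent.H4.RP_GLU

/-!
# (ECS) of helper95's S16054 squad: the pulled-back ideal is effective Cartier on each chart `Spec Aw`
-/

set_option autoImplicit false
universe u
open CategoryTheory CategoryTheory.Limits AlgebraicGeometry
open Groth.Agent.H95.ReesProj

namespace Groth.Agent.H4.RP_ECS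

variable (A : Type u) [CommRing A] (I : Ideal A)

theorem nzd_ΓSpecIso_inv {C : Type u} [CommRing C] (c : C) (hc : c ∈ nonZeroDivisors C) :
    (Scheme.ΓSpecIso (CommRingCat.of C)).inv.hom c ∈
      nonZeroDivisors Γ(Spec (CommRingCat.of C), ⊤) := by
  rw [mem_nonZeroDivisors_iff_right]
  intro z hz
  have h2 : (Scheme.ΓSpecIso (CommRingCat.of C)).hom.hom
      ((Scheme.ΓSpecIso (CommRingCat.of C)).inv.hom c) = c := by
    rw [← CommRingCat.comp_apply, Iso.inv_hom_id]; rfl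
  have h1 : (Scheme.ΓSpecIso (CommRingCat.of C)).hom.hom z * c = 0 := by
    have h0 := congrArg (Scheme.ΓSpecIso (CommRingCat.of C)).hom.hom hz
    rw [map_mul, map_zero, h2] at h0
    exact h0
  have h3 := (mem_nonZeroDivisors_iff_right.mp hc) _ h1
  have h4 : (Scheme.ΓSpecIso (CommRingCat.of C)).inv.hom
      ((Scheme.ΓSpecIso (CommRingCat.of C)).hom.hom z) = z := by
    rw [← CommRingCat.comp_apply, Iso.hom_inv_id]; rfl
  rw [← h4, h3, map_zero]

theorem phi_SpecMap {C : Type u} [CommRing C] (ψ : A →+* C) :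
    Groth.Agent.H4.RP_GLU.phi A (Spec.map (CommRingCat.ofHom ψ)) ⊤ =
      (Scheme.ΓSpecIso (CommRingCat.of C)).inv.hom.comp ψ := by
  have h := Scheme.ΓSpecIso_inv_naturality (CommRingCat.ofHom ψ)
  have h2 := congrArg (fun φ => φ.hom) h
  simp only [CommRingCat.hom_comp, CommRingCat.hom_ofHom] at h2
  have e : (Spec.map (CommRingCat.ofHom ψ)).appLE ⊤ ⊤
      (show (⊤ : (Spec (CommRingCat.of C)).Opens) ≤ (Spec.map (CommRingCat.ofHom ψ)) ⁻¹ᵁ ⊤ from
        le_top) = (Spec.map (CommRingCat.ofHom ψ)).appTop := by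
    simp [Scheme.Hom.appLE, Scheme.Hom.appTop]
  unfold Groth.Agent.H4.RP_GLU.phi
  rw [e]
  exact h2.symm

theorem ECS (a : A) (ha : a ∈ I) :
    BlowUp.IsEffCartierIdeal ((Scheme.IdealSheafData.ofIdealTop
      (I.map (Scheme.ΓSpecIso (CommRingCat.of A)).inv.hom)).comap
        (Spec.map (CommRingCat.ofHom (toAway A I a ha)))) := by
  intro x
  obtain ⟨hgen, hnzd⟩ := Groth.Agent.H13.RP_ECA.ECA A I a ha
  refine ⟨⟨⊤, isAffineOpen_top _⟩, trivial,
    (Scheme.ΓSpecIso (CommRingCat.of _)).inv.hom (toAway A I a ha a),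
    nzd_ΓSpecIso_inv _ hnzd, ?_⟩
  have hmap : ((Scheme.IdealSheafData.ofIdealTop
      (I.map (Scheme.ΓSpecIso (CommRingCat.of A)).inv.hom)).comap
        (Spec.map (CommRingCat.ofHom (toAway A I a ha)))).ideal ⟨⊤, isAffineOpen_top _⟩ =
      I.map (Groth.Agent.H4.RP_GLU.phi A (Spec.map (CommRingCat.ofHom (toAway A I a ha))) ⊤) := by
    rw [Groth.Agent.H9.comap_ideal _ _ ⟨⊤, isAffineOpen_top _⟩ ⟨⊤, isAffineOpen_top _⟩ le_top,
      Scheme.IdealSheafData.ofIdealTop_ideal, Ideal.map_map, Ideal.map_map]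
    rfl
  rw [hmap, phi_SpecMap, ← Ideal.map_map, hgen, Ideal.map_span, Set.image_singleton]

end Groth.Agent.H4.RP_ECS
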