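import Mathlib

/-!
Abstract recollement (gluing) of a category `A` from `B` and `C` along adjunctions
`iS ⊣ iP` (`iP` fully faithful, "closed part") and `jS ⊣ jP` (`jP` fully faithful, "open part"):
the functor `F ↦ (iS F, jS F, iS F ⟶ iS jP jS F)` to the comma category is an equivalence.
-/

set_option autoImplicit false
open CategoryTheory CategoryTheory.Limits
universe v₁ v₂ v₃ u₁ u₂ u₃

namespace Groth.Agent.H4.Recoll

variable {A : Type u₁} [Category.{v₁} A] {B : Type u₂} [Category.{v₂} B]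
  {C : Type u₃} [Category.{v₃} C]

/-- The abstract recollement functor. -/
def T (iS : A ⥤ B) {jS : A ⥤ C} {jP : C ⥤ A} (adjJ : jS ⊣ jP) :
    A ⥤ Comma (𝟭 B) (jP ⋙ iS) where
  obj F :=
    { left := iS.obj F
      right := jS.obj F
      hom := iS.map (adjJ.unit.app F) }
  map {F G} φ :=
    { left := iS.map φ
      right := jS.map φ
      w := by
        dsimp
        rw [← Functor.map_comp, ← Functor.map_comp]
        congr 1
        exact adjJ.unit.naturality φ }
  map_id F := by ext <;> simp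
  map_comp φ ψ := by ext <;> simp

variable {iS : A ⥤ B} {iP : B ⥤ A} (adjI : iS ⊣ iP) {jS : A ⥤ C} {jP : C ⥤ A} (adjJ : jS ⊣ jP)

lemma unit_counit_aux {P : A} {H : C} (p2 : P ⟶ jP.obj H) :
    adjJ.unit.app P ≫ jP.map (jS.map p2 ≫ adjJ.counit.app H) = p2 := by
  simp

lemma counit_aux {P M : A} {G : B} (θ : G ⟶ iS.obj M) (p1 : P ⟶ iP.obj G) (p2 : P ⟶ M)
    (w : p1 ≫ iP.map θ = p2 ≫ adjI.unit.app M) :
    (iS.map p1 ≫ adjI.counit.app G) ≫ θ = iS.map p2 := by
  calc (iS.map p1 ≫ adjI.counit.app G) ≫ θ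
      = iS.map p1 ≫ (adjI.counit.app G ≫ θ) := Category.assoc _ _ _
    _ = iS.map p1 ≫ (iS.map (iP.map θ) ≫ adjI.counit.app (iS.obj M)) :=
        congrArg (fun q => iS.map p1 ≫ q) (adjI.counit_naturality θ).symm
    _ = iS.map (p1 ≫ iP.map θ) ≫ adjI.counit.app (iS.obj M) := by
        rw [Functor.map_comp, Category.assoc]
    _ = iS.map (p2 ≫ adjI.unit.app M) ≫ adjI.counit.app (iS.obj M) := by rw [w]
    _ = iS.map p2 ≫ (iS.map (adjI.unit.app M) ≫ adjI.counit.app (iS.obj M)) := by
        rw [Functor.map_comp, Category.assoc]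
    _ = iS.map p2 := by
        have ht : iS.map (adjI.unit.app M) ≫ adjI.counit.app (iS.obj M) = 𝟙 (iS.obj M) :=
          adjI.left_triangle_components M
        rw [ht, Category.comp_id]

lemma isIso_map_unit (h1 : ∀ G, IsIso (adjI.counit.app G)) (M : A) :
    IsIso (iS.map (adjI.unit.app M)) := by
  haveI := h1 (iS.obj M)
  have ht := adjI.left_triangle_components M
  haveI : IsIso (iS.map (adjI.unit.app M) ≫ adjI.counit.app (iS.obj M)) := by
    rw [ht]
    exact IsIso.id _
  exact IsIso.of_isIso_comp_right _ (adjI.counit.app (iS.obj M))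

section glue

variable [HasPullbacks A] {G : B} {H : C} (θ : G ⟶ iS.obj (jP.obj H))

/-- The glued object. -/
noncomputable abbrev glue : A := pullback (iP.map θ) (adjI.unit.app (jP.obj H))

/-- First projection of the glued object. -/
noncomputable abbrev p1 : glue adjI θ ⟶ iP.obj G := pullback.fst _ _

/-- Second projection of the glued object. -/
noncomputable abbrev p2 : glue adjI θ ⟶ jP.obj H := pullback.snd _ _

/-- The comparison `iS (glue) ⟶ G`. -/
noncomputable abbrev al : iS.obj (glue adjI θ) ⟶ G := iS.map (p1 adjI θ) ≫ adjI.counit.app G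

/-- The comparison `jS (glue) ⟶ H`. -/
noncomputable abbrev be : jS.obj (glue adjI θ) ⟶ H := jS.map (p2 adjI θ) ≫ adjJ.counit.app H

lemma isIso_al [PreservesLimitsOfShape WalkingCospan iS]
    (h1 : ∀ G, IsIso (adjI.counit.app G)) : IsIso (al adjI θ) := by
  haveI := h1 G
  haveI := isIso_map_unit adjI h1 (jP.obj H)
  have sq := (IsPullback.of_hasPullback (iP.map θ) (adjI.unit.app (jP.obj H))).map iS
  haveI : IsIso (iS.map (p1 adjI θ)) := sq.isIso_fst_of_isIso
  infer_instance

lemma isIso_be [PreservesLimitsOfShape WalkingCospan jS]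
    (h2 : ∀ H, IsIso (adjJ.counit.app H))
    (h4 : ∀ {G G' : B} (θ : G ⟶ G'), IsIso (jS.map (iP.map θ))) : IsIso (be adjI adjJ θ) := by
  haveI := h2 H
  haveI := h4 θ
  have sq := (IsPullback.of_hasPullback (iP.map θ) (adjI.unit.app (jP.obj H))).map jS
  haveI : IsIso (jS.map (p2 adjI θ)) := sq.isIso_snd_of_isIso
  infer_instance

lemma compat :
    al adjI θ ≫ θ = iS.map (adjJ.unit.app (glue adjI θ) ≫ jP.map (be adjI adjJ θ)) := by
  rw [unit_counit_aux adjJ (p2 adjI θ)]
  exact counit_aux adjI θ (p1 adjI θ) (p2 adjI θ) pullback.condition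

end glue

section kappa

variable [HasPullbacks A] (F : A)

/-- The structure map of the triple of `F`. -/
abbrev th (iS : A ⥤ B) {jS : A ⥤ C} {jP : C ⥤ A} (adjJ : jS ⊣ jP) (F : A) :
    iS.obj F ⟶ iS.obj (jP.obj (jS.obj F)) := iS.map (adjJ.unit.app F)

omit [HasPullbacks A] in
lemma kappa_cond : adjI.unit.app F ≫ iP.map (th iS adjJ F) =
    adjJ.unit.app F ≫ adjI.unit.app (jP.obj (jS.obj F)) :=
  adjI.unit_naturality (adjJ.unit.app F)

/-- The comparison from `F` to the object glued from its triple. -/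
noncomputable def kappa : F ⟶ glue adjI (th iS adjJ F) :=
  pullback.lift (adjI.unit.app F) (adjJ.unit.app F) (kappa_cond adjI adjJ F)

lemma kappa_p1 : kappa adjI adjJ F ≫ p1 adjI (th iS adjJ F) = adjI.unit.app F :=
  pullback.lift_fst _ _ _

lemma kappa_p2 : kappa adjI adjJ F ≫ p2 adjI (th iS adjJ F) = adjJ.unit.app F :=
  pullback.lift_snd _ _ _

lemma map_kappa_al : iS.map (kappa adjI adjJ F) ≫ al adjI (th iS adjJ F) = 𝟙 _ := by
  show iS.map (kappa adjI adjJ F) ≫ iS.map (p1 adjI (th iS adjJ F)) ≫ adjI.counit.app _ = 𝟙 _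
  rw [← Category.assoc, ← Functor.map_comp, kappa_p1, adjI.left_triangle_components]

lemma map_kappa_be : jS.map (kappa adjI adjJ F) ≫ be adjI adjJ (th iS adjJ F) = 𝟙 _ := by
  show jS.map (kappa adjI adjJ F) ≫ jS.map (p2 adjI (th iS adjJ F)) ≫ adjJ.counit.app _ = 𝟙 _
  rw [← Category.assoc, ← Functor.map_comp, kappa_p2, adjJ.left_triangle_components]

lemma isIso_kappa [PreservesLimitsOfShape WalkingCospan iS]
    [PreservesLimitsOfShape WalkingCospan jS]
    (h1 : ∀ G, IsIso (adjI.counit.app G)) (h2 : ∀ H, IsIso (adjJ.counit.app H))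
    (h4 : ∀ {G G' : B} (θ : G ⟶ G'), IsIso (jS.map (iP.map θ)))
    (h5 : ∀ {F F' : A} (φ : F ⟶ F'), IsIso (iS.map φ) → IsIso (jS.map φ) → IsIso φ) :
    IsIso (kappa adjI adjJ F) := by
  apply h5
  · haveI := isIso_al adjI (th iS adjJ F) h1
    haveI : IsIso (iS.map (kappa adjI adjJ F) ≫ al adjI (th iS adjJ F)) := by
      rw [map_kappa_al]
      exact IsIso.id _
    exact IsIso.of_isIso_comp_right _ (al adjI (th iS adjJ F))
  · haveI := isIso_be adjI adjJ (th iS adjJ F) h2 h4
    haveI : IsIso (jS.map (kappa adjI adjJ F) ≫ be adjI adjJ (th iS adjJ F)) := by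
      rw [map_kappa_be]
      exact IsIso.id _
    exact IsIso.of_isIso_comp_right _ (be adjI adjJ (th iS adjJ F))

end kappa

theorem isEquivalence_T [HasPullbacks A] [PreservesLimitsOfShape WalkingCospan iS]
    [PreservesLimitsOfShape WalkingCospan jS]
    (h1 : ∀ G, IsIso (adjI.counit.app G)) (h2 : ∀ H, IsIso (adjJ.counit.app H))
    (h4 : ∀ {G G' : B} (θ : G ⟶ G'), IsIso (jS.map (iP.map θ)))
    (h5 : ∀ {F F' : A} (φ : F ⟶ F'), IsIso (iS.map φ) → IsIso (jS.map φ) → IsIso φ) :
    (T iS adjJ).IsEquivalence := by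
  have hκ : ∀ F, IsIso (kappa adjI adjJ F) := fun F => isIso_kappa adjI adjJ F h1 h2 h4 h5
  refine { faithful := ⟨?_⟩, full := ⟨?_⟩, essSurj := ⟨?_⟩ }
  · intro F F' φ ψ hφψ
    haveI := hκ F'
    have hl : iS.map φ = iS.map ψ := congrArg CommaMorphism.left hφψ
    have hr : jS.map φ = jS.map ψ := congrArg CommaMorphism.right hφψ
    rw [← cancel_mono (kappa adjI adjJ F')]
    apply pullback.hom_ext
    · rw [Category.assoc, Category.assoc, kappa_p1, ← adjI.unit_naturality φ,
        ← adjI.unit_naturality ψ, hl]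
    · rw [Category.assoc, Category.assoc, kappa_p2, ← adjJ.unit_naturality φ,
        ← adjJ.unit_naturality ψ, hr]
  · intro F F' m
    haveI := hκ F'
    let a : iS.obj F ⟶ iS.obj F' := m.left
    let b : jS.obj F ⟶ jS.obj F' := m.right
    have hm : a ≫ th iS adjJ F' = th iS adjJ F ≫ iS.map (jP.map b) := m.w
    have cond : (adjI.unit.app F ≫ iP.map a) ≫ iP.map (th iS adjJ F') =
        (adjJ.unit.app F ≫ jP.map b) ≫ adjI.unit.app (jP.obj (jS.obj F')) := by
      rw [Category.assoc, ← Functor.map_comp, hm, ← Functor.map_comp]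
      exact adjI.unit_naturality _
    let ψ : F ⟶ glue adjI (th iS adjJ F') := pullback.lift _ _ cond
    refine ⟨ψ ≫ inv (kappa adjI adjJ F'), ?_⟩
    have e1 : (ψ ≫ inv (kappa adjI adjJ F')) ≫ adjI.unit.app F' =
        adjI.unit.app F ≫ iP.map a := by
      rw [← kappa_p1 adjI adjJ F', Category.assoc, IsIso.inv_hom_id_assoc]
      exact pullback.lift_fst _ _ _
    have e2 : (ψ ≫ inv (kappa adjI adjJ F')) ≫ adjJ.unit.app F' =
        adjJ.unit.app F ≫ jP.map b := by
      rw [← kappa_p2 adjI adjJ F', Category.assoc, IsIso.inv_hom_id_assoc]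
      exact pullback.lift_snd _ _ _
    apply CommaMorphism.ext
    · show iS.map (ψ ≫ inv (kappa adjI adjJ F')) = a
      apply (adjI.homEquiv _ _).injective
      rw [Adjunction.homEquiv_unit, Adjunction.homEquiv_unit, adjI.unit_naturality]
      exact e1
    · show jS.map (ψ ≫ inv (kappa adjI adjJ F')) = b
      apply (adjJ.homEquiv _ _).injective
      rw [Adjunction.homEquiv_unit, Adjunction.homEquiv_unit, adjJ.unit_naturality]
      exact e2
  · intro Y
    let θ : Y.left ⟶ iS.obj (jP.obj Y.right) := Y.hom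
    haveI := isIso_al adjI θ h1
    haveI := isIso_be adjI adjJ θ h2 h4
    let eα : iS.obj (glue adjI θ) ≅ Y.left := asIso (al adjI θ)
    let eβ : jS.obj (glue adjI θ) ≅ Y.right := asIso (be adjI adjJ θ)
    refine ⟨glue adjI θ, ⟨Comma.isoMk eα eβ ?_⟩⟩
    show al adjI θ ≫ Y.hom =
      iS.map (adjJ.unit.app (glue adjI θ)) ≫ iS.map (jP.map (be adjI adjJ θ))
    rw [← Functor.map_comp]
    exact compat adjI adjJ θ

end Groth.Agent.H4.Recoll
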