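import Mathlib
import Groth.Agent.H69.Sec.S1
import Groth.Agent.H44.FinrankFA

/-!
# Two sections of a finite étale morphism over a connected base agreeing at a point are equal
(piece (S2) of helper69's squad request for S18918).
-/

set_option autoImplicit false
universe u
open CategoryTheory CategoryTheory.Limits AlgebraicGeometry

namespace Groth.Agent.H4.Sec_S2

theorem section_ext {P T : Scheme.{u}} (p : P ⟶ T) [IsFinite p] [Etale p] [ConnectedSpace T] (σ τ : T ⟶ P) (hσ : σ ≫ p = 𝟙 T) (hτ : τ ≫ p = 𝟙 T) (t : T) (h : σ.base t = τ.base t) : σ = τ := by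
  haveI := Groth.Agent.H69.Sec.isOpenImmersion_of_section p τ hτ
  have hcl : IsClopen (σ ⁻¹' (Set.range τ)) :=
    (Groth.Agent.H69.Sec.isClopen_range_of_section p τ hτ).preimage σ.continuous
  have hne : (σ ⁻¹' (Set.range τ)).Nonempty := ⟨t, ⟨t, h.symm⟩⟩
  have huniv : σ ⁻¹' (Set.range τ) = Set.univ :=
    (isClopen_iff.mp hcl).resolve_left hne.ne_empty
  have hsub : Set.range σ ⊆ Set.range τ := by
    rintro _ ⟨x, rfl⟩
    have hx : x ∈ σ ⁻¹' (Set.range τ) := by rw [huniv]; trivial
    exact hx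
  let l := IsOpenImmersion.lift τ σ hsub
  have hl : l ≫ τ = σ := IsOpenImmersion.lift_fac τ σ hsub
  have hl1 : l = 𝟙 T := by
    calc l = l ≫ (τ ≫ p) := by rw [hτ, Category.comp_id]
      _ = (l ≫ τ) ≫ p := by rw [Category.assoc]
      _ = σ ≫ p := by rw [hl]
      _ = 𝟙 T := hσ
  rw [← hl, hl1, Category.id_comp]

end Groth.Agent.H4.Sec_S2
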