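import Mathlib
import Groth.Prelude.Def_EtCore
import Groth.Agent.H4.GlueDisjoint
import Groth.Agent.H4.Kummer

/-!
Affine schemes all of whose points are closed and all of whose residue fields are separably closed:
every etale scheme over such a scheme has Zariski-local sections, and the global sections functor
on abelian etale sheaves preserves epimorphisms.
-/

set_option autoImplicit false
open CategoryTheory CategoryTheory.Limits AlgebraicGeometry Opposite
universe u

namespace Groth.Agent.H4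

section algebra

open Polynomial

/-- Separable closedness is invariant under ring isomorphisms. -/
theorem isSepClosed_of_ringEquiv {K K' : Type*} [Field K] [Field K'] (e : K ≃+* K')
    [IsSepClosed K] : IsSepClosed K' := by
  apply IsSepClosed.of_exists_root
  intro q _ hqi hqs
  have hsep : (q.map (e.symm : K' →+* K)).Separable := hqs.map
  have hdeg : (q.map (e.symm : K' →+* K)).degree ≠ 0 := by
    rw [Polynomial.degree_map]
    exact (Polynomial.degree_pos_of_irreducible hqi).ne'
  obtain ⟨x, hx⟩ := IsSepClosed.exists_root _ hdeg hsep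
  refine ⟨e x, ?_⟩
  have h1 : Polynomial.eval₂ (e.symm : K' →+* K) x q = 0 := by
    rw [← Polynomial.eval_map]
    exact hx
  have h2 := congrArg (e : K →+* K') h1
  rw [Polynomial.hom_eval₂, map_zero] at h2
  have h3 : ((e : K →+* K').comp (e.symm : K' →+* K)) = RingHom.id K' := by
    ext y
    simp
  rw [h3, Polynomial.eval₂_id] at h2
  exact h2

/-- In a ring all of whose primes are maximal, every element of a prime is killed, up to a power,
by an element outside of the prime. -/
theorem exists_mul_pow_eq_zero_of_forall_isMaximal {A : Type*} [CommRing A]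
    (hmax : ∀ q : Ideal A, q.IsPrime → q.IsMaximal) (p : Ideal A) [hp : p.IsPrime] (a : A)
    (ha : a ∈ p) : ∃ c : A, c ∉ p ∧ ∃ n : ℕ, c * a ^ n = 0 := by
  by_contra hcon
  push Not at hcon
  have hdisj : Disjoint ((⊥ : Ideal A) : Set A)
      ((p.primeCompl ⊔ Submonoid.powers a : Submonoid A) : Set A) := by
    rw [Set.disjoint_left]
    intro z hz hzM
    have hz0 : z = 0 := (Submodule.mem_bot A).1 hz
    obtain ⟨c, hc, y, hy, hcy⟩ := Submonoid.mem_sup.1 hzM
    obtain ⟨n, rfl⟩ := (Submonoid.mem_powers_iff _ _).1 hy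
    exact hcon c hc n (hcy.trans hz0)
  obtain ⟨q, hq, -, hqM⟩ := Ideal.exists_le_prime_disjoint ⊥ _ hdisj
  have hqp : q ≤ p := by
    intro z hz
    by_contra hzp
    exact Set.disjoint_left.1 hqM hz (Submonoid.mem_sup_left (show z ∈ p.primeCompl from hzp))
  have hqe : q = p := (hmax q hq).eq_of_le hp.ne_top hqp
  have haq : a ∈ q := hqe ▸ ha
  exact Set.disjoint_left.1 hqM haq (Submonoid.mem_sup_right (Submonoid.mem_powers a))

/-- Newton's method: an approximate root which becomes nilpotent-close to a root after inverting `s`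
gives a point of a standard etale algebra with values in the localization. -/
theorem hasMap_of_nilpotent_unit {A : Type u} [CommRing A] (P : StandardEtalePair A) (x₀ c : A)
    (m : ℕ) (s : A) (hcm : c * (P.f.eval x₀) ^ m = 0) (hc : c ∣ s)
    (hd : (derivative P.f).eval x₀ ∣ s) (hg : P.g.eval x₀ ∣ s) :
    ∃ r : Localization.Away s, P.HasMap r := by
  have hunit : ∀ d : A, d ∣ s → IsUnit (algebraMap A (Localization.Away s) d) := fun d hd' =>
    isUnit_of_dvd_unit (map_dvd (algebraMap A (Localization.Away s)) hd')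
      (IsLocalization.Away.algebraMap_isUnit s)
  have hevl : ∀ Q : A[X], aeval (algebraMap A (Localization.Away s) x₀) Q =
      algebraMap A (Localization.Away s) (Q.eval x₀) :=
    fun Q => aeval_algebraMap_apply_eq_algebraMap_eval x₀ Q
  have hnil : IsNilpotent (aeval (algebraMap A (Localization.Away s) x₀) P.f) := by
    refine ⟨m, ?_⟩
    rw [hevl, ← map_pow]
    have h1 : algebraMap A (Localization.Away s) c *
        algebraMap A (Localization.Away s) (P.f.eval x₀ ^ m) = 0 := by
      rw [← map_mul, hcm, map_zero]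
    exact (hunit c hc).mul_right_eq_zero.1 h1
  have hder : IsUnit (aeval (algebraMap A (Localization.Away s) x₀) (derivative P.f)) := by
    rw [hevl]
    exact hunit _ hd
  have hgu : IsUnit (aeval (algebraMap A (Localization.Away s) x₀) P.g) := by
    rw [hevl]
    exact hunit _ hg
  obtain ⟨r, ⟨hr1, hr2⟩, -⟩ := existsUnique_nilpotent_sub_and_aeval_eq_zero hnil hder
  have hr3 : IsNilpotent (r - algebraMap A (Localization.Away s) x₀) := by
    rw [← neg_sub]
    exact hr1.neg
  exact ⟨r, hr2, isUnit_aeval_of_isUnit_aeval_of_isNilpotent_sub hgu hr3⟩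

theorem exists_hasMap_away {A : Type u} [CommRing A] (p : Ideal A) [hp : p.IsPrime]
    (hZ : ∀ a ∈ p, ∃ c : A, c ∉ p ∧ ∃ n : ℕ, c * a ^ n = 0)
    (P : StandardEtalePair A) (x₀ : A) (hf : P.f.eval x₀ ∈ p) (hg : P.g.eval x₀ ∉ p) :
    ∃ s : A, s ∉ p ∧ ∃ r : Localization.Away s, P.HasMap r := by
  obtain ⟨p₁, p₂, n, e⟩ := P.cond
  have hd : (derivative P.f).eval x₀ ∉ p := by
    intro hd
    have h1 : (P.g.eval x₀) ^ n ∈ p := by
      have h2 := congrArg (Polynomial.eval x₀) e
      rw [eval_add, eval_mul, eval_mul, eval_pow] at h2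
      rw [← h2]
      exact p.add_mem (p.mul_mem_right _ hd) (p.mul_mem_right _ hf)
    exact hg (hp.mem_of_pow_mem n h1)
  obtain ⟨c, hc, m, hcm⟩ := hZ _ hf
  refine ⟨c * (derivative P.f).eval x₀ * P.g.eval x₀,
    hp.mul_notMem (hp.mul_notMem hc hd) hg, ?_⟩
  exact hasMap_of_nilpotent_unit P x₀ c m _ hcm
    ⟨(derivative P.f).eval x₀ * P.g.eval x₀, by ring⟩
    ⟨c * P.g.eval x₀, by ring⟩ ⟨c * (derivative P.f).eval x₀, by ring⟩

/-- An etale algebra with a point in the residue field at a prime `p` as above maps to a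
localization of the base away from an element outside of `p`. -/
theorem exists_algHom_away_of_etale {A : Type u} [CommRing A] (p : Ideal A) [hp : p.IsPrime]
    (hZ : ∀ a ∈ p, ∃ c : A, c ∉ p ∧ ∃ n : ℕ, c * a ^ n = 0)
    {Ω : Type u} [Field Ω] (ev : A →+* Ω) (hev : Function.Surjective ev)
    (hker : RingHom.ker ev = p)
    (B : Type u) [CommRing B] [Algebra A B] [Algebra.Etale A B]
    (ψ : B →+* Ω) (hψ : ψ.comp (algebraMap A B) = ev) :
    ∃ s : A, s ∉ p ∧ Nonempty (B →ₐ[A] Localization.Away s) := by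
  haveI : (RingHom.ker ψ).IsPrime := RingHom.ker_isPrime ψ
  obtain ⟨f, hfq, hstd⟩ := Algebra.IsEtaleAt.exists_isStandardEtale (R := A) (RingHom.ker ψ)
  obtain ⟨Pr⟩ := hstd.nonempty_standardEtalePresentation
  have hfu : IsUnit (ψ f) := isUnit_iff_ne_zero.2 (fun h => hfq ((RingHom.mem_ker).2 h))
  have hψf : (IsLocalization.Away.lift (S := Localization.Away f) f hfu).comp
      (algebraMap B (Localization.Away f)) = ψ := IsLocalization.Away.lift_comp f hfu
  have hψfA : (IsLocalization.Away.lift (S := Localization.Away f) f hfu).comp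
      (algebraMap A (Localization.Away f)) = ev := by
    rw [IsScalarTower.algebraMap_eq A B (Localization.Away f), ← RingHom.comp_assoc, hψf, hψ]
  obtain ⟨x₀, hx₀⟩ := hev ((IsLocalization.Away.lift (S := Localization.Away f) f hfu) Pr.x)
  have h1 : ∀ Q : A[X], (IsLocalization.Away.lift (S := Localization.Away f) f hfu)
      (aeval Pr.x Q) = ev (Q.eval x₀) := by
    intro Q
    rw [aeval_def, Polynomial.hom_eval₂, hψfA, ← hx₀, Polynomial.eval₂_at_apply]
  have hf0 : Pr.P.f.eval x₀ ∈ p := by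
    rw [← hker, RingHom.mem_ker, ← h1, Pr.hasMap.1, map_zero]
  have hg0 : Pr.P.g.eval x₀ ∉ p := by
    rw [← hker, RingHom.mem_ker, ← h1]
    exact ((Pr.hasMap.2).map (IsLocalization.Away.lift (S := Localization.Away f) f hfu)).ne_zero
  obtain ⟨s, hs, r, hr⟩ := exists_hasMap_away p hZ Pr.P x₀ hf0 hg0
  exact ⟨s, hs, ⟨((Pr.P.lift r hr).comp Pr.equivRing.toAlgHom).comp
    (IsScalarTower.toAlgHom A B (Localization.Away f))⟩⟩

end algebra

section scheme

/-- Zariski-local sections of etale morphisms to the spectrum of a ring all of whose primes are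
maximal, at points with separably closed residue field. -/
theorem exists_section_away {A : Type u} [CommRing A]
    (hmax : ∀ q : Ideal A, q.IsPrime → q.IsMaximal)
    {X : Scheme.{u}} (h : X ⟶ Spec (CommRingCat.of A)) [Etale h] (u : X)
    (hsc : IsSepClosed ((Spec (CommRingCat.of A)).residueField (h.base u))) :
    ∃ (s : A) (σ : Spec (CommRingCat.of (Localization.Away s)) ⟶ X),
      s ∉ (h.base u).asIdeal ∧
        σ ≫ h = Spec.map (CommRingCat.ofHom (algebraMap A (Localization.Away s))) := by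
  haveI : IsSepClosed ((Spec (CommRingCat.of A)).residueField (h.base u)) := hsc
  haveI hpmax : (h.base u).asIdeal.IsMaximal := hmax _ (h.base u).isPrime
  have hZ : ∀ a ∈ (h.base u).asIdeal, ∃ c : A, c ∉ (h.base u).asIdeal ∧ ∃ n : ℕ, c * a ^ n = 0 :=
    fun a ha => exists_mul_pow_eq_zero_of_forall_isMaximal hmax _ a ha
  -- the evaluation map at the point
  have hbij : Function.Bijective
      (Scheme.Spec.residueFieldIso (CommRingCat.of A) (h.base u)).inv.hom :=
    (Scheme.Spec.residueFieldIso (CommRingCat.of A)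
      (h.base u)).symm.commRingCatIsoToRingEquiv.bijective
  have hev : Spec.map (CommRingCat.ofHom (algebraMap A (h.base u).asIdeal.ResidueField) ≫
      (Scheme.Spec.residueFieldIso (CommRingCat.of A) (h.base u)).inv) =
      (Spec (CommRingCat.of A)).fromSpecResidueField (h.base u) := by
    rw [Spec.map_comp]
    exact Scheme.Spec.map_residueFieldIso_inv_eq_fromSpecResidueField (CommRingCat.of A) (h.base u)
  have hsurj : Function.Surjective
      (CommRingCat.ofHom (algebraMap A (h.base u).asIdeal.ResidueField) ≫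
        (Scheme.Spec.residueFieldIso (CommRingCat.of A) (h.base u)).inv).hom := by
    intro ω
    obtain ⟨y, hy⟩ := hbij.surjective ω
    obtain ⟨a, ha⟩ := Ideal.algebraMap_residueField_surjective (h.base u).asIdeal y
    refine ⟨a, ?_⟩
    show (Scheme.Spec.residueFieldIso (CommRingCat.of A) (h.base u)).inv.hom
      (algebraMap A (h.base u).asIdeal.ResidueField a) = ω
    rw [ha, hy]
  have hker : RingHom.ker (CommRingCat.ofHom (algebraMap A (h.base u).asIdeal.ResidueField) ≫
        (Scheme.Spec.residueFieldIso (CommRingCat.of A) (h.base u)).inv).hom =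
      (h.base u).asIdeal := by
    ext a
    rw [RingHom.mem_ker]
    show (Scheme.Spec.residueFieldIso (CommRingCat.of A) (h.base u)).inv.hom
      (algebraMap A (h.base u).asIdeal.ResidueField a) = 0 ↔ _
    rw [map_eq_zero_iff _ hbij.injective, ← RingHom.mem_ker,
      Ideal.ker_algebraMap_residueField]
  -- lift of the geometric point
  obtain ⟨l, hl1, hl2⟩ := Scheme.exists_fac_of_etale_of_isSepClosed h
    (Ω := ((Spec (CommRingCat.of A)).residueField (h.base u)))
    ((Spec (CommRingCat.of A)).fromSpecResidueField (h.base u)) u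
    (by rw [Scheme.fromSpecResidueField_apply])
  obtain ⟨V, hV, huV, -⟩ := exists_isAffineOpen_mem_and_subset (x := u) (U := ⊤) trivial
  have hl2' : l.base default = u := hl2
  have hrange : Set.range l.base ⊆ Set.range hV.fromSpec.base := by
    rintro _ ⟨z, rfl⟩
    rw [hV.range_fromSpec]
    have hz : z = default := Subsingleton.elim _ _
    rw [hz, hl2']
    exact huV
  have hl' : IsOpenImmersion.lift hV.fromSpec l hrange ≫ hV.fromSpec = l :=
    IsOpenImmersion.lift_fac hV.fromSpec l hrange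
  haveI : Etale (hV.fromSpec ≫ h) := inferInstance
  have hφ : Spec.map (Spec.preimage (hV.fromSpec ≫ h)) = hV.fromSpec ≫ h :=
    Spec.map_preimage _
  have hψ : Spec.map (Spec.preimage (IsOpenImmersion.lift hV.fromSpec l hrange)) =
      IsOpenImmersion.lift hV.fromSpec l hrange := Spec.map_preimage _
  have hφet : (Spec.preimage (hV.fromSpec ≫ h)).hom.Etale := by
    have h0 : Etale (Spec.map (Spec.preimage (hV.fromSpec ≫ h))) := by
      rw [hφ]
      infer_instance
    exact (HasRingHomProperty.Spec_iff (P := @Etale)).1 h0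
  letI : Algebra A Γ(X, V) := (Spec.preimage (hV.fromSpec ≫ h)).hom.toAlgebra
  haveI : Algebra.Etale A Γ(X, V) := hφet
  have hcomp : (Spec.preimage (IsOpenImmersion.lift hV.fromSpec l hrange)).hom.comp
      (algebraMap A Γ(X, V)) =
      (CommRingCat.ofHom (algebraMap A (h.base u).asIdeal.ResidueField) ≫
        (Scheme.Spec.residueFieldIso (CommRingCat.of A) (h.base u)).inv).hom := by
    have h1 : Spec.map (Spec.preimage (hV.fromSpec ≫ h) ≫
        Spec.preimage (IsOpenImmersion.lift hV.fromSpec l hrange)) =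
        Spec.map (CommRingCat.ofHom (algebraMap A (h.base u).asIdeal.ResidueField) ≫
          (Scheme.Spec.residueFieldIso (CommRingCat.of A) (h.base u)).inv) := by
      rw [Spec.map_comp, hφ, hψ, ← Category.assoc, hl', hl1, hev]
    have h2 := Spec.map_inj.1 h1
    exact congrArg CommRingCat.Hom.hom h2
  obtain ⟨s, hs, ⟨β⟩⟩ := exists_algHom_away_of_etale (h.base u).asIdeal hZ _ hsurj hker
    Γ(X, V) _ hcomp
  refine ⟨s, Spec.map (CommRingCat.ofHom β.toRingHom) ≫ hV.fromSpec, hs, ?_⟩
  have h1 : Spec.preimage (hV.fromSpec ≫ h) ≫ CommRingCat.ofHom β.toRingHom =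
      CommRingCat.ofHom (algebraMap A (Localization.Away s)) := by
    ext a
    exact β.commutes a
  rw [Category.assoc, ← hφ, ← Spec.map_comp, h1]

/-- All primes of the ring of global functions of an affine scheme with closed points are maximal. -/
theorem forall_isMaximal_of_closed (S : Scheme.{u}) [IsAffine S]
    (h1 : ∀ s : S, IsClosed ({s} : Set S)) :
    ∀ q : Ideal Γ(S, ⊤), q.IsPrime → q.IsMaximal := by
  intro q hq
  refine (PrimeSpectrum.isClosed_singleton_iff_isMaximal (⟨q, hq⟩ : PrimeSpectrum Γ(S, ⊤))).1 ?_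
  have h3 : ∀ z : Spec Γ(S, ⊤), S.isoSpec.hom.base (S.isoSpec.inv.base z) = z := fun z =>
    congrArg (fun f => f.base z) S.isoSpec.inv_hom_id
  have hx : ({(⟨q, hq⟩ : PrimeSpectrum Γ(S, ⊤))} : Set (Spec Γ(S, ⊤))) =
      S.isoSpec.inv.base ⁻¹' {S.isoSpec.inv.base (⟨q, hq⟩ : PrimeSpectrum Γ(S, ⊤))} := by
    ext y
    simp only [Set.mem_singleton_iff, Set.mem_preimage]
    constructor
    · rintro rfl
      rfl
    · intro hy
      have hy' : y = (⟨q, hq⟩ : PrimeSpectrum Γ(S, ⊤)) := by
        rw [← h3 y, hy, h3]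
      rw [hy']
      exact Set.mem_singleton _
  show IsClosed ({(⟨q, hq⟩ : PrimeSpectrum Γ(S, ⊤))} : Set (Spec Γ(S, ⊤)))
  rw [hx]
  exact (h1 _).preimage S.isoSpec.inv.continuous

theorem mem_basicOpen_iff_notMem (S : Scheme.{u}) (y : S) (g : Γ(S, ⊤)) :
    y ∈ S.basicOpen g ↔ g ∉ (S.toSpecΓ.base y).asIdeal := by
  rw [← Scheme.toSpecΓ_preimage_basicOpen]
  rfl

theorem isClosed_basicOpen_of_closed (S : Scheme.{u}) [IsAffine S]
    (h1 : ∀ s : S, IsClosed ({s} : Set S)) (f : Γ(S, ⊤)) :
    IsClosed ((S.basicOpen f : S.Opens) : Set S) := by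
  have hmax := forall_isMaximal_of_closed S h1
  rw [← isOpen_compl_iff, isOpen_iff_forall_mem_open]
  intro x hx
  have hxf : f ∈ (S.toSpecΓ.base x).asIdeal := by
    by_contra hcon
    exact hx ((mem_basicOpen_iff_notMem S x f).2 hcon)
  obtain ⟨c, hc, n, hcn⟩ :=
    exists_mul_pow_eq_zero_of_forall_isMaximal hmax (S.toSpecΓ.base x).asIdeal f hxf
  refine ⟨(S.basicOpen c : Set S), ?_, (S.basicOpen c).isOpen,
    (mem_basicOpen_iff_notMem S x c).2 hc⟩
  intro y hyc hyf
  have h3 := (mem_basicOpen_iff_notMem S y c).1 hyc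
  have h4 := (mem_basicOpen_iff_notMem S y f).1 hyf
  have hprime : (S.toSpecΓ.base y).asIdeal.IsPrime := (S.toSpecΓ.base y).isPrime
  have h5 : c * f ^ n ∉ (S.toSpecΓ.base y).asIdeal :=
    hprime.mul_notMem h3 (fun h => h4 (hprime.mem_of_pow_mem n h))
  rw [hcn] at h5
  exact h5 (Ideal.zero_mem _)

theorem exists_clopen_nbhd (S : Scheme.{u}) [IsAffine S] (h1 : ∀ s : S, IsClosed ({s} : Set S))
    (s : S) (W : S.Opens) (hs : s ∈ W) :
    ∃ E : S.Opens, IsClosed (E : Set S) ∧ s ∈ E ∧ E ≤ W := by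
  obtain ⟨_, ⟨f, rfl⟩, hsf, hfW⟩ :=
    (TopologicalSpace.Opens.isBasis_iff_nbhd.1 (isBasis_basicOpen S)) hs
  exact ⟨S.basicOpen f, isClosed_basicOpen_of_closed S h1 f, hsf, hfW⟩

/-- Zariski-local sections of etale schemes over an affine scheme with closed points and separably
closed residue fields. -/
theorem exists_open_section {S : Scheme.{u}} [IsAffine S] (h1 : ∀ s : S, IsClosed ({s} : Set S))
    (h2 : ∀ s : S, IsSepClosed (S.residueField s)) (U : S.Etale) (u : U.left) :
    ∃ (W : S.Opens) (σ : (W : Scheme.{u}) ⟶ U.left), U.hom.base u ∈ W ∧ σ ≫ U.hom = W.ι := by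
  haveI : Etale U.hom := U.prop
  haveI : Etale (U.hom ≫ S.isoSpec.hom) := inferInstance
  have hmax := forall_isMaximal_of_closed S h1
  have hsc : IsSepClosed ((Spec (CommRingCat.of Γ(S, ⊤))).residueField
      ((U.hom ≫ S.isoSpec.hom).base u)) := by
    haveI : IsSepClosed (S.residueField (U.hom.base u)) := h2 _
    exact isSepClosed_of_ringEquiv
      (asIso (S.isoSpec.hom.residueFieldMap (U.hom.base u))).commRingCatIsoToRingEquiv.symm
  obtain ⟨a, σ₀, ha, hσ₀⟩ := exists_section_away (A := Γ(S, ⊤)) hmax (U.hom ≫ S.isoSpec.hom) u hsc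
  refine ⟨S.isoSpec.hom ⁻¹ᵁ
      (Spec.map (CommRingCat.ofHom (algebraMap Γ(S, ⊤) (Localization.Away a)))).opensRange,
    (S.isoSpec.hom ∣_
      (Spec.map (CommRingCat.ofHom (algebraMap Γ(S, ⊤) (Localization.Away a)))).opensRange) ≫
      (Spec.map (CommRingCat.ofHom (algebraMap Γ(S, ⊤) (Localization.Away a)))).isoOpensRange.inv ≫
      σ₀, ?_, ?_⟩
  · show S.isoSpec.hom.base (U.hom.base u) ∈
      (Spec.map (CommRingCat.ofHom (algebraMap Γ(S, ⊤) (Localization.Away a)))).opensRange
    have h3 : ((U.hom ≫ S.isoSpec.hom).base u) ∈ Set.range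
        (PrimeSpectrum.comap (algebraMap Γ(S, ⊤) (Localization.Away a))) := by
      rw [PrimeSpectrum.localization_away_comap_range (Localization.Away a) a]
      exact ha
    obtain ⟨z, hz⟩ := h3
    exact ⟨z, hz⟩
  · rw [← cancel_mono S.isoSpec.hom]
    simp only [Category.assoc]
    have h4 : σ₀ ≫ U.hom ≫ S.isoSpec.hom =
        Spec.map (CommRingCat.ofHom (algebraMap Γ(S, ⊤) (Localization.Away a))) := hσ₀
    rw [h4, Scheme.Hom.isoOpensRange_inv_comp, morphismRestrict_ι]

/-- The inclusion between restrictions of an etale scheme to open subschemes. -/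
noncomputable def resLE {X : Scheme.{u}} (B : X.Etale) {O O' : B.left.Opens} (hle : O ≤ O') :
    res B O ⟶ res B O' :=
  MorphismProperty.Over.homMk (B.left.homOfLE hle) (by
    show B.left.homOfLE hle ≫ (O'.ι ≫ B.hom) = O.ι ≫ B.hom
    rw [← Category.assoc, Scheme.homOfLE_ι]) trivial

theorem resLE_resMap {X : Scheme.{u}} (B : X.Etale) {O O' : B.left.Opens} (hle : O ≤ O') :
    resLE B hle ≫ resMap B O' = resMap B O := by
  apply MorphismProperty.Over.Hom.ext
  show B.left.homOfLE hle ≫ O'.ι = O.ι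
  exact Scheme.homOfLE_ι _ hle

/-- On an affine scheme with closed points, a section of the target of a morphism of abelian etale
sheaves which lifts Zariski-locally lifts globally. -/
theorem gsec_surjective_of_local {S : Scheme.{u}} [IsAffine S]
    (h1 : ∀ s : S, IsClosed ({s} : Set S)) {F G : EtCoh.Ab S} (φ : F ⟶ G)
    (t : G.obj.obj (op (EtCoh.top S)))
    (hloc : ∀ s : S, ∃ W : S.Opens, s ∈ W ∧
      ∃ τ : F.obj.obj (op (res (EtCoh.top S) W)),
        φ.hom.app (op (res (EtCoh.top S) W)) τ = G.obj.map (resMap (EtCoh.top S) W).op t) :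
    ∃ t' : F.obj.obj (op (EtCoh.top S)), φ.hom.app (op (EtCoh.top S)) t' = t := by
  classical
  choose W hW τ hτ using hloc
  have hcl : ∀ s : S, ∃ E : S.Opens, IsClosed (E : Set S) ∧ s ∈ E ∧ E ≤ W s :=
    fun s => exists_clopen_nbhd S h1 s (W s) (hW s)
  choose E hEc hEs hEW using hcl
  obtain ⟨T, hT⟩ := isCompact_univ.elim_finite_subcover (fun s => (E s : Set S))
    (fun s => (E s).isOpen) (fun x _ => Set.mem_iUnion.2 ⟨x, hEs x⟩)
  have hopen : ∀ x : S, IsOpen {y : S | ∀ s ∈ T, (y ∈ E s ↔ x ∈ E s)} := by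
    intro x
    have h0 : {y : S | ∀ s ∈ T, (y ∈ E s ↔ x ∈ E s)} =
        ⋂ s ∈ T, {y : S | y ∈ E s ↔ x ∈ E s} := by
      ext y
      simp only [Set.mem_ofPred_eq, Set.mem_iInter]
    rw [h0]
    refine isOpen_biInter_finset (fun s _ => ?_)
    by_cases hx : x ∈ E s
    · have h3 : {y : S | y ∈ E s ↔ x ∈ E s} = (E s : Set S) := by
        ext y
        simp only [Set.mem_ofPred_eq, hx, iff_true]
        rfl
      rw [h3]
      exact (E s).isOpen
    · have h3 : {y : S | y ∈ E s ↔ x ∈ E s} = (E s : Set S)ᶜ := by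
        ext y
        simp only [Set.mem_ofPred_eq, hx, iff_false]
        rfl
      rw [h3]
      exact (hEc s).isOpen_compl
  let cls : S → S.Opens := fun x =>
    ⟨{y : S | ∀ s ∈ T, (y ∈ E s ↔ x ∈ E s)}, hopen x⟩
  have hmem : ∀ x y : S, y ∈ cls x ↔ ∀ s ∈ T, (y ∈ E s ↔ x ∈ E s) := fun x y => Iff.rfl
  have hself : ∀ x : S, x ∈ cls x := fun x => (hmem x x).2 (fun s _ => Iff.rfl)
  have hclseq : ∀ x q : S, q ∈ cls x → cls q = cls x := by
    intro x q hq
    apply TopologicalSpace.Opens.ext
    ext y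
    show y ∈ cls q ↔ y ∈ cls x
    rw [hmem, hmem]
    constructor
    · intro hy s hs
      exact (hy s hs).trans ((hmem x q).1 hq s hs)
    · intro hy s hs
      exact (hy s hs).trans ((hmem x q).1 hq s hs).symm
  have hsub : ∀ x : S, ∃ s : S, cls x ≤ E s := by
    intro x
    have hx := hT (Set.mem_univ x)
    simp only [Set.mem_iUnion] at hx
    obtain ⟨s, hs, hxs⟩ := hx
    exact ⟨s, fun y hy => ((hmem x y).1 hy s hs).2 hxs⟩
  have hμsub : ∀ a : {O : S.Opens // ∃ x : S, O = cls x}, ∃ s : S, a.1 ≤ E s := by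
    rintro ⟨O, x, rfl⟩
    exact hsub x
  choose sa hsa using hμsub
  have hle : ∀ a : {O : S.Opens // ∃ x : S, O = cls x}, a.1 ≤ W (sa a) :=
    fun a => (hsa a).trans (hEW (sa a))
  have hdisj : ∀ a b : {O : S.Opens // ∃ x : S, O = cls x}, a ≠ b →
      ∀ q : (EtCoh.top S).left, q ∈ a.1 → q ∈ b.1 → False := by
    rintro ⟨O, x, rfl⟩ ⟨O', x', rfl⟩ hab q hq hq'
    apply hab
    apply Subtype.ext
    show cls x = cls x'
    rw [← hclseq x q hq, ← hclseq x' q hq']
  have hcov : ∀ q : (EtCoh.top S).left,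
      ∃ a : {O : S.Opens // ∃ x : S, O = cls x}, q ∈ a.1 :=
    fun q => ⟨⟨cls q, q, rfl⟩, hself q⟩
  obtain ⟨t', ht'⟩ := exists_glue_disjoint
    ((sheafCompose S.smallEtaleTopology (forget AddCommGrpCat.{u + 1})).obj F) (EtCoh.top S)
    (fun a : {O : S.Opens // ∃ x : S, O = cls x} => a.1) hdisj hcov
    (fun a => F.obj.map (resLE (EtCoh.top S) (hle a)).op (τ (sa a)))
  have ht'' : ∀ a : {O : S.Opens // ∃ x : S, O = cls x},
      F.obj.map (resMap (EtCoh.top S) a.1).op t' =
        F.obj.map (resLE (EtCoh.top S) (hle a)).op (τ (sa a)) := ht'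
  refine ⟨t', ?_⟩
  apply eq_of_locally_eq G (EtCoh.top S)
  intro b
  refine ⟨res (EtCoh.top S) (cls b), resMap (EtCoh.top S) (cls b), ⟨b, hself b⟩, rfl, ?_⟩
  have e1 : G.obj.map (resMap (EtCoh.top S) (cls b)).op (φ.hom.app _ t') =
      φ.hom.app _ (F.obj.map (resMap (EtCoh.top S) (cls b)).op t') :=
    (NatTrans.naturality_apply φ.hom (resMap (EtCoh.top S) (cls b)).op t').symm
  have e3 : F.obj.map (resMap (EtCoh.top S) (cls b)).op t' =
      F.obj.map (resLE (EtCoh.top S) (hle ⟨cls b, b, rfl⟩)).op (τ (sa ⟨cls b, b, rfl⟩)) :=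
    ht'' ⟨cls b, b, rfl⟩
  have e2 := NatTrans.naturality_apply φ.hom (resLE (EtCoh.top S) (hle ⟨cls b, b, rfl⟩)).op
    (τ (sa ⟨cls b, b, rfl⟩))
  rw [e1, e3, e2, hτ (sa ⟨cls b, b, rfl⟩), ← ConcreteCategory.comp_apply, ← G.obj.map_comp,
    ← op_comp, resLE_resMap]

/-- On an affine scheme all of whose points are closed with separably closed residue fields,
epimorphisms of abelian etale sheaves are surjective on global sections. -/
theorem gsec_map_surjective_of_zeroDim (S : Scheme.{u}) [IsAffine S]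
    (h1 : ∀ s : S, IsClosed ({s} : Set S)) (h2 : ∀ s : S, IsSepClosed (S.residueField s))
    {F G : EtCoh.Ab S} (φ : F ⟶ G) [Epi φ] :
    Function.Surjective (φ.hom.app (op (EtCoh.top S))) := by
  intro t
  apply gsec_surjective_of_local h1 φ t
  intro s
  obtain ⟨V, g, v, hv, t', ht'⟩ := exists_local_preimage_of_epi φ (EtCoh.top S) t s
  obtain ⟨W, σ, hW, hσ⟩ := exists_open_section h1 h2 V v
  have hw : g.left ≫ (EtCoh.top S).hom = V.hom := Over.w g.hom
  have hVs : V.hom.base v = s := by
    rw [← hw, ← hv]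
    rfl
  refine ⟨W, hVs ▸ hW, ?_⟩
  obtain ⟨σ', hσ'⟩ : ∃ σ' : res (EtCoh.top S) W ⟶ V, σ' ≫ g = resMap (EtCoh.top S) W :=
    ⟨MorphismProperty.Over.homMk σ (hσ.trans (Category.comp_id _).symm) trivial,
      (EtCore.topIsTerminal S).hom_ext _ _⟩
  refine ⟨F.obj.map σ'.op t', ?_⟩
  have e1 : G.obj.map (σ' ≫ g).op = G.obj.map g.op ≫ G.obj.map σ'.op :=
    G.obj.map_comp g.op σ'.op
  rw [← hσ', e1, ConcreteCategory.comp_apply, ← ht']
  exact NatTrans.naturality_apply φ.hom _ t'

end scheme

end Groth.Agent.H4
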