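import Mathlib
import Groth.Prelude.Def_EtCore
import Groth.Agent.H4.ZeroDim
import Groth.Agent.H4.GlueDisjoint
import Groth.Agent.H4.NormalConst

/-!
# Étale sheaves on a one-point affine scheme with separably closed residue field (helper4 library)

Let `S` be an affine scheme with a single point whose residue field is separably closed
(e.g. the spectrum of a separably closed field).

* `discreteTopology`: every étale `S`-scheme is topologically discrete.
* `isIso_hom_of_unique`: a one-point étale `S`-scheme maps isomorphically to `S`.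
* `sections_surjective`: epimorphisms of abelian étale sheaves on `S` are surjective on sections over
  every étale `S`-scheme.
* `epi_push`, `preservesFiniteColimits_push`: direct image along any `h : S ⟶ Z` is exact.
* `isSepClosed_residueField_spec`: the residue field of `Spec K` for a separably closed field `K`.
-/

set_option autoImplicit false
open CategoryTheory CategoryTheory.Limits AlgebraicGeometry Opposite
universe u

namespace Groth.Agent.H4.SepClosedPush

open Groth.Agent.H4

set_option backward.isDefEq.respectTransparency.types false in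
/-- A morphism whose composite with an unramified morphism (locally of finite type) is an open
immersion is an open immersion. -/
theorem isOpenImmersion_of_comp {X Y Z : Scheme.{u}} (f : X ⟶ Y) (g : Y ⟶ Z)
    [IsOpenImmersion (f ≫ g)] [LocallyOfFiniteType g] [FormallyUnramified g] :
    IsOpenImmersion f := by
  haveI : MorphismProperty.HasOfPostcompProperty @IsOpenImmersion
      (@LocallyOfFiniteType ⊓ @FormallyUnramified) := by
    rw [MorphismProperty.hasOfPostcompProperty_iff_le_diagonal]
    intro X Y f ⟨hft, hfu⟩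
    exact inferInstanceAs <| IsOpenImmersion (pullback.diagonal f)
  exact MorphismProperty.of_postcomp (W := @IsOpenImmersion)
    (W' := @LocallyOfFiniteType ⊓ @FormallyUnramified) f g ⟨‹_›, ‹_›⟩ ‹_›

/-- The residue field of the spectrum of a separably closed field is separably closed. -/
theorem isSepClosed_residueField_spec (K : CommRingCat.{u}) (hK : IsField K)
    (hs : @IsSepClosed K hK.toField) (x : Spec K) :
    IsSepClosed ((Spec K).residueField x) := by
  letI : Field K := hK.toField
  haveI : IsSepClosed K := hs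
  have h0 : x.asIdeal = ⊥ := Ideal.eq_bot_of_prime _
  haveI : x.asIdeal.IsMaximal := h0 ▸ Ideal.bot_isMaximal
  have hsurj : Function.Surjective (algebraMap K x.asIdeal.ResidueField) :=
    Ideal.algebraMap_residueField_surjective x.asIdeal
  let e1 : K ≃+* x.asIdeal.ResidueField :=
    RingEquiv.ofBijective (algebraMap K x.asIdeal.ResidueField)
      ⟨(algebraMap K x.asIdeal.ResidueField).injective, hsurj⟩
  let e2 : x.asIdeal.ResidueField ≃+* (Spec K).residueField x :=
    (Scheme.Spec.residueFieldIso K x).symm.commRingCatIsoToRingEquiv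
  exact isSepClosed_of_ringEquiv (e1.trans e2)

section Point

variable {S : Scheme.{u}} [IsAffine S] [Subsingleton S]

omit [IsAffine S] in
theorem isClosed_singleton' (s : S) : IsClosed ({s} : Set S) := by
  have h : ({s} : Set S) = Set.univ := by
    ext x
    simp only [Set.mem_singleton_iff, Set.mem_univ, iff_true]
    exact Subsingleton.elim _ _
  rw [h]
  exact isClosed_univ

omit [IsAffine S] in
/-- Étale schemes over a one-point scheme are discrete. -/
theorem discreteTopology (T : S.Etale) : DiscreteTopology T.left := by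
  haveI : Etale T.hom := T.prop
  haveI : LocallyQuasiFinite T.hom := NormalConst.locallyQuasiFinite_of_etale T.hom
  by_cases hne : Nonempty T.left
  · obtain ⟨t⟩ := hne
    have h := T.hom.isDiscrete_preimage_singleton (T.hom.base t)
    have hu : (T.hom ⁻¹' {T.hom.base t} : Set T.left) = Set.univ := by
      ext x
      simp only [Set.mem_preimage, Set.mem_singleton_iff, Set.mem_univ, iff_true]
      exact Subsingleton.elim (α := S) _ _
    rw [hu] at h
    exact isDiscrete_univ_iff.1 h
  · haveI : IsEmpty T.left := not_nonempty_iff.1 hne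
    infer_instance

/-- A one-point étale scheme over a one-point affine scheme with separably closed residue field
maps isomorphically to the base. -/
theorem isIso_hom_of_unique (h2 : ∀ s : S, IsSepClosed (S.residueField s)) (W : S.Etale)
    [Subsingleton W.left] [Nonempty W.left] : IsIso W.hom := by
  obtain ⟨w⟩ := ‹Nonempty W.left›
  obtain ⟨Wo, σ, hw, hσ⟩ := exists_open_section isClosed_singleton' h2 W w
  have hWo : Wo = ⊤ := by
    apply TopologicalSpace.Opens.ext
    ext x
    simp only [TopologicalSpace.Opens.coe_top, Set.mem_univ, iff_true]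
    rw [Subsingleton.elim x (W.hom.base w)]
    exact hw
  subst hWo
  haveI : Etale W.hom := W.prop
  haveI : IsOpenImmersion (σ ≫ W.hom) := by
    rw [hσ]
    infer_instance
  haveI : IsOpenImmersion σ := isOpenImmersion_of_comp σ W.hom
  haveI : Epi σ.base := by
    rw [TopCat.epi_iff_surjective]
    intro y
    exact ⟨⟨W.hom.base w, trivial⟩, Subsingleton.elim _ _⟩
  haveI : IsIso σ := IsOpenImmersion.isIso σ
  haveI : IsIso (⊤ : S.Opens).ι := by
    show IsIso S.topIso.hom
    infer_instance
  haveI : IsIso (σ ≫ W.hom) := by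
    rw [hσ]
    infer_instance
  exact IsIso.of_isIso_comp_left σ W.hom

/-- Over a one-point base with separably closed residue field, an étale morphism `g : V ⟶ T` has
a section over the open point `{t}` through any `v` above `t`. -/
theorem exists_point_section (h2 : ∀ s : S, IsSepClosed (S.residueField s)) {T V : S.Etale}
    (g : V ⟶ T) (v : V.left) (t : T.left) (hv : g.left.base v = t)
    (Ot : T.left.Opens) (hOt : ∀ x : T.left, x ∈ Ot ↔ x = t) :
    ∃ σ : res T Ot ⟶ V, σ ≫ g = resMap T Ot := by
  haveI := discreteTopology V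
  let Ov : V.left.Opens := ⟨{v}, isOpen_discrete _⟩
  have hOv : ∀ x : V.left, x ∈ Ov ↔ x = v := fun x => Iff.rfl
  haveI : Subsingleton (res V Ov).left :=
    ⟨fun a b => Subtype.ext (((hOv a.1).1 a.2).trans ((hOv b.1).1 b.2).symm)⟩
  haveI : Nonempty (res V Ov).left := ⟨⟨v, (hOv v).2 rfl⟩⟩
  haveI : Subsingleton (res T Ot).left :=
    ⟨fun a b => Subtype.ext (((hOt a.1).1 a.2).trans ((hOt b.1).1 b.2).symm)⟩
  haveI : Nonempty (res T Ot).left := ⟨⟨t, (hOt t).2 rfl⟩⟩
  haveI iv : IsIso (res V Ov).hom := isIso_hom_of_unique h2 _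
  haveI it : IsIso (res T Ot).hom := isIso_hom_of_unique h2 _
  have hle : Ov ≤ g.left ⁻¹ᵁ Ot := by
    intro x hx
    have hxv : x = v := (hOv x).1 hx
    show g.left.base x ∈ Ot
    rw [hxv, hv]
    exact (hOt t).2 rfl
  obtain ⟨r, hr⟩ : ∃ r : (Ov : Scheme.{u}) ⟶ (Ot : Scheme.{u}), r ≫ Ot.ι = Ov.ι ≫ g.left :=
    ⟨g.left.resLE Ot Ov hle, Scheme.Hom.resLE_comp_ι _ _⟩
  have hgw : g.left ≫ T.hom = V.hom := MorphismProperty.Over.w g
  obtain ⟨pT, hpT⟩ : ∃ p : (Ot : Scheme.{u}) ⟶ S, p = Ot.ι ≫ T.hom := ⟨_, rfl⟩
  obtain ⟨pV, hpV⟩ : ∃ p : (Ov : Scheme.{u}) ⟶ S, p = Ov.ι ≫ V.hom := ⟨_, rfl⟩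
  haveI iv' : IsIso pV := by
    rw [hpV]
    exact iv
  haveI it' : IsIso pT := by
    rw [hpT]
    exact it
  have hr2 : r ≫ pT = pV := by
    rw [hpT, hpV, ← Category.assoc, hr, Category.assoc, hgw]
  haveI : IsIso (r ≫ pT) := by
    rw [hr2]
    exact iv'
  haveI : IsIso r := IsIso.of_isIso_comp_right r pT
  have hσ1 : (inv r ≫ Ov.ι) ≫ g.left = Ot.ι := by
    rw [Category.assoc, ← hr, IsIso.inv_hom_id_assoc]
  obtain ⟨σl, hσl⟩ : ∃ σl : (Ot : Scheme.{u}) ⟶ V.left, σl ≫ g.left = Ot.ι :=
    ⟨inv r ≫ Ov.ι, hσ1⟩
  refine ⟨MorphismProperty.Over.homMk σl ?_ trivial, ?_⟩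
  · show σl ≫ V.hom = Ot.ι ≫ T.hom
    rw [← hgw, ← Category.assoc, hσl]
  · apply MorphismProperty.Over.Hom.ext
    exact hσl

/-- Epimorphisms of abelian étale sheaves on a one-point affine scheme with separably closed
residue field are surjective on sections over every étale scheme. -/
theorem sections_surjective (h2 : ∀ s : S, IsSepClosed (S.residueField s))
    {F G : EtCoh.Ab S} (φ : F ⟶ G) [Epi φ] (T : S.Etale) :
    Function.Surjective (φ.hom.app (op T)) := by
  intro s
  haveI := discreteTopology T
  let O : T.left → T.left.Opens := fun t => ⟨{t}, isOpen_discrete _⟩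
  have hO : ∀ t x : T.left, x ∈ O t ↔ x = t := fun t x => Iff.rfl
  have hloc : ∀ t : T.left, ∃ τ : F.obj.obj (op (res T (O t))),
      φ.hom.app (op (res T (O t))) τ = G.obj.map (resMap T (O t)).op s := by
    intro t
    obtain ⟨V, g, v, hv, τ, hτ⟩ := exists_local_preimage_of_epi φ T s t
    obtain ⟨σ, hσ⟩ := exists_point_section h2 g v t hv (O t) (hO t)
    refine ⟨F.obj.map σ.op τ, ?_⟩
    have e1 : G.obj.map (σ ≫ g).op = G.obj.map g.op ≫ G.obj.map σ.op :=
      G.obj.map_comp g.op σ.op
    rw [← hσ, e1, ConcreteCategory.comp_apply, ← hτ]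
    exact NatTrans.naturality_apply φ.hom _ τ
  choose τ hτ using hloc
  have hdisj : ∀ a b : T.left, a ≠ b → ∀ q : T.left, q ∈ O a → q ∈ O b → False := by
    intro a b hab q hqa hqb
    exact hab (((hO a q).1 hqa).symm.trans ((hO b q).1 hqb))
  have hcov : ∀ q : T.left, ∃ a : T.left, q ∈ O a := fun q => ⟨q, (hO q q).2 rfl⟩
  obtain ⟨t', ht'⟩ := exists_glue_disjoint
    ((sheafCompose S.smallEtaleTopology (forget AddCommGrpCat.{u + 1})).obj F) T O hdisj hcov τ
  have ht'' : ∀ a : T.left, F.obj.map (resMap T (O a)).op t' = τ a := ht'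
  refine ⟨t', ?_⟩
  apply eq_of_locally_eq G T
  intro b
  refine ⟨res T (O b), resMap T (O b), ⟨b, (hO b b).2 rfl⟩, rfl, ?_⟩
  have e1 : G.obj.map (resMap T (O b)).op (φ.hom.app _ t') =
      φ.hom.app _ (F.obj.map (resMap T (O b)).op t') :=
    (NatTrans.naturality_apply φ.hom (resMap T (O b)).op t').symm
  rw [e1, ht'' b, hτ b]

/-- Direct image along a morphism from a one-point affine scheme with separably closed residue
field preserves epimorphisms. -/
theorem epi_push (h2 : ∀ s : S, IsSepClosed (S.residueField s)) {Z : Scheme.{u}} (h : S ⟶ Z)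
    {F G : EtCoh.Ab S} (φ : F ⟶ G) [Epi φ] : Epi ((EtCoh.push h).map φ) := by
  haveI : Sheaf.IsLocallySurjective ((EtCoh.push h).map φ) := by
    constructor
    intro U s
    obtain ⟨t, ht⟩ := sections_surjective h2 φ ((EtCoh.bc h).obj U) s
    have hmem : (Presheaf.imageSieve ((EtCoh.push h).map φ).hom s).arrows (𝟙 U) := by
      refine ⟨t, ?_⟩
      have e2 : ((EtCoh.push h).obj G).obj.map (𝟙 U).op s = s := by
        rw [op_id, CategoryTheory.Functor.map_id]
        rfl
      rw [e2]
      exact ht
    rw [(Sieve.id_mem_iff_eq_top).1 hmem]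
    exact Z.smallEtaleTopology.top_mem U
  exact Sheaf.epi_of_isLocallySurjective _

/-- Direct image along a morphism from a one-point affine scheme with separably closed residue
field is exact. -/
theorem preservesFiniteColimits_push (h2 : ∀ s : S, IsSepClosed (S.residueField s))
    {Z : Scheme.{u}} (h : S ⟶ Z) : PreservesFiniteColimits (EtCoh.push h) := by
  haveI : PreservesFiniteLimits (EtCoh.push h) := by
    haveI : PreservesLimitsOfSize.{0, 0} (EtCoh.push h) :=
      (EtCoh.pullPushAdj h).rightAdjoint_preservesLimits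
    exact PreservesLimitsOfSize.preservesFiniteLimits _
  rw [Functor.preservesFiniteColimits_iff_forall_exact_map_and_epi]
  intro Sc hSc
  haveI := hSc.epi_g
  exact ⟨((Functor.preservesFiniteLimits_iff_forall_exact_map_and_mono _).1 inferInstance
    Sc hSc).1, epi_push h2 h Sc.g⟩

end Point

end Groth.Agent.H4.SepClosedPush
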