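import Mathlib

/-!
# Idempotents of `Ω ⊗[k] K` for `k` separably closed (helper4 library)

* `nilpotent_or_unit`: for `L/k` purely inseparable and `K/k` a field extension, every element of
  `L ⊗[k] K` is nilpotent or a unit.
* `isNilpotent_of_forall_point`: weak Nullstellensatz form: an element of a finitely generated algebra
  over an algebraically closed field `L` killed by all `L`-points is nilpotent.
* `idem_trivial_aux`, `idem_trivial`: for `k` separably closed, `Ω ⊇ k` algebraically closed and `K ⊇ k`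
  any field, `Ω ⊗[k] K` has only the trivial idempotents.
* `connectedSpace_tensor`: `PrimeSpectrum (Ω ⊗[k] K)` is connected.
-/

set_option autoImplicit false
open TensorProduct
universe u

namespace Groth.Agent.H4.SepClosedTensor

section PI

variable (k : Type u) [Field k] (L K : Type u) [Field L] [Field K] [Algebra k L] [Algebra k K]

theorem includeRight_injective' :
    Function.Injective (Algebra.TensorProduct.includeRight : K →ₐ[k] L ⊗[k] K) :=
  Algebra.TensorProduct.includeRight_injective (algebraMap k L).injective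

instance : Nontrivial (L ⊗[k] K) :=
  ⟨⟨0, 1, fun h => by
    have h1 : (Algebra.TensorProduct.includeRight : K →ₐ[k] L ⊗[k] K) 0 =
        (Algebra.TensorProduct.includeRight : K →ₐ[k] L ⊗[k] K) 1 := by
      rw [map_zero, map_one]; exact h
    exact zero_ne_one (includeRight_injective' k L K h1)⟩⟩

theorem nilpotent_or_unit [IsPurelyInseparable k L] (z : L ⊗[k] K) : IsNilpotent z ∨ IsUnit z := by
  obtain ⟨q, hq⟩ : ∃ q : ℕ, q = ringExpChar k := ⟨_, rfl⟩
  haveI : ExpChar k q := hq ▸ ringExpChar.expChar k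
  haveI : ExpChar (L ⊗[k] K) q :=
    expChar_of_injective_algebraMap (algebraMap k (L ⊗[k] K)).injective q
  have key : ∃ n : ℕ, z ^ q ^ n ∈
      (Algebra.TensorProduct.includeRight : K →ₐ[k] L ⊗[k] K).range := by
    induction z using TensorProduct.induction_on with
    | zero =>
      exact ⟨0, 0, by simp⟩
    | tmul l x =>
      obtain ⟨n, a, ha⟩ := IsPurelyInseparable.pow_mem k q l
      refine ⟨n, a • x ^ q ^ n, ?_⟩
      rw [Algebra.TensorProduct.tmul_pow, ← ha]
      show (1 : L) ⊗ₜ[k] (a • x ^ q ^ n) = _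
      rw [Algebra.algebraMap_eq_smul_one, TensorProduct.smul_tmul]
    | add x y hx hy =>
      obtain ⟨n, hn⟩ := hx
      obtain ⟨m, hm⟩ := hy
      refine ⟨n + m, ?_⟩
      rw [add_pow_expChar_pow]
      refine Subalgebra.add_mem _ ?_ ?_
      · rw [pow_add, pow_mul]
        exact Subalgebra.pow_mem _ hn _
      · rw [add_comm n m, pow_add, pow_mul]
        exact Subalgebra.pow_mem _ hm _
  obtain ⟨n, y, hy⟩ := key
  by_cases h0 : y = 0
  · left
    refine ⟨q ^ n, ?_⟩
    rw [← hy, h0, map_zero]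
  · right
    have hu : IsUnit (z ^ q ^ n) := by
      rw [← hy]
      exact (IsUnit.mk0 y h0).map _
    exact (isUnit_pow_iff (expChar_pow_pos k q n).ne').1 hu

end PI

section Null

theorem isNilpotent_of_forall_point (L : Type u) [Field L] [IsAlgClosed L] (B : Type u) [CommRing B]
    [Algebra L B] [Algebra.FiniteType L B] (x : B) (h : ∀ φ : B →ₐ[L] L, φ x = 0) :
    IsNilpotent x := by
  haveI : IsJacobsonRing B := isJacobsonRing_of_finiteType (A := L) (B := B)
  rw [← mem_nilradical]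
  have h1 : nilradical B = (⊥ : Ideal B).jacobson := Ideal.radical_eq_jacobson ⊥
  rw [h1, Ideal.jacobson, Ideal.mem_sInf]
  rintro m ⟨-, hm⟩
  haveI := hm
  letI : Field (B ⧸ m) := Ideal.Quotient.field m
  haveI : Module.Finite L (B ⧸ m) := finite_of_finite_type_of_isJacobsonRing L (B ⧸ m)
  have hbij : Function.Bijective (algebraMap L (B ⧸ m)) :=
    IsAlgClosed.algebraMap_bijective_of_isIntegral
  let ψ : L ≃ₐ[L] (B ⧸ m) := AlgEquiv.ofBijective (Algebra.ofId L (B ⧸ m)) hbij
  have h2 := h (ψ.symm.toAlgHom.comp (Ideal.Quotient.mkₐ L m))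
  have h3 : ψ.symm (Ideal.Quotient.mk m x) = 0 := h2
  have h4 : Ideal.Quotient.mk m x = 0 := by
    have := congrArg ψ h3
    rwa [AlgEquiv.apply_symm_apply, map_zero] at this
  exact Ideal.Quotient.eq_zero_iff_mem.1 h4

end Null

section Main

theorem eq_zero_of_idem_nilpotent {A : Type u} [CommRing A] {e : A} (he : IsIdempotentElem e)
    (hn : IsNilpotent e) : e = 0 := by
  obtain ⟨n, hn⟩ := hn
  have h1 : e ^ (n + 1) = e := he.pow_succ_eq n
  rw [← h1, pow_succ, hn, zero_mul]

variable (L : Type u) [Field L] [IsAlgClosed L] (Ω : Type u) [Field Ω] [Algebra L Ω]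
  (R : Type u) [CommRing R] [Algebra L R]

omit [IsAlgClosed L] in
theorem isNilpotent_sum_tmul {ι : Type u} (s : Finset ι) (x : ι → R) (b : ι → Ω)
    (hx : ∀ i ∈ s, IsNilpotent (x i)) : IsNilpotent (∑ i ∈ s, x i ⊗ₜ[L] b i) := by
  refine isNilpotent_sum (fun i hi => ?_)
  obtain ⟨n, hn⟩ := hx i hi
  exact ⟨n, by rw [Algebra.TensorProduct.tmul_pow, hn, zero_tmul]⟩

theorem idem_trivial_aux (hR : ∀ z : R, IsNilpotent z ∨ IsUnit z)
    (e : R ⊗[L] Ω) (he : IsIdempotentElem e) : e = 0 ∨ e = 1 := by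
  classical
  let b := Module.Free.chooseBasis L Ω
  let bR := Algebra.TensorProduct.basis R b
  obtain ⟨r, hr⟩ : ∃ r, r = bR.repr e := ⟨_, rfl⟩
  obtain ⟨c, hc⟩ : ∃ c, c = b.repr (1 : Ω) := ⟨_, rfl⟩
  let s : Finset _ := r.support ∪ c.support
  have he_sum : e = ∑ i ∈ s, r i ⊗ₜ[L] b i := by
    have h1 := bR.linearCombination_repr e
    rw [← hr, Finsupp.linearCombination_apply] at h1
    have h2 : (r.sum fun i a => a • bR i) = ∑ i ∈ s, r i • bR i :=
      Finsupp.sum_of_support_subset r Finset.subset_union_left (fun i a => a • bR i)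
        (fun i _ => zero_smul _ _)
    rw [h2] at h1
    rw [← h1]
    refine Finset.sum_congr rfl (fun i _ => ?_)
    exact Algebra.TensorProduct.basis_repr_symm_apply' b (r i) i
  have h1_sum : (1 : R ⊗[L] Ω) = ∑ i ∈ s, (algebraMap L R (c i)) ⊗ₜ[L] b i := by
    have h1 := b.linearCombination_repr (1 : Ω)
    rw [← hc, Finsupp.linearCombination_apply] at h1
    have h3 : (c.sum fun i a => a • b i) = ∑ i ∈ s, c i • b i :=
      Finsupp.sum_of_support_subset c Finset.subset_union_right (fun i a => a • b i)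
        (fun i _ => zero_smul _ _)
    rw [h3] at h1
    have h2 : (1 : R ⊗[L] Ω) = (1 : R) ⊗ₜ[L] (1 : Ω) := rfl
    rw [h2, ← h1, TensorProduct.tmul_sum]
    refine Finset.sum_congr rfl (fun i _ => ?_)
    rw [TensorProduct.tmul_smul, TensorProduct.smul_tmul', Algebra.algebraMap_eq_smul_one]
  let R₀ : Subalgebra L R := Algebra.adjoin L (↑(s.image r) : Set R)
  haveI : Algebra.FiniteType L R₀ :=
    (Subalgebra.fg_iff_finiteType _).1 (Subalgebra.fg_adjoin_finset _)
  have hmem : ∀ i ∈ s, r i ∈ R₀ := fun i hi =>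
    Algebra.subset_adjoin (Finset.mem_coe.2 (Finset.mem_image_of_mem r hi))
  let ρ : _ → R₀ := fun i => if hi : i ∈ s then ⟨r i, hmem i hi⟩ else 0
  have hρ : ∀ i, ((ρ i : R₀) : R) = r i := by
    intro i
    by_cases hi : i ∈ s
    · have : ρ i = ⟨r i, hmem i hi⟩ := dif_pos hi
      rw [this]
    · have : ρ i = 0 := dif_neg hi
      rw [this]
      have h1 : i ∉ r.support := fun h => hi (Finset.mem_union_left _ h)
      exact (Finsupp.notMem_support_iff.1 h1).symm
  obtain ⟨e₀, he₀def⟩ : ∃ e₀ : R₀ ⊗[L] Ω, e₀ = ∑ i ∈ s, ρ i ⊗ₜ[L] b i := ⟨_, rfl⟩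
  let j : R₀ ⊗[L] Ω →ₐ[L] R ⊗[L] Ω := Algebra.TensorProduct.map R₀.val (AlgHom.id L Ω)
  have hje : j e₀ = e := by
    rw [he_sum, he₀def, map_sum]
    refine Finset.sum_congr rfl (fun i _ => ?_)
    rw [Algebra.TensorProduct.map_tmul]
    show ((ρ i : R₀) : R) ⊗ₜ[L] b i = _
    rw [hρ]
  have hjinj : Function.Injective j := by
    have h1 : Function.Injective (R₀.val.toLinearMap.rTensor Ω) :=
      Module.Flat.rTensor_preserves_injective_linearMap _ Subtype.val_injective
    have h2 : ∀ x, j x = R₀.val.toLinearMap.rTensor Ω x := by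
      intro x
      induction x using TensorProduct.induction_on with
      | zero => rw [map_zero, map_zero]
      | tmul a w => rfl
      | add x y hx hy => rw [map_add, map_add, hx, hy]
    intro x y hxy
    apply h1
    rw [← h2, ← h2, hxy]
  have he₀ : IsIdempotentElem e₀ := hjinj (by rw [map_mul, hje]; exact he)
  have hpt : ∀ φ : R₀ →ₐ[L] L, (∀ i, φ (ρ i) = 0) ∨ (∀ i, φ (ρ i) = c i) := by
    intro φ
    let Φ : R₀ ⊗[L] Ω →ₐ[L] Ω :=
      Algebra.TensorProduct.lift ((Algebra.ofId L Ω).comp φ) (AlgHom.id L Ω)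
        (fun _ _ => Commute.all _ _)
    have hΦ : Φ e₀ = ∑ i ∈ s, φ (ρ i) • b i := by
      rw [he₀def, map_sum]
      refine Finset.sum_congr rfl (fun i _ => ?_)
      rw [Algebra.TensorProduct.lift_tmul]
      show algebraMap L Ω (φ (ρ i)) * b i = _
      rw [Algebra.smul_def]
    have hid : IsIdempotentElem (Φ e₀) := he₀.map Φ
    have hcoef : ∀ i, b.repr (Φ e₀) i = φ (ρ i) := by
      intro i
      rw [hΦ, map_sum, Finsupp.finsetSum_apply]
      simp only [map_smul, Module.Basis.repr_self, Finsupp.smul_apply, Finsupp.single_apply,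
        smul_eq_mul, mul_ite, mul_one, mul_zero, Finset.sum_ite_eq']
      split_ifs with hi
      · rfl
      · have : ρ i = 0 := dif_neg hi
        rw [this, map_zero]
    rcases (IsIdempotentElem.iff_eq_zero_or_one.1 hid) with h0 | h1
    · left
      intro i
      rw [← hcoef i, h0, map_zero]
      rfl
    · right
      intro i
      rw [← hcoef i, h1, ← hc]
  obtain ⟨i₀, hi₀⟩ : ∃ i, c i ≠ 0 := by
    by_contra hcon
    push Not at hcon
    have h0 : c = 0 := Finsupp.ext hcon
    have h1 : b.repr (1 : Ω) = b.repr 0 := by rw [← hc, h0, map_zero]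
    exact one_ne_zero (b.repr.injective h1)
  have hnil : ∀ x : R₀, (∀ φ : R₀ →ₐ[L] L, φ x = 0) → IsNilpotent (x : R) := by
    intro x hx
    exact (isNilpotent_of_forall_point L R₀ x hx).map R₀.val
  have hnil' : ∀ x : R₀, IsNilpotent (x : R) → ∀ φ : R₀ →ₐ[L] L, φ x = 0 := by
    rintro x ⟨n, hn⟩ φ
    have h1 : x ^ n = 0 := Subtype.ext (by simpa using hn)
    have h2 : IsNilpotent (φ x) := ⟨n, by rw [← map_pow, h1, map_zero]⟩
    exact h2.eq_zero
  have hy : ∀ φ : R₀ →ₐ[L] L, φ (ρ i₀ * (ρ i₀ - algebraMap L R₀ (c i₀))) = 0 := by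
    intro φ
    rw [map_mul, map_sub, AlgHom.commutes]
    rcases hpt φ with h | h
    · rw [h i₀, zero_mul]
    · rw [h i₀]
      simp
  have hT : IsNilpotent (r i₀ * (r i₀ - algebraMap L R (c i₀))) := by
    have h := hnil _ hy
    have h' : ((ρ i₀ * (ρ i₀ - algebraMap L R₀ (c i₀)) : R₀) : R) =
        r i₀ * (r i₀ - algebraMap L R (c i₀)) := by
      rw [Subalgebra.coe_mul, Subalgebra.coe_sub, hρ]
      rfl
    rwa [h'] at h
  rcases hR (r i₀) with hA | hB
  · left
    have h1 : ∀ φ : R₀ →ₐ[L] L, φ (ρ i₀) = 0 := hnil' _ (by rw [hρ]; exact hA)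
    have h2 : ∀ i, ∀ φ : R₀ →ₐ[L] L, φ (ρ i) = 0 := by
      intro i φ
      rcases hpt φ with h | h
      · exact h i
      · exact absurd ((h i₀).symm.trans (h1 φ)) hi₀
    have h3 : ∀ i ∈ s, IsNilpotent (r i) := fun i _ => by
      have := hnil _ (h2 i)
      rwa [hρ] at this
    have h4 : IsNilpotent e := by
      rw [he_sum]
      exact isNilpotent_sum_tmul L Ω R s r b h3
    exact eq_zero_of_idem_nilpotent he h4
  · right
    have hx : IsNilpotent (r i₀ - algebraMap L R (c i₀)) := by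
      obtain ⟨n, hn⟩ := hT
      refine ⟨n, ?_⟩
      rw [mul_pow] at hn
      exact (hB.pow n).mul_right_eq_zero.1 hn
    have h1 : ∀ φ : R₀ →ₐ[L] L, φ (ρ i₀) = c i₀ := by
      intro φ
      have := hnil' (ρ i₀ - algebraMap L R₀ (c i₀))
        (by rw [Subalgebra.coe_sub, hρ]; exact hx) φ
      rw [map_sub, AlgHom.commutes, sub_eq_zero] at this
      simpa using this
    have h2 : ∀ i, ∀ φ : R₀ →ₐ[L] L, φ (ρ i - algebraMap L R₀ (c i)) = 0 := by
      intro i φ
      rw [map_sub, AlgHom.commutes, sub_eq_zero]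
      rcases hpt φ with h | h
      · exact absurd ((h1 φ).symm.trans (h i₀)) hi₀
      · simpa using h i
    have h3 : ∀ i ∈ s, IsNilpotent (r i - algebraMap L R (c i)) := fun i _ => by
      have := hnil _ (h2 i)
      rwa [Subalgebra.coe_sub, hρ] at this
    have h4 : e - 1 = ∑ i ∈ s, (r i - algebraMap L R (c i)) ⊗ₜ[L] b i := by
      conv_lhs => rw [he_sum, h1_sum]
      rw [← Finset.sum_sub_distrib]
      refine Finset.sum_congr rfl (fun i _ => ?_)
      rw [TensorProduct.sub_tmul]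
    have h5 : IsNilpotent (1 - e) := by
      have h : IsNilpotent (e - 1) := by
        rw [h4]
        exact isNilpotent_sum_tmul L Ω R s _ b h3
      rw [← neg_sub]
      exact h.neg
    have h6 := eq_zero_of_idem_nilpotent he.one_sub h5
    exact (sub_eq_zero.1 h6).symm

end Main

section Final

variable (k : Type u) [Field k] [IsSepClosed k] (Ω : Type u) [Field Ω] [IsAlgClosed Ω] [Algebra k Ω]
  (K : Type u) [Field K] [Algebra k K]

omit [IsSepClosed k] [IsAlgClosed Ω] in
theorem idem_trivial' (L : Type u) [Field L] [Algebra k L] [Algebra L Ω] [IsScalarTower k L Ω]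
    [IsAlgClosed L] [IsPurelyInseparable k L]
    (e : Ω ⊗[k] K) (he : IsIdempotentElem e) : e = 0 ∨ e = 1 := by
  let ψ₁ : Ω ⊗[L] (L ⊗[k] K) ≃ₐ[L] Ω ⊗[k] K :=
    Algebra.TensorProduct.cancelBaseChange k L L Ω K
  let ψ₂ : (L ⊗[k] K) ⊗[L] Ω ≃ₐ[L] Ω ⊗[L] (L ⊗[k] K) :=
    Algebra.TensorProduct.comm L (L ⊗[k] K) Ω
  obtain ⟨ψ, -⟩ : ∃ ψ : (L ⊗[k] K) ⊗[L] Ω ≃ₐ[L] Ω ⊗[k] K, ψ = ψ₂.trans ψ₁ := ⟨_, rfl⟩
  have h := idem_trivial_aux L Ω (L ⊗[k] K) (nilpotent_or_unit k L K) (ψ.symm e) (he.map ψ.symm)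
  rcases h with h | h
  · left
    have := congrArg ψ h
    rwa [AlgEquiv.apply_symm_apply, map_zero] at this
  · right
    have := congrArg ψ h
    rwa [AlgEquiv.apply_symm_apply, map_one] at this

/-- For `k` separably closed, `Ω ⊇ k` algebraically closed and `K ⊇ k` any field, the ring `Ω ⊗[k] K` has
only the trivial idempotents. -/
theorem idem_trivial (e : Ω ⊗[k] K) (he : IsIdempotentElem e) : e = 0 ∨ e = 1 := by
  haveI : IsAlgClosed (algebraicClosure k Ω) := IsAlgClosure.isAlgClosed k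
  exact idem_trivial' k Ω K (algebraicClosure k Ω) e he

theorem connectedSpace_tensor : ConnectedSpace (PrimeSpectrum (Ω ⊗[k] K)) := by
  rw [connectedSpace_iff_clopen]
  refine ⟨inferInstance, fun s hs => ?_⟩
  obtain ⟨e, he, rfl⟩ := PrimeSpectrum.isClopen_iff.1 hs
  rcases idem_trivial k Ω K e he with h | h
  · left
    rw [h]
    simp
  · right
    rw [h]
    simp

end Final

end Groth.Agent.H4.SepClosedTensor
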