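import Mathlib.Topology.Spectral.Basic
import Mathlib.Topology.QuasiSeparated
import Mathlib.Topology.Sober

set_option autoImplicit false
universe u

open Topology TopologicalSpace

namespace Groth.Agent.H4

theorem quasiSeparatedSpace_of_isClosedEmbedding {X Y : Type*} [TopologicalSpace X]
    [TopologicalSpace Y] [QuasiSeparatedSpace X] [PrespectralSpace X] {f : Y → X}
    (hf : IsClosedEmbedding f) : QuasiSeparatedSpace Y := by
  let b : {W : Set X // IsOpen W ∧ IsCompact W} → Set Y := fun W => f ⁻¹' W.1
  have hb : IsTopologicalBasis (Set.range b) := by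
    have := (PrespectralSpace.isTopologicalBasis (X := X)).isInducing hf.isInducing
    convert this using 1
    ext s
    simp only [Set.mem_range, Set.mem_image, Subtype.exists, b]
    constructor
    · rintro ⟨W, hW, rfl⟩
      exact ⟨W, hW, rfl⟩
    · rintro ⟨W, hW, rfl⟩
      exact ⟨W, hW, rfl⟩
  refine QuasiSeparatedSpace.of_isTopologicalBasis hb ?_
  rintro ⟨W, hWo, hWc⟩ ⟨W', hWo', hWc'⟩
  have : f ⁻¹' W ∩ f ⁻¹' W' = f ⁻¹' (W ∩ W') := Set.preimage_inter.symm
  simp only [b]
  rw [this]
  exact hf.isCompact_preimage (hWc.inter_of_isOpen hWc' hWo hWo')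

theorem spectralSpace_of_isClosedEmbedding {X Y : Type*} [TopologicalSpace X]
    [TopologicalSpace Y] [SpectralSpace X] {f : Y → X}
    (hf : IsClosedEmbedding f) : SpectralSpace Y :=
  { toT0Space := hf.isEmbedding.t0Space
    toCompactSpace := hf.compactSpace
    toQuasiSober := hf.quasiSober
    toQuasiSeparatedSpace := quasiSeparatedSpace_of_isClosedEmbedding hf
    toPrespectralSpace := PrespectralSpace.of_isClosedEmbedding f hf }

end Groth.Agent.H4
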