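import Mathlib
import Groth.Agent.H4.StalkPull
import Groth.Agent.H4.GeomPoints
import Groth.Agent.H4.SiteBasics

/-!
Local injectivity and surjectivity from chosen geometric points, and consequences for inverse image
along a surjective morphism.
-/

set_option autoImplicit false
open CategoryTheory CategoryTheory.Limits Opposite GrothendieckTopology AlgebraicGeometry
universe w' v' u' v u

namespace Groth.Agent.H4

section

variable {A : Type u'} [Category.{v'} A] [HasColimitsOfSize.{u, u} A]
  {FC : A → A → Type*} {CC : A → Type w'} [∀ X Y, FunLike (FC X Y) (CC X) (CC Y)]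
  [ConcreteCategory.{w'} A FC] [PreservesFilteredColimitsOfSize.{u, u} (forget A)]

theorem isLocallyInjective_of_stalks' {X : Scheme.{u}} {P Q : X.Etaleᵒᵖ ⥤ A} (f : P ⟶ Q)
    (h : ∀ (U : X.Etale) (u : U.left), ∃ (Ω : Type u) (_ : Field Ω) (_ : IsSepClosed Ω)
      (ξ : Spec (CommRingCat.of Ω) ⟶ X) (t : (Scheme.pointSmallEtale ξ).fiber.obj U),
      t.left.base (default : Spec (CommRingCat.of Ω)) = u ∧
        Function.Injective ((Scheme.pointSmallEtale ξ).presheafFiber.map f)) :
    Presheaf.IsLocallyInjective X.smallEtaleTopology f := by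
  constructor
  intro U x y hxy
  apply mem_smallEtaleTopology_of_forall
  intro u
  obtain ⟨Ω, _, _, ξ, t, ht, hinj⟩ := h U.unop u
  have h1 : (Scheme.pointSmallEtale ξ).toPresheafFiber U.unop t P x =
      (Scheme.pointSmallEtale ξ).toPresheafFiber U.unop t P y := by
    apply hinj
    rw [GrothendieckTopology.Point.toPresheafFiber_naturality_apply,
      GrothendieckTopology.Point.toPresheafFiber_naturality_apply]
    exact congrArg _ hxy
  obtain ⟨V, g, v, hv, hg⟩ :=
    ((Scheme.pointSmallEtale ξ).toPresheafFiber_eq_iff' U.unop t x y).1 h1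
  refine ⟨V, g, v.left.base (default : Spec (CommRingCat.of Ω)), hg, ?_⟩
  rw [← ht, ← hv]
  rfl

theorem isLocallySurjective_of_stalks' {X : Scheme.{u}} {P Q : X.Etaleᵒᵖ ⥤ A} (f : P ⟶ Q)
    (h : ∀ (U : X.Etale) (u : U.left), ∃ (Ω : Type u) (_ : Field Ω) (_ : IsSepClosed Ω)
      (ξ : Spec (CommRingCat.of Ω) ⟶ X) (t : (Scheme.pointSmallEtale ξ).fiber.obj U),
      t.left.base (default : Spec (CommRingCat.of Ω)) = u ∧
        Function.Surjective ((Scheme.pointSmallEtale ξ).presheafFiber.map f)) :
    Presheaf.IsLocallySurjective X.smallEtaleTopology f := by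
  constructor
  intro U s
  apply mem_smallEtaleTopology_of_forall
  intro u
  obtain ⟨Ω, _, _, ξ, t, ht, hsurj⟩ := h U u
  obtain ⟨p, hp⟩ := hsurj ((Scheme.pointSmallEtale ξ).toPresheafFiber U t Q s)
  obtain ⟨V, v, z, rfl⟩ := (Scheme.pointSmallEtale ξ).toPresheafFiber_jointly_surjective p
  rw [GrothendieckTopology.Point.toPresheafFiber_naturality_apply] at hp
  let e1 : (Scheme.pointSmallEtale ξ).fiber.Elements := ⟨V, v⟩
  let e2 : (Scheme.pointSmallEtale ξ).fiber.Elements := ⟨U, t⟩
  let m := IsCofiltered.min e1 e2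
  let a : m ⟶ e1 := IsCofiltered.minToLeft e1 e2
  let b : m ⟶ e2 := IsCofiltered.minToRight e1 e2
  have ha : (Scheme.pointSmallEtale ξ).fiber.map a.1 m.2 = v := a.2
  have hb : (Scheme.pointSmallEtale ξ).fiber.map b.1 m.2 = t := b.2
  have h1 : (Scheme.pointSmallEtale ξ).toPresheafFiber m.1 m.2 Q (Q.map a.1.op (f.app _ z)) =
      (Scheme.pointSmallEtale ξ).toPresheafFiber m.1 m.2 Q (Q.map b.1.op s) := by
    rw [GrothendieckTopology.Point.toPresheafFiber_w_apply,
      GrothendieckTopology.Point.toPresheafFiber_w_apply, ha, hb]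
    exact hp
  obtain ⟨W', c, w', hw', hc⟩ :=
    ((Scheme.pointSmallEtale ξ).toPresheafFiber_eq_iff' m.1 m.2 _ _).1 h1
  refine ⟨W', c ≫ b.1, w'.left.base (default : Spec (CommRingCat.of Ω)),
    ⟨P.map (c ≫ a.1).op z, ?_⟩, ?_⟩
  · rw [NatTrans.naturality_apply, op_comp, Q.map_comp, op_comp, Q.map_comp,
      ConcreteCategory.comp_apply, ConcreteCategory.comp_apply]
    exact hc
  · have e : t = (Scheme.pointSmallEtale ξ).fiber.map b.1
        ((Scheme.pointSmallEtale ξ).fiber.map c w') := by rw [hw', hb]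
    have h2 := congrArg (fun q : (Scheme.pointSmallEtale ξ).fiber.obj U =>
      q.left.base (default : Spec (CommRingCat.of Ω))) e
    exact h2.symm.trans ht

end

open Groth.Agent.S0100 Groth.Agent.S19885

/-- Over a surjective morphism, every point of an etale scheme is the centre of a geometric point
coming from the source. -/
theorem exists_point_over {X' X : Scheme.{u}} (f : X' ⟶ X) [Surjective f] (U : X.Etale)
    (u : U.left) :
    ∃ (Ω : Type u) (_ : Field Ω) (_ : IsSepClosed Ω) (ξ : Spec (CommRingCat.of Ω) ⟶ X')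
      (t : (Scheme.pointSmallEtale (ξ ≫ f)).fiber.obj U),
      t.left.base (default : Spec (CommRingCat.of Ω)) = u := by
  obtain ⟨y', hy'⟩ := (inferInstance : Surjective f).surj (U.hom.base u)
  obtain ⟨x', hx1, hx2⟩ := Scheme.Pullback.exists_preimage_pullback
    (f := U.hom) (g := f) u y' hy'.symm
  obtain ⟨Ω, hΩ, hΩ', ξ, σ, hσ⟩ := exists_geometric_point ((EtCoh.bc f).obj U) x'
  refine ⟨Ω, hΩ, hΩ', ξ, downPt f ξ U σ, ?_⟩
  have h2 : (downPt f ξ U σ).left = σ.left ≫ pullback.fst U.hom f := downPt_left f ξ U σ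
  have h3 : (downPt f ξ U σ).left.base (default : Spec (CommRingCat.of Ω)) =
      (pullback.fst U.hom f).base (σ.left.base (default : Spec (CommRingCat.of Ω))) :=
    congrArg (fun q => q.base (default : Spec (CommRingCat.of Ω))) h2
  rw [h3, hσ, hx1]

end Groth.Agent.H4
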