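import Mathlib
import Groth.Prelude.Def_EtCore
import Groth.Prelude.Def_EtZar
import Groth.Agent.H4.EtZarCmp
import Groth.Agent.H4.LocVanish

/-!
# Zariski acyclicity of sheaves that are acyclic on affine étale schemes (helper4 library)

If `G` is an abelian étale sheaf on an affine scheme `S` with `H^i(T, G|_T) = 0` for all affine étale
`T ⟶ S` and `i ≥ 1`, then `H^i(S_Zar, G|_Zar) = 0` for `i ≥ 1` (dimension shifting: the restriction to
the Zariski site preserves injectives and is exact on sequences starting with such a `G`).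
-/

set_option autoImplicit false
open CategoryTheory CategoryTheory.Limits AlgebraicGeometry Opposite CategoryTheory.Abelian
  TopologicalSpace
universe u

namespace Groth.Agent.H4.ZarAcyc

open Groth.Agent.H4 Groth.Agent.H4.EtZarCmp

/-- `G` has no higher cohomology on affine étale `S`-schemes (in `Ext(j_!ℤ, -)` form). -/
def Acyc {S : Scheme.{u}} (G : EtCoh.Ab S) : Prop :=
  ∀ (T : Scheme.{u}) (j : T ⟶ S) [Etale j], IsAffine T →
    ∀ (i : ℕ) (x : Ext.{u + 1} (Tr.PP j) G (i + 1)), x = 0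

theorem acyc_of_hyp {S : Scheme.{u}} (G : EtCoh.Ab S)
    (hG : ∀ (T : S.Etale), IsAffine T.left → ∀ i : ℕ, 1 ≤ i →
      Subsingleton (EtCoh.H T.left ((EtCoh.pull T.hom).obj G) i)) : Acyc G := by
  intro T j _ hT i x
  haveI : Subsingleton (EtCoh.H T ((EtCoh.pull j).obj G) (i + 1)) :=
    hG (Scheme.Etale.mk j) hT (i + 1) (by omega)
  exact (Tr.rhoP_bijective j G (i + 1)).1 (Subsingleton.elim _ _)

theorem acyc_shift {S : Scheme.{u}} {C : ShortComplex (EtCoh.Ab S)} (hC : C.ShortExact)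
    [Injective C.X₂] (h : Acyc C.X₁) : Acyc C.X₃ := by
  intro T j _ hT i x
  have h1 : x.comp hC.extClass rfl = 0 := h T j hT (i + 1) _
  obtain ⟨y, hy⟩ := Ext.covariant_sequence_exact₃ (Tr.PP j) hC x rfl h1
  have hy0 : y = 0 := Ext.eq_zero_of_injective _
  rw [← hy, hy0, Ext.zero_comp]

theorem lift_section {S : Scheme.{u}} {C : ShortComplex (EtCoh.Ab S)} (hC : C.ShortExact)
    (h : Acyc C.X₁) {T : Scheme.{u}} (j : T ⟶ S) [Etale j] (hT : IsAffine T)
    (s : ToType (C.X₃.obj.obj (op ((EtShriek.compEtale j).obj (EtCoh.top T))))) :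
    ∃ t : ToType (C.X₂.obj.obj (op ((EtShriek.compEtale j).obj (EtCoh.top T)))),
      (C.g.hom.app (op ((EtShriek.compEtale j).obj (EtCoh.top T)))).hom t = s := by
  obtain ⟨l, hl⟩ := (Tr.isRep_P j C.X₃).2 (Tr.fromZZ s)
  have hl' : Tr.sigmaP j ≫ l.hom.app (op ((EtShriek.compEtale j).obj (EtCoh.top T))) =
      Tr.fromZZ s := hl
  have h1 : (Ext.mk₀ l).comp hC.extClass (zero_add 1) = 0 := h T j hT 0 _
  obtain ⟨y, hy⟩ := Ext.covariant_sequence_exact₃ (Tr.PP j) hC (Ext.mk₀ l) (zero_add 1) h1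
  obtain ⟨l', rfl⟩ := (Ext.mk₀_bijective _ _).2 y
  have hl2 : l' ≫ C.g = l :=
    (Ext.mk₀_bijective _ _).1 ((Ext.mk₀_comp_mk₀ l' C.g).symm.trans hy)
  refine ⟨(Tr.sigmaP j ≫ l'.hom.app (op ((EtShriek.compEtale j).obj (EtCoh.top T)))).hom ⟨1⟩, ?_⟩
  have h3 : (Tr.sigmaP j ≫ l'.hom.app (op ((EtShriek.compEtale j).obj (EtCoh.top T)))) ≫
      C.g.hom.app (op ((EtShriek.compEtale j).obj (EtCoh.top T))) = Tr.fromZZ s := by
    rw [← hl', ← hl2, Category.assoc]
    rfl
  exact (congrArg (fun f => f.hom ⟨1⟩) h3).trans (Tr.fromZZ_one s)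

theorem lift_section' {S : Scheme.{u}} {C : ShortComplex (EtCoh.Ab S)} (hC : C.ShortExact)
    (h : Acyc C.X₁) {T : Scheme.{u}} (j : T ⟶ S) [Etale j] (hT : IsAffine T) {W : S.Etale}
    (c : (EtShriek.compEtale j).obj (EtCoh.top T) ⟶ W)
    (d : W ⟶ (EtShriek.compEtale j).obj (EtCoh.top T)) (hdc : d ≫ c = 𝟙 W)
    (s : ToType (C.X₃.obj.obj (op W))) :
    ∃ t : ToType (C.X₂.obj.obj (op W)), (C.g.hom.app (op W)).hom t = s := by
  obtain ⟨tY, htY⟩ := lift_section hC h j hT ((C.X₃.obj.map c.op).hom s)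
  refine ⟨(C.X₂.obj.map d.op).hom tY, ?_⟩
  have e1 : (C.g.hom.app (op W)).hom ((C.X₂.obj.map d.op).hom tY) =
      (C.X₃.obj.map d.op).hom
        ((C.g.hom.app (op ((EtShriek.compEtale j).obj (EtCoh.top T)))).hom tY) :=
    NatTrans.naturality_apply C.g.hom d.op tY
  have e2 : C.X₃.obj.map c.op ≫ C.X₃.obj.map d.op = 𝟙 _ := by
    rw [← Functor.map_comp, ← op_comp, hdc, op_id, CategoryTheory.Functor.map_id]
  exact e1.trans ((congrArg (fun z => (C.X₃.obj.map d.op).hom z) htY).trans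
    (congrArg (fun f => f.hom s) e2))

theorem lift_global {S : Scheme.{u}} [IsAffine S] {C : ShortComplex (EtCoh.Ab S)}
    (hC : C.ShortExact) (h : Acyc C.X₁) (q : EtCoh.const S ℤ ⟶ C.X₃) :
    ∃ p : EtCoh.const S ℤ ⟶ C.X₂, p ≫ C.g = q := by
  let c : (EtShriek.compEtale (𝟙 S)).obj (EtCoh.top S) ⟶ EtCoh.top S :=
    MorphismProperty.Over.homMk (𝟙 S) rfl trivial
  let d : EtCoh.top S ⟶ (EtShriek.compEtale (𝟙 S)).obj (EtCoh.top S) :=
    MorphismProperty.Over.homMk (𝟙 S) (by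
      show 𝟙 S ≫ ((EtCoh.top S).hom ≫ 𝟙 S) = (EtCoh.top S).hom
      exact (Category.id_comp _).trans (Category.comp_id _)) trivial
  have hdc : d ≫ c = 𝟙 _ := (EtCore.topIsTerminal S).hom_ext _ _
  obtain ⟨t, ht⟩ := lift_section' hC h (𝟙 S) inferInstance c d hdc
    (((EtCore.constAdj S).unit.app MV.ZZ ≫ q.hom.app (op (EtCoh.top S))).hom ⟨1⟩)
  obtain ⟨p, hp⟩ := (MV.isRep_const S C.X₂).2 (Tr.fromZZ t)
  have hp' : (EtCore.constAdj S).unit.app MV.ZZ ≫ p.hom.app (op (EtCoh.top S)) =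
      Tr.fromZZ t := hp
  refine ⟨p, ?_⟩
  apply (MV.isRep_const S C.X₃).1
  show (EtCore.constAdj S).unit.app MV.ZZ ≫ (p ≫ C.g).hom.app (op (EtCoh.top S)) =
    (EtCore.constAdj S).unit.app MV.ZZ ≫ q.hom.app (op (EtCoh.top S))
  rw [ObjectProperty.FullSubcategory.comp_hom, NatTrans.comp_app, ← Category.assoc, hp']
  apply Tr.ZZ_hom_ext
  show (C.g.hom.app (op (EtCoh.top S))).hom ((Tr.fromZZ t).hom ⟨1⟩) = _
  rw [Tr.fromZZ_one]
  exact ht

section Zar

variable (S : Scheme.{u}) [EtZar.ZarCont S]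

theorem epi_resZar_of_acyc {C : ShortComplex (EtCoh.Ab S)}
    (hC : C.ShortExact) (h : Acyc C.X₁) : Epi ((EtZar.resZar S).map C.g) := by
  have hls : Sheaf.IsLocallySurjective ((EtZar.resZar S).map C.g) := by
    refine ⟨fun {U : S.Opens} s => ?_⟩
    refine (Opens.mem_grothendieckTopology _).2 (fun x hx => ?_)
    obtain ⟨V, hV, hxV, hVU⟩ := exists_isAffineOpen_mem_and_subset (X := S) (x := x) (U := U) hx
    have hVU' : V ≤ U := hVU
    let s' : ToType (C.X₃.obj.obj (op ((EtZar.zarToEt S).obj U))) := s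
    let c : (EtShriek.compEtale V.ι).obj (EtCoh.top (V : Scheme.{u})) ⟶ (EtZar.zarToEt S).obj V :=
      MorphismProperty.Over.homMk (𝟙 _) rfl trivial
    let d : (EtZar.zarToEt S).obj V ⟶ (EtShriek.compEtale V.ι).obj (EtCoh.top (V : Scheme.{u})) :=
      MorphismProperty.Over.homMk (𝟙 _) (by
        show 𝟙 _ ≫ (𝟙 _ ≫ V.ι) = V.ι
        exact (Category.id_comp _).trans (Category.id_comp _)) trivial
    have hdc : d ≫ c = 𝟙 _ := zar_hom_ext _ _
    obtain ⟨t, ht⟩ := lift_section' hC h V.ι hV c d hdc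
      ((C.X₃.obj.map ((EtZar.zarToEt S).map (homOfLE hVU')).op).hom s')
    exact ⟨V, homOfLE hVU', ⟨t, ht⟩, hxV⟩
  haveI := hls
  exact Sheaf.epi_of_isLocallySurjective _

theorem shortExact_resZar {C : ShortComplex (EtCoh.Ab S)}
    (hC : C.ShortExact) (h : Acyc C.X₁) : (C.map (EtZar.resZar S)).ShortExact := by
  have h30 := (Functor.preservesFiniteLimits_tfae (EtZar.resZar S)).out 3 0
  obtain ⟨hex, hmono⟩ := h30.1 (preservesFiniteLimits_resZar S) C hC
  exact { exact := hex, mono_f := hmono, epi_g := epi_resZar_of_acyc S hC h }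

theorem main_aux [IsAffine S] :
    ∀ (i : ℕ) (G : EtCoh.Ab S), Acyc G →
      ∀ x : EtZar.H ((EtZar.resZar S).obj G) (i + 1), x = 0 := by
  intro i
  induction i with
  | zero =>
    intro G hG x
    let C : ShortComplex (EtCoh.Ab S) :=
      ShortComplex.mk (Injective.ι G) (cokernel.π (Injective.ι G)) (cokernel.condition _)
    have hC : C.ShortExact :=
      { exact := ShortComplex.exact_cokernel _
        mono_f := inferInstanceAs (Mono (Injective.ι G))
        epi_g := inferInstanceAs (Epi (cokernel.π (Injective.ι G))) }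
    haveI hI : Injective C.X₂ := inferInstanceAs (Injective (Injective.under G))
    have hRC : (C.map (EtZar.resZar S)).ShortExact := shortExact_resZar S hC hG
    haveI hRI : Injective (C.map (EtZar.resZar S)).X₂ := injective_resZar S C.X₂
    have hx' : x.comp (Ext.mk₀ (C.map (EtZar.resZar S)).f) (add_zero (0 + 1)) = 0 :=
      Ext.eq_zero_of_injective _
    obtain ⟨x₀, hx₀⟩ := Ext.covariant_sequence_exact₁ _ hRC x hx' rfl
    obtain ⟨q', rfl⟩ := (Ext.mk₀_bijective _ _).2 x₀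
    obtain ⟨q, hq⟩ := (h0_bijective S C.X₃).2 q'
    have hq' : uZ S ≫ (EtZar.resZar S).map q = q' := hq
    obtain ⟨p, hp⟩ := lift_global hC hG q
    have e : q' = (uZ S ≫ (EtZar.resZar S).map p) ≫ (C.map (EtZar.resZar S)).g :=
      calc q' = uZ S ≫ (EtZar.resZar S).map q := hq'.symm
        _ = uZ S ≫ (EtZar.resZar S).map (p ≫ C.g) := by rw [hp]
        _ = (uZ S ≫ (EtZar.resZar S).map p) ≫ (EtZar.resZar S).map C.g := by
          rw [Functor.map_comp, Category.assoc]
    have h0 : (Ext.mk₀ (C.map (EtZar.resZar S)).g).comp hRC.extClass (zero_add 1) = 0 :=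
      hRC.comp_extClass
    have e2 : (Ext.mk₀ ((uZ S ≫ (EtZar.resZar S).map p) ≫ (C.map (EtZar.resZar S)).g)).comp
        hRC.extClass (zero_add 1) = 0 := by
      rw [← Ext.mk₀_comp_mk₀_assoc]
      exact (congrArg (fun z => (Ext.mk₀ (uZ S ≫ (EtZar.resZar S).map p)).comp z (zero_add 1))
        h0).trans (Ext.comp_zero _ _ _ _ _)
    have e3 : (Ext.mk₀ q').comp hRC.extClass (zero_add 1) = 0 := by
      rw [e]
      exact e2
    exact hx₀.symm.trans e3
  | succ i ih =>
    intro G hG x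
    let C : ShortComplex (EtCoh.Ab S) :=
      ShortComplex.mk (Injective.ι G) (cokernel.π (Injective.ι G)) (cokernel.condition _)
    have hC : C.ShortExact :=
      { exact := ShortComplex.exact_cokernel _
        mono_f := inferInstanceAs (Mono (Injective.ι G))
        epi_g := inferInstanceAs (Epi (cokernel.π (Injective.ι G))) }
    haveI hI : Injective C.X₂ := inferInstanceAs (Injective (Injective.under G))
    have hRC : (C.map (EtZar.resZar S)).ShortExact := shortExact_resZar S hC hG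
    haveI hRI : Injective (C.map (EtZar.resZar S)).X₂ := injective_resZar S C.X₂
    have hx' : x.comp (Ext.mk₀ (C.map (EtZar.resZar S)).f) (add_zero (i + 1 + 1)) = 0 :=
      Ext.eq_zero_of_injective _
    obtain ⟨x₀, hx₀⟩ := Ext.covariant_sequence_exact₁ _ hRC x hx' rfl
    have hx₀0 : x₀ = 0 := ih C.X₃ (acyc_shift hC hG) x₀
    rw [← hx₀, hx₀0, Ext.zero_comp]
    rfl

end Zar

end Groth.Agent.H4.ZarAcyc
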